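import Cfsg.Agent.Chev.Ree.F4.Weyl
import Cfsg.Prelude.Def_LieExceptional

/-! The Tits system of the fixed group. -/

set_option autoImplicit false
set_option linter.dupNamespace false

open Cfsg.Lie

namespace Cfsg.Lib.Chev.ReeF

/-- The positive roots kept positive by a representative. -/
def radL (a : ℕ) : List ℕ := (List.range 48).filter fun r => decide (24 ≤ r ∧ 24 ≤ pr a r)

theorem rad_comm : ∀ a ∈ [8, 9], ∀ r < 48, 24 ≤ r → ∀ s ∈ radL a, s = r ∨ okP r s (radL a) = true := by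
  decide +kernel

theorem rad_perm : ∀ a ∈ [8, 9], ∀ s ∈ radL a, pr a s ∈ radL a := by decide +kernel

theorem inv_cases : ∀ a ∈ [8, 9], ∀ k < 16, (∀ r ∈ rts (OPk a), 24 ≤ pr k r) ∨
    ∀ r ∈ rts (OPk a), 24 ≤ pr k (pr a r) := by decide +kernel

theorem rad_only : ∀ a ∈ [8, 9], ∀ j < 16, (∀ r ∈ radL a, 24 ≤ pr j r) → j = 0 ∨ j = a := by decide +kernel

theorem inv_index : ∀ k < 16, ∃ k' < 16, mulI k' k = 0 ∧ mulI k k' = 0 := by decide +kernel

theorem opp : ∀ r < 48, (24 ≤ pr 4 r ↔ r < 24) := by decide +kernel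

theorem gen_words : ∀ k < 16, ∀ b ∈ WL.getD k [], b = false ∨ b = true := by decide +kernel

namespace RF

variable {K : Type*} [Field K] [Fintype K] (X : RF K)
include X

theorem diag_of_act {g : GL chevF4.Idx K} (hg : g ∈ chevF4.monomialSubgroup K) (ha : Act SF.ok g 1) :
    g ∈ chevF4.diagonalSubgroup K := by
  obtain ⟨M, hM, hiff⟩ := SF.exists_act hg
  exact hiff.1 (SF.act_unique hM ha)

theorem mono_index {n : GL chevF4.Idx K} (hn : n ∈ chevF4.monomialSubgroup K) (hG : n ∈ X.G1) :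
    ∃ k < 16, Act SF.ok n (wk k) := by
  obtain ⟨L, ha, -⟩ := SF.exists_act hn
  obtain ⟨k, hk, e⟩ := X.w_fixed hn (one_mem _) (by rw [mul_one]; exact (X.G1_le hG).2) ha
  exact ⟨k, hk, e ▸ ha⟩

theorem nk_sq {a : ℕ} (ha : a ∈ [8, 9]) : X.nk a * X.nk a ∈ chevF4.diagonalSubgroup K := by
  have : ∀ a ∈ [8, 9], a < 16 ∧ mulI a a = 0 := by decide
  obtain ⟨h1, h2⟩ := this a ha
  refine X.diag_of_act (mul_mem (X.nk_mono a) (X.nk_mono a)) ?_
  have := SF.act_mul (X.nk_act a) (X.nk_act a)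
  rwa [wk_mul h1 h1, h2, wk_zero] at this

omit X [Fintype K] in
theorem conj_closure {n : GL chevF4.Idx K} {S : Set (GL chevF4.Idx K)} {H : Subgroup (GL chevF4.Idx K)}
    (h : ∀ g ∈ S, n * g * n⁻¹ ∈ H) {g : GL chevF4.Idx K} (hg : g ∈ Subgroup.closure S) : n * g * n⁻¹ ∈ H :=
  (Subgroup.closure_le (H.comap (MulAut.conj n).toMonoidHom)).2 h hg

theorem act_UL {n : GL chevF4.Idx K} {k : ℕ} (hk : k < 16) (ha : Act SF.ok n (wk k)) {L : List (ℕ × ℕ)}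
    (hL : ∀ r ∈ rts L, r < chevF4.nroots ∧ 24 ≤ pr k r) {g : GL chevF4.Idx K} (hg : g ∈ UL K L) :
    n * g * n⁻¹ ∈ chevF4.posUnipotent K := by
  refine conj_closure ?_ hg
  rintro g ⟨r, hr, t, rfl⟩
  obtain ⟨hlt, hp⟩ := hL r hr
  obtain ⟨-, c, -, e⟩ := ha ⟨r, hlt⟩
  rw [(e t).1]
  exact SF.xG_mem_U (show 24 ≤ (wk k ⟨r, hlt⟩).val by rw [wk_val hk]; exact hp) (Fin.isLt _) _

/-- The radical of the parabolic of a representative. -/
noncomputable def Rad (_X : RF K) (a : ℕ) : Subgroup (GL chevF4.Idx K) :=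
  Subgroup.closure {g | ∃ r ∈ radL a, ∃ t : K, g = SF.ok.xG r t}

theorem U_conj_Rad {a : ℕ} (ha : a ∈ [8, 9]) {x g : GL chevF4.Idx K} (hx : x ∈ chevF4.posUnipotent K)
    (hg : g ∈ X.Rad a) : x * g * x⁻¹ ∈ X.Rad a := by
  have hr : ∀ r < chevF4.nroots, 24 ≤ r → ∀ t : K, ∀ g ∈ X.Rad a, SF.ok.xG r t * g * (SF.ok.xG r t)⁻¹ ∈ X.Rad a := by
    intro r hlt hp t g hg
    refine conj_closure ?_ hg
    rintro g ⟨s, hs, u, rfl⟩
    have hsmem : SF.ok.xG s u ∈ X.Rad a := Subgroup.subset_closure ⟨s, hs, u, rfl⟩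
    rcases rad_comm a ha r hlt hp s hs with rfl | hok
    · rwa [SF.ok.xG_mul, xG_inv, SF.ok.xG_mul, show t + u + -t = u by ring]
    · have hslt : s < chevF4.nroots := List.mem_range.1 (List.mem_filter.1 hs).1
      simp only [okP, Bool.and_eq_true, bne_iff_ne, List.all_eq_true, List.contains_eq_mem, decide_eq_true_eq] at hok
      have e := SF.ok.commRel SF.chain SF.base hlt hslt hok.1.1 hok.1.2 (-t) u
      rw [xG_inv, mul_assoc, e, mul_assoc (SF.ok.xG r (-t)), ← mul_assoc, SF.ok.xG_mul, add_neg_cancel, SF.xG_zero,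
        one_mul]
      refine mul_mem hsmem (list_prod_mem fun g hg => ?_)
      simp only [ChevalleyDatum.commWord, List.map_map, List.mem_map] at hg
      obtain ⟨q, hq, rfl⟩ := hg
      exact Subgroup.subset_closure ⟨_, hok.2 q hq, _, rfl⟩
  rw [show chevF4.posUnipotent K = UL K OP from UL_OP.symm] at hx
  have hgen : ∀ r ∈ rts OP, 24 ≤ r ∧ r < chevF4.nroots := by decide +kernel
  induction hx using Subgroup.closure_induction generalizing g with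
  | mem y hy =>
    obtain ⟨r, hr', t, rfl⟩ := hy
    exact hr r (hgen r hr').2 (hgen r hr').1 t g hg
  | one => simpa using hg
  | mul y z _ _ ihy ihz =>
    rw [show y * z * g * (y * z)⁻¹ = y * (z * g * z⁻¹) * y⁻¹ by group]
    exact ihy (ihz hg)
  | inv y _ ihy =>
    have hfin : ∃ N : ℕ, y⁻¹ = y ^ N := by
      obtain ⟨n, hn, hy⟩ := (isOfFinOrder_of_finite y).exists_pow_eq_one
      exact ⟨n - 1, inv_eq_of_mul_eq_one_right (by rw [← pow_succ', Nat.sub_add_cancel hn, hy])⟩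
    obtain ⟨N, hN⟩ := hfin
    rw [hN]
    clear hN
    induction N generalizing g with
    | zero => simpa using hg
    | succ N ih =>
      rw [pow_succ', show y * y ^ N * g * (y * y ^ N)⁻¹ = y * (y ^ N * g * (y ^ N)⁻¹) * y⁻¹ by group]
      exact ihy (ih hg)

theorem diag_conj_Rad {a : ℕ} {d g : GL chevF4.Idx K} (hd : d ∈ chevF4.diagonalSubgroup K)
    (hg : g ∈ X.Rad a) : d * g * d⁻¹ ∈ X.Rad a := by
  refine conj_closure ?_ hg
  rintro g ⟨s, hs, u, rfl⟩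
  obtain ⟨-, c, -, e⟩ := SF.act_diag hd ⟨s, List.mem_range.1 (List.mem_filter.1 hs).1⟩
  rw [(e u).1]
  exact Subgroup.subset_closure ⟨s, hs, _, rfl⟩

theorem B_conj_Rad {a : ℕ} (ha : a ∈ [8, 9]) {x g : GL chevF4.Idx K} (hx : x ∈ chevF4.borelSubgroup K)
    (hg : g ∈ X.Rad a) : x * g * x⁻¹ ∈ X.Rad a := by
  obtain ⟨u, hu, d, hd, rfl⟩ := SF.borel_decomp hx
  rw [show u * d * g * (u * d)⁻¹ = u * (d * g * d⁻¹) * u⁻¹ by group]
  exact X.U_conj_Rad ha hu (X.diag_conj_Rad hd hg)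

theorem nk_conj_Rad {a : ℕ} (ha : a ∈ [8, 9]) {g : GL chevF4.Idx K} (hg : g ∈ X.Rad a) :
    X.nk a * g * (X.nk a)⁻¹ ∈ X.Rad a := by
  refine conj_closure ?_ hg
  rintro g ⟨s, hs, u, rfl⟩
  have hs' : s < chevF4.nroots := List.mem_range.1 (List.mem_filter.1 hs).1
  obtain ⟨-, c, -, e⟩ := X.nk_act a ⟨s, hs'⟩
  rw [(e u).1]
  have ha' : a < 16 := by
    simp only [List.mem_cons, List.not_mem_nil, or_false] at ha
    omega
  rw [wk_val ha']
  exact Subgroup.subset_closure ⟨_, rad_perm a ha s hs, _, rfl⟩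

/-- The rank one fact. -/
theorem rank_one {a : ℕ} (ha : a ∈ [8, 9]) {g : GL chevF4.Idx K} (hg : g ∈ UL K (OPk a) ⊓ X.G1) :
    g = 1 ∨ ∃ x ∈ chevF4.borelSubgroup K ⊓ X.G1, ∃ z ∈ UL K (OPk a) ⊓ X.G1,
      X.nk a * g * (X.nk a)⁻¹ = x * X.nk a * z := by
  have ha' : a < 16 := by
    simp only [List.mem_cons, List.not_mem_nil, or_false] at ha
    omega
  set s := X.nk a
  have hgU : g ∈ chevF4.posUnipotent K := by
    have := hg.1
    rw [← UPsi_eq ha'] at this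
    exact SF.UPsi_le _ this
  have hh : s * g * s⁻¹ ∈ X.G1 := mul_mem (mul_mem (X.nk_mem a) hg.2) (inv_mem (X.nk_mem a))
  obtain ⟨j, hj, b, hb, v, hv, e⟩ := X.Gs_cases (X.G1_le hh)
  have hvU : v ∈ chevF4.posUnipotent K := by
    have := hv.1
    rw [← UPsi_eq hj] at this
    exact SF.UPsi_le _ this
  have hconj : ∀ y ∈ X.Rad a, X.nk j * y * (X.nk j)⁻¹ ∈ X.Rad a := fun y hy => by
    have e1 : X.nk j = b⁻¹ * (s * g * (s * (s * s)⁻¹)) * v⁻¹ := by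
      rw [show s * (s * s)⁻¹ = s⁻¹ by group, e]; group
    have h1 := X.U_conj_Rad ha (inv_mem hvU) hy
    have h2 := X.diag_conj_Rad (inv_mem (X.nk_sq ha)) h1
    have h3 := X.nk_conj_Rad ha (X.U_conj_Rad ha hgU (X.nk_conj_Rad ha h2))
    have h4 := X.B_conj_Rad ha (inv_mem hb.1) h3
    rw [e1]
    convert h4 using 1
    simp only [s]
    group
  have hpos : ∀ r ∈ radL a, 24 ≤ pr j r := fun r hr => by
    have hlt : r < chevF4.nroots := List.mem_range.1 (List.mem_filter.1 hr).1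
    by_contra hcon
    obtain ⟨-, c, hc, ec⟩ := X.nk_act j ⟨r, hlt⟩
    have h1 := hconj (SF.ok.xG r 1) (Subgroup.subset_closure ⟨r, hr, 1, rfl⟩)
    rw [(ec 1).1, mul_one] at h1
    have h2 : SF.ok.xG (wk j ⟨r, hlt⟩).val c ∈ chevF4.borelSubgroup K ⊓ chevF4.negUnipotent K := by
      refine Subgroup.mem_inf.2 ⟨SF.B_le_of ?_, Subgroup.subset_closure ⟨_, _, SF.isNeg_iff.2 ?_, SF.ok.val_xG _ _⟩⟩
      · refine (Subgroup.closure_le _).2 ?_ h1
        rintro y ⟨r', hr', t, rfl⟩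
        obtain ⟨h5, h6⟩ := List.mem_filter.1 hr'
        exact SF.xG_mem_U (of_decide_eq_true h6).1 (List.mem_range.1 h5) t
      · show (wk j ⟨r, hlt⟩).val < 24
        rw [wk_val hj]
        show pr j r < 24
        omega
    rw [SF.B_inf_V okNeg_F4, Subgroup.mem_bot] at h2
    exact hc (SF.xG_eq_one (Fin.isLt _) h2)
  rcases rad_only a ha j hj hpos with rfl | rfl
  · left
    have hn0 : X.nk 0 ∈ chevF4.diagonalSubgroup K :=
      X.diag_of_act (X.nk_mono 0) (wk_zero ▸ X.nk_act 0)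
    have h1 : s * g * s⁻¹ ∈ chevF4.borelSubgroup K ⊓ chevF4.negUnipotent K := by
      refine Subgroup.mem_inf.2 ⟨?_, SF.conj_Neg (X.nk_act a) (by rw [UPsi_eq ha']; exact hg.1)⟩
      rw [e]
      exact mul_mem (mul_mem hb.1 (Subgroup.mem_sup_right hn0)) (SF.B_le_of hvU)
    rw [SF.B_inf_V okNeg_F4, Subgroup.mem_bot, mul_inv_eq_one, mul_eq_left] at h1
    exact h1
  · exact Or.inr ⟨b, hb, v, hv, e⟩

theorem split {a : ℕ} (ha : a < 16) {u : GL chevF4.Idx K} (hu : u ∈ chevF4.posUnipotent K ⊓ X.G1) :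
    ∃ u' ∈ X.G1, ∃ g ∈ UL K (OPk a) ⊓ X.G1, u = u' * g ∧
      u' ∈ chevF4.posUnipotent K ∧ X.nk a * u' * (X.nk a)⁻¹ ∈ chevF4.posUnipotent K := by
  obtain ⟨huU, huG⟩ := hu
  have hu2 := huU
  rw [SF.posUnipotent_eq] at hu2
  have hs := SF.hsum
  obtain ⟨x, hx, v, hv, e⟩ := SF.split_Ugen (Struct.Neg chevF4 (wk a)) (chevF4.nroots - chevF4.nroots / 2)
    (chevF4.nroots / 2) (by omega) le_rfl _ hu2
  have hxU : x ∈ chevF4.posUnipotent K := SF.UPsi_le _ hx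
  have hvU : v ∈ chevF4.posUnipotent K := SF.UPsi_le _ hv
  have hvG : X.sg v ∈ SF.UPsi K (Struct.Neg chevF4 (wk a)) := by
    rw [UPsi_eq ha] at hv ⊢
    exact X.sg_UL (OPk_ok a ha).1 hv
  have hxG : X.sg x ∈ SF.UPsi K (fun r => ¬ Struct.Neg chevF4 (wk a) r) := by
    let Z : Subgroup (GL chevF4.Idx K) :=
      { carrier := {g | g ∈ chevF4.group K ∧ X.sg g ∈ SF.UPsi K (fun r => ¬ Struct.Neg chevF4 (wk a) r)}
        one_mem' := ⟨one_mem _, by rw [X.sg_one]; exact one_mem _⟩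
        mul_mem' := fun {a b} ha hb => ⟨mul_mem ha.1 hb.1, by rw [X.sg_mul ha.1 hb.1]; exact mul_mem ha.2 hb.2⟩
        inv_mem' := fun {a} ha => ⟨inv_mem ha.1, by rw [X.sg_inv ha.1]; exact inv_mem ha.2⟩ }
    refine ((Subgroup.closure_le Z).2 ?_ hx).2
    rintro g ⟨r, t, h1, h2, rfl⟩
    refine ⟨SF.ok.xG_mem_group _ _, ?_⟩
    rw [X.sg_xG r.isLt]
    obtain ⟨hρ, -, -, -, -, -, -, h8⟩ := tables r.val r.isLt
    refine Subgroup.subset_closure ⟨⟨ρ r.val, hρ⟩, _, h8.2 h1, fun hn => h2 ?_, rfl⟩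
    exact (cent_neg (wk_rho ha) (r := r) (q := ⟨ρ r.val, hρ⟩) rfl).1 hn
  have e2 := congrArg X.sg e
  rw [(X.G1_le huG).2, X.sg_mul (U_le_group hxU) (U_le_group hvU)] at e2
  have he : (X.sg x)⁻¹ * x = X.sg v * v⁻¹ := by
    rw [eq_mul_inv_iff_mul_eq, mul_assoc, ← e, e2, inv_mul_cancel_left]
  have h1 := SF.Neg_inter okNeg_F4 (X.nk_act a) (mul_mem (inv_mem hxG) hx) (he ▸ mul_mem hvG (inv_mem hv))
  have hfx : X.sg x = x := inv_mul_eq_one.1 h1
  have hfv : X.sg v = v := mul_inv_eq_one.1 (he.symm.trans h1)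
  have mem : ∀ y ∈ chevF4.posUnipotent K, X.sg y = y → y ∈ X.G1 := fun y hy hf =>
    (Subgroup.mem_inf.1 (X.U1_eq.ge (⟨hy, U_le_group hy, hf⟩ : y ∈ chevF4.posUnipotent K ⊓ X.Gs))).2
  refine ⟨x, mem x hxU hfx, v, ⟨by rwa [← UPsi_eq ha], mem v hvU hfv⟩, e, hxU, ?_⟩
  exact SF.conj_Pos (X.nk_act a) hx

theorem bn_axiom {a : ℕ} (ha : a ∈ [8, 9]) {n b : GL chevF4.Idx K}
    (hn : n ∈ chevF4.monomialSubgroup K ⊓ X.G1) (hb : b ∈ chevF4.borelSubgroup K ⊓ X.G1) :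
    ∃ x ∈ chevF4.borelSubgroup K ⊓ X.G1, ∃ z ∈ chevF4.borelSubgroup K ⊓ X.G1,
      X.nk a * b * n = x * (X.nk a * n) * z ∨ X.nk a * b * n = x * n * z := by
  have ha' : a < 16 := by
    simp only [List.mem_cons, List.not_mem_nil, or_false] at ha
    omega
  obtain ⟨u, hu, d, hd, rfl⟩ := X.borel_fixed hb.1 (X.G1_le hb.2).2
  have hnG : n ∈ X.G1 := hn.2
  have hdG : d ∈ X.G1 := hd.2
  have hnN : n ∈ chevF4.monomialSubgroup K := hn.1
  obtain ⟨u', hu'G, g, hg, rfl, -, hu'c⟩ := X.split ha' hu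
  set s := X.nk a
  have hsG := X.nk_mem a
  have hx : s * u' * s⁻¹ ∈ chevF4.borelSubgroup K ⊓ X.G1 :=
    Subgroup.mem_inf.2 ⟨SF.B_le_of hu'c, mul_mem (mul_mem hsG hu'G) (inv_mem hsG)⟩
  have hz : n⁻¹ * d * n ∈ chevF4.borelSubgroup K ⊓ X.G1 := by
    refine Subgroup.mem_inf.2 ⟨Subgroup.mem_sup_right ?_, mul_mem (mul_mem (inv_mem hnG) hdG) hnG⟩
    simpa using SF.norm_diag (inv_mem hnN) hd.1
  obtain ⟨k, hk, hact⟩ := X.mono_index (inv_mem hnN) (inv_mem hnG)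
  have hlt : ∀ r ∈ rts (OPk a), r < chevF4.nroots := rts_lt (OPk_ok a ha').1
  rcases inv_cases a ha k hk with hp | hp
  · refine ⟨_, hx, n⁻¹ * g * n * (n⁻¹ * d * n), mul_mem (Subgroup.mem_inf.2 ⟨SF.B_le_of ?_, mul_mem (mul_mem (inv_mem hnG) hg.2) hnG⟩) hz,
      Or.inl (by group)⟩
    simpa using X.act_UL hk hact (fun r hr => ⟨hlt r hr, hp r hr⟩) hg.1
  · rcases X.rank_one ha hg with rfl | ⟨x, hx', z, hz', e⟩
    · exact ⟨_, hx, _, hz, Or.inl (by group)⟩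
    · have hzc : n⁻¹ * (s⁻¹ * z * s) * n ∈ chevF4.borelSubgroup K ⊓ X.G1 := by
        refine Subgroup.mem_inf.2 ⟨SF.B_le_of ?_, mul_mem (mul_mem (inv_mem hnG) (mul_mem (mul_mem (inv_mem hsG) hz'.2) hsG)) hnG⟩
        have hinv : Act SF.ok s⁻¹ (wk a) := by
          have h1 := SF.act_mul (SF.act_diag (inv_mem (X.nk_sq ha))) (X.nk_act a)
          rwa [one_mul, mul_inv_rev, inv_mul_cancel_right] at h1
        have hc := SF.act_mul hact hinv
        rw [wk_mul hk ha'] at hc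
        have hpr : ∀ r ∈ rts (OPk a), r < chevF4.nroots ∧ 24 ≤ pr (mulI k a) r := fun r hr => by
          refine ⟨hlt r hr, ?_⟩
          rw [← mul_ok k hk a ha' r (hlt r hr)]
          exact hp r hr
        have := X.act_UL (mulI_lt k hk a ha') hc hpr hz'.1
        simpa [mul_assoc] using this
      refine ⟨s * u' * s⁻¹ * x * (s * s), mul_mem (mul_mem hx hx') ⟨Subgroup.mem_sup_right (X.nk_sq ha), mul_mem hsG hsG⟩,
        n⁻¹ * (s⁻¹ * z * s) * n * (n⁻¹ * d * n), mul_mem hzc hz, Or.inr ?_⟩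
      calc s * (u' * g * d) * n = s * u' * s⁻¹ * (s * g * s⁻¹) * s * d * n := by group
        _ = _ := by rw [e]; simp only [s]; group

theorem nk_word (W : List Bool) (S : Subgroup (GL chevF4.Idx K)) (h : X.nk 8 ∈ S ∧ X.nk 9 ∈ S) :
    SF.nL K (flat W) ∈ S := by
  rw [nL_flat]
  refine list_prod_mem fun g hg => ?_
  obtain ⟨b, -, rfl⟩ := List.mem_map.1 hg
  have e : WL.getD 8 [] = [false] ∧ WL.getD 9 [] = [true] := by decide +kernel
  cases b
  · have := h.1; rw [nk, e.1] at this; simpa [flat] using this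
  · have := h.2; rw [nk, e.2] at this; simpa [flat] using this

theorem exists_BN : ∃ P : Cfsg.BNPair ↥X.G1,
    P.B = (chevF4.borelSubgroup K ⊓ X.G1).subgroupOf X.G1 ∧
    P.N = (chevF4.monomialSubgroup K ⊓ X.G1).subgroupOf X.G1 ∧
    P.S = {s : ↥X.G1 | ∃ a ∈ [8, 9], (s : GL chevF4.Idx K) = X.nk a} := by
  have hlt : ∀ a ∈ [8, 9], a < 16 := by decide
  refine ⟨{
    B := (chevF4.borelSubgroup K ⊓ X.G1).subgroupOf X.G1
    N := (chevF4.monomialSubgroup K ⊓ X.G1).subgroupOf X.G1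
    S := {s : ↥X.G1 | ∃ a ∈ [8, 9], (s : GL chevF4.Idx K) = X.nk a}
    sup_eq_top := ?_
    conj_mem := ?_
    subset := ?_
    sq_mem := ?_
    inj := ?_
    closure_sup := ?_
    mul_mem_union := ?_
    conj_ne := ?_ }, rfl, rfl, rfl⟩
  · rw [eq_top_iff]
    rintro ⟨g, hg⟩ -
    obtain ⟨k, hk, b, hb, u, hu, e⟩ := X.Gs_cases (X.G1_le hg)
    have e' : (⟨g, hg⟩ : ↥X.G1) = ⟨b, hb.2⟩ * ⟨X.nk k, X.nk_mem k⟩ * ⟨u, hu.2⟩ := Subtype.ext e
    rw [e']
    have hu' : u ∈ chevF4.posUnipotent K := (UL_mono (L' := OP) fun r hr => by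
      have : ∀ k < 16, ∀ r ∈ rts (OPk k), r ∈ rts OP := by decide +kernel
      exact this k hk r hr).trans UL_OP.le hu.1
    refine mul_mem (mul_mem (Subgroup.mem_sup_left ⟨hb.1, hb.2⟩) (Subgroup.mem_sup_right ⟨X.nk_mono k, X.nk_mem k⟩))
      (Subgroup.mem_sup_left ⟨SF.B_le_of hu', hu.2⟩)
  · intro n hn t ht
    simp only [Subgroup.mem_inf, Subgroup.mem_subgroupOf, Subgroup.coe_mul, Subgroup.coe_inv] at hn ht ⊢
    refine ⟨Subgroup.mem_sup_right (SF.norm_diag hn.1 ?_), mul_mem (mul_mem hn.2 ht.1.2) (X.G1.inv_mem hn.2)⟩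
    rw [← SF.B_inf_N]
    exact ⟨ht.1.1, ht.2.1⟩
  · rintro s ⟨a, -, e⟩
    simp only [SetLike.mem_coe, Subgroup.mem_subgroupOf, Subgroup.mem_inf, e]
    exact ⟨X.nk_mono a, X.nk_mem a⟩
  · rintro s ⟨a, ha, e⟩
    simp only [Subgroup.mem_subgroupOf, Subgroup.mem_inf, Subgroup.coe_mul, e]
    exact ⟨Subgroup.mem_sup_right (X.nk_sq ha), mul_mem (X.nk_mem a) (X.nk_mem a)⟩
  · rintro s ⟨a, ha, e⟩ s' ⟨a', ha', e'⟩ h
    simp only [Subgroup.mem_subgroupOf, Subgroup.mem_inf, Subgroup.coe_mul, Subgroup.coe_inv, e, e'] at h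
    have hd : (X.nk a)⁻¹ * X.nk a' ∈ chevF4.diagonalSubgroup K := by
      rw [← SF.B_inf_N]
      exact Subgroup.mem_inf.2 ⟨h.1, mul_mem (inv_mem (X.nk_mono a)) (X.nk_mono a')⟩
    have h1 := SF.act_mul (X.nk_act a) (SF.act_diag hd)
    rw [mul_inv_cancel_left, mul_one] at h1
    have := wk_inj (hlt a ha) (hlt a' ha') (SF.act_unique h1 (X.nk_act a'))
    exact Subtype.ext (by rw [e, e', this])
  · apply le_antisymm
    · refine sup_le ((Subgroup.closure_le _).2 ?_) inf_le_right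
      rintro s ⟨a, -, e⟩
      simp only [SetLike.mem_coe, Subgroup.mem_subgroupOf, Subgroup.mem_inf, e]
      exact ⟨X.nk_mono a, X.nk_mem a⟩
    · intro n hn
      simp only [Subgroup.mem_subgroupOf, Subgroup.mem_inf] at hn
      obtain ⟨k, hk, ha⟩ := X.mono_index hn.1 hn.2
      set T := Subgroup.closure {s : ↥X.G1 | ∃ a ∈ [8, 9], (s : GL chevF4.Idx K) = X.nk a}
      have hw : X.nk k ∈ T.map X.G1.subtype := X.nk_word _ _
        ⟨⟨⟨_, X.nk_mem 8⟩, Subgroup.subset_closure ⟨8, by simp, rfl⟩, rfl⟩,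
          ⟨⟨_, X.nk_mem 9⟩, Subgroup.subset_closure ⟨9, by simp, rfl⟩, rfl⟩⟩
      obtain ⟨c, hc, ec⟩ := hw
      have hd : n.1 * (X.nk k)⁻¹ ∈ chevF4.diagonalSubgroup K := by
        refine X.diag_of_act (mul_mem hn.1 (inv_mem (X.nk_mono k))) ?_
        obtain ⟨M, hM, -⟩ := SF.exists_act (mul_mem hn.1 (inv_mem (X.nk_mono k)))
        have h1 := SF.act_mul hM (g' := X.nk k) (X.nk_act k)
        rw [inv_mul_cancel_right] at h1
        have := SF.act_unique ha h1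
        rwa [mul_eq_right.1 this.symm] at hM
      rw [show n = n * c⁻¹ * c from (inv_mul_cancel_right n c).symm]
      refine mul_mem (Subgroup.mem_sup_right ?_) (Subgroup.mem_sup_left hc)
      have ec' : (c : GL chevF4.Idx K) = X.nk k := ec
      simp only [Subgroup.mem_inf, Subgroup.mem_subgroupOf, Subgroup.coe_mul, Subgroup.coe_inv, ec']
      exact ⟨⟨Subgroup.mem_sup_right hd, mul_mem hn.2 (inv_mem (X.nk_mem k))⟩, mul_mem hn.1 (inv_mem (X.nk_mono k)),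
        mul_mem hn.2 (inv_mem (X.nk_mem k))⟩
  · rintro s ⟨a, ha, e⟩ n hn b hb
    simp only [Subgroup.mem_subgroupOf] at hn hb
    obtain ⟨x, hx, z, hz, h⟩ := X.bn_axiom ha hn hb
    simp only [Set.mem_union, DoubleCoset.mem_doubleCoset, SetLike.mem_coe, Subgroup.mem_subgroupOf]
    rcases h with h | h
    · exact Or.inl ⟨⟨x, hx.2⟩, hx, ⟨z, hz.2⟩, hz, Subtype.ext (by simp [e, h])⟩
    · exact Or.inr ⟨⟨x, hx.2⟩, hx, ⟨z, hz.2⟩, hz, Subtype.ext (by simp [e, h])⟩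
  · rintro s ⟨a, ha, e⟩ h
    obtain ⟨c, L, hcL⟩ := List.exists_cons_of_ne_nil (l := OPk a) (by
      have : ∀ a ∈ [8, 9], OPk a ≠ [] := by decide +kernel
      exact this a ha)
    have hgood := X.good_OPk (hlt a ha)
    rw [hcL] at hgood
    obtain ⟨g, hg, hgm⟩ := X.lift hgood 1
    have hgG : g ∈ X.G1 := by rw [X.G1_eq]; exact hg.2
    have hgU : g ∈ SF.UPsi K (Struct.Neg chevF4 (wk a)) := by rw [UPsi_eq (hlt a ha), hcL]; exact hg.1
    have hbm : (⟨g, hgG⟩ : ↥X.G1) ∈ ((chevF4.borelSubgroup K ⊓ X.G1).subgroupOf X.G1 : Set ↥X.G1) :=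
      ⟨SF.B_le_of (SF.UPsi_le _ hgU), hgG⟩
    have h1 := Set.mem_image_of_mem (fun b : ↥X.G1 => s * b * s) hbm
    rw [h] at h1
    simp only [SetLike.mem_coe, Subgroup.mem_subgroupOf, Subgroup.mem_inf, Subgroup.coe_mul, e] at h1
    have h2 : X.nk a * g * (X.nk a)⁻¹ ∈ chevF4.borelSubgroup K ⊓ chevF4.negUnipotent K := by
      refine Subgroup.mem_inf.2 ⟨?_, SF.conj_Neg (X.nk_act a) hgU⟩
      rw [show X.nk a * g * (X.nk a)⁻¹ = X.nk a * g * X.nk a * (X.nk a * X.nk a)⁻¹ by group]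
      exact mul_mem h1.1 (inv_mem (Subgroup.mem_sup_right (X.nk_sq ha)))
    rw [SF.B_inf_V okNeg_F4, Subgroup.mem_bot, mul_inv_eq_one, mul_eq_left] at h2
    exact one_ne_zero (hgm.unique hgood (h2 ▸ Mem.of_tail (one_mem _))).2

end RF

end Cfsg.Lib.Chev.ReeF
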