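import Cfsg.Agent.Chev.Ree.F4.Setup
import Cfsg.Agent.Chev.Tw.Setup

/-! The sixteen elements of the Weyl group fixed by the automorphism. -/

set_option autoImplicit false
set_option linter.dupNamespace false
set_option Elab.async false
set_option maxRecDepth 20000

open Cfsg.Lie

namespace Cfsg.Lib.Chev.ReeF

/-- An index of a fundamental root. -/
def fi (i : ℕ) (h : i < 4 := by decide) : Fin chevF4.rank := ⟨i, h⟩

/-- The simple indices of an orbit: `false` for the orthogonal pair, `true` for type B₂. -/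
def orbF : Bool → List (Fin chevF4.rank)
  | false => [fi 0, fi 3]
  | true => [fi 1, fi 2, fi 1, fi 2]

/-- The simple indices of a word in the orbits. -/
def flat (K : List Bool) : List (Fin chevF4.rank) := K.flatMap orbF

/-- Representatives of the sixteen elements. -/
def WL : List (List Bool) :=
  [[], [false, true], [false, true, false, true], [false, true, false, true, false, true], [false, true, false, true, false, true, false, true], [true, false, true, false, true, false], [true, false, true, false], [true, false], [false], [true], [true, false, true], [true, false, true, false, true], [true, false, true, false, true, false, true], [false, true, false, true, false, true, false], [false, true, false, true, false], [false, true, false]]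

/-- Their permutations. -/
def PT : List (List ℕ) :=
  [[0, 1, 2, 3, 4, 5, 6, 7, 8, 9, 10, 11, 12, 13, 14, 15, 16, 17, 18, 19, 20, 21, 22, 23, 24, 25, 26, 27, 28, 29, 30, 31, 32, 33, 34, 35, 36, 37, 38, 39, 40, 41, 42, 43, 44, 45, 46, 47],
   [1, 17, 15, 7, 2, 0, 16, 19, 10, 8, 33, 3, 20, 18, 9, 24, 22, 42, 12, 36, 34, 6, 26, 4, 43, 21, 41, 13, 11, 35, 5, 25, 23, 38, 29, 27, 44, 14, 39, 37, 28, 31, 47, 45, 40, 32, 30, 46],
   [17, 42, 24, 19, 15, 1, 22, 36, 33, 10, 38, 7, 34, 12, 8, 43, 26, 47, 20, 44, 29, 16, 41, 2, 45, 6, 31, 18, 3, 27, 0, 21, 4, 39, 35, 13, 40, 9, 37, 14, 11, 25, 46, 32, 28, 23, 5, 30],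
   [42, 47, 43, 36, 24, 17, 26, 44, 38, 33, 39, 19, 29, 20, 10, 45, 41, 46, 34, 40, 35, 22, 31, 15, 32, 16, 25, 12, 7, 13, 1, 6, 2, 37, 27, 18, 28, 8, 14, 9, 3, 21, 30, 23, 11, 4, 0, 5],
   [47, 46, 45, 44, 43, 42, 41, 40, 39, 38, 37, 36, 35, 34, 33, 32, 31, 30, 29, 28, 27, 26, 25, 24, 23, 22, 21, 20, 19, 18, 17, 16, 15, 14, 13, 12, 11, 10, 9, 8, 7, 6, 5, 4, 3, 2, 1, 0],
   [46, 30, 32, 40, 45, 47, 31, 28, 37, 39, 14, 44, 27, 29, 38, 23, 25, 5, 35, 11, 13, 41, 21, 43, 4, 26, 6, 34, 36, 12, 42, 22, 24, 9, 18, 20, 3, 33, 8, 10, 19, 16, 0, 2, 7, 15, 17, 1],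
   [30, 5, 23, 28, 32, 46, 25, 11, 14, 37, 9, 40, 13, 35, 39, 4, 21, 0, 27, 3, 18, 31, 6, 45, 2, 41, 16, 29, 44, 20, 47, 26, 43, 8, 12, 34, 7, 38, 10, 33, 36, 22, 1, 15, 19, 24, 42, 17],
   [5, 0, 4, 11, 23, 30, 21, 3, 9, 14, 8, 28, 18, 27, 37, 2, 6, 1, 13, 7, 12, 25, 16, 32, 15, 31, 22, 35, 40, 34, 46, 41, 45, 10, 20, 29, 19, 39, 33, 38, 44, 26, 17, 24, 36, 43, 47, 42],
   [1, 0, 2, 7, 15, 17, 16, 3, 8, 10, 9, 19, 18, 20, 33, 4, 6, 5, 12, 11, 13, 22, 21, 24, 23, 26, 25, 34, 36, 35, 42, 41, 43, 14, 27, 29, 28, 38, 37, 39, 44, 31, 30, 32, 40, 45, 47, 46],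
   [0, 5, 4, 3, 2, 1, 6, 11, 9, 8, 14, 7, 13, 12, 10, 23, 21, 30, 18, 28, 27, 16, 25, 15, 32, 22, 31, 20, 19, 29, 17, 26, 24, 37, 35, 34, 40, 33, 39, 38, 36, 41, 46, 45, 44, 43, 42, 47],
   [5, 30, 23, 11, 4, 0, 21, 28, 14, 9, 37, 3, 27, 18, 8, 32, 25, 46, 13, 40, 35, 6, 31, 2, 45, 16, 41, 12, 7, 34, 1, 22, 15, 39, 29, 20, 44, 10, 38, 33, 19, 26, 47, 43, 36, 24, 17, 42],
   [30, 46, 32, 28, 23, 5, 25, 40, 37, 14, 39, 11, 35, 13, 9, 45, 31, 47, 27, 44, 29, 21, 41, 4, 43, 6, 26, 18, 3, 20, 0, 16, 2, 38, 34, 12, 36, 8, 33, 10, 7, 22, 42, 24, 19, 15, 1, 17],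
   [46, 47, 45, 40, 32, 30, 31, 44, 39, 37, 38, 28, 29, 27, 14, 43, 41, 42, 35, 36, 34, 25, 26, 23, 24, 21, 22, 13, 11, 12, 5, 6, 4, 33, 20, 18, 19, 9, 10, 8, 3, 16, 17, 15, 7, 2, 0, 1],
   [47, 42, 43, 44, 45, 46, 41, 36, 38, 39, 33, 40, 34, 35, 37, 24, 26, 17, 29, 19, 20, 31, 22, 32, 15, 25, 16, 27, 28, 18, 30, 21, 23, 10, 12, 13, 7, 14, 8, 9, 11, 6, 1, 2, 3, 4, 5, 0],
   [42, 17, 24, 36, 43, 47, 26, 19, 33, 38, 10, 44, 20, 29, 39, 15, 22, 1, 34, 7, 12, 41, 16, 45, 2, 31, 6, 35, 40, 13, 46, 25, 32, 8, 18, 27, 3, 37, 9, 14, 28, 21, 0, 4, 11, 23, 30, 5],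
   [17, 1, 15, 19, 24, 42, 22, 7, 10, 33, 8, 36, 12, 34, 38, 2, 16, 0, 20, 3, 18, 26, 6, 43, 4, 41, 21, 29, 44, 27, 47, 31, 45, 9, 13, 35, 11, 39, 14, 37, 40, 25, 5, 23, 28, 32, 46, 30]]

/-- The image of a root. -/
def pr (k r : ℕ) : ℕ := (PT.getD k []).getD r 0

/-- The index of a product. -/
def mulI (k l : ℕ) : ℕ :=
  if k < 8 then (if l < 8 then (k + l) % 8 else 8 + (l - 8 + 8 - k) % 8)
  else (if l < 8 then 8 + (k - 8 + l) % 8 else (l - 8 + 8 - (k - 8)) % 8)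

theorem mulI_lt : ∀ k < 16, ∀ l < 16, mulI k l < 16 := by decide +kernel

theorem table_ok : ∀ k < 16, ∀ r < 48, F4.cert.wL ((flat (WL.getD k [])).map Fin.val) r = pr k r := by decide +kernel

theorem mul_ok : ∀ k < 16, ∀ l < 16, ∀ r < 48, pr k (pr l r) = pr (mulI k l) r := by decide +kernel

theorem pr_one : ∀ r < 48, pr 0 r = r := by decide +kernel

theorem pr_rho : ∀ k < 16, ∀ r < 48, pr k (ρ r) = ρ (pr k r) := by decide +kernel

theorem pr_inj : ∀ k < 16, ∀ l < 16, pr k 33 = pr l 33 → pr k 27 = pr l 27 → k = l := by decide +kernel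

/-- The permutation attached to an index. -/
noncomputable def wk (k : ℕ) : Equiv.Perm (Fin chevF4.nroots) := SF.wpL (flat (WL.getD k []))

theorem wk_val {k : ℕ} (hk : k < 16) (r : Fin chevF4.nroots) : (wk k r).val = pr k r.val := by
  rw [wk, SF.wpL_val, table_ok k hk r.val r.isLt]

theorem wk_mul {k l : ℕ} (hk : k < 16) (hl : l < 16) : wk k * wk l = wk (mulI k l) := by
  refine Equiv.ext fun r => Fin.ext ?_
  rw [Equiv.Perm.mul_apply, wk_val hk, wk_val hl, wk_val (mulI_lt k hk l hl), mul_ok k hk l hl r.val r.isLt]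

theorem wk_zero : wk 0 = 1 :=
  Equiv.ext fun r => Fin.ext (by rw [wk_val (by norm_num), pr_one r.val r.isLt, Equiv.Perm.one_apply])

theorem wk_inj {k l : ℕ} (hk : k < 16) (hl : l < 16) (h : wk k = wk l) : k = l := by
  refine pr_inj k hk l hl ?_ ?_
  · have := congrArg (fun w : Equiv.Perm (Fin chevF4.nroots) => (w ⟨33, by decide +kernel⟩).val) h
    simpa [wk_val hk, wk_val hl] using this
  · have := congrArg (fun w : Equiv.Perm (Fin chevF4.nroots) => (w ⟨27, by decide +kernel⟩).val) h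
    simpa [wk_val hk, wk_val hl] using this

theorem wk_rho {k : ℕ} (hk : k < 16) (r q : Fin chevF4.nroots) (h : q.val = ρ r.val) :
    (wk k q).val = ρ (wk k r).val := by
  rw [wk_val hk, wk_val hk, h, pr_rho k hk r.val r.isLt]

end Cfsg.Lib.Chev.ReeF
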