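import Cfsg.Agent.Chev.Ree.F4.Setup

/-! Evaluation of words over the field of two elements. -/

set_option autoImplicit false
open Cfsg.Lie
namespace Cfsg.Lib.Chev.ReeF
namespace Word
/-- The coordinates, as a list. -/
def idxL : List chevF4.Idx := (List.finRange 4).map Sum.inl ++ (List.finRange 48).map Sum.inr

theorem idxL_mem : ∀ a : chevF4.Idx, a ∈ idxL := by
  rintro (i | i)
  · exact List.mem_append_left _ (List.mem_map.2 ⟨i, List.mem_finRange _, rfl⟩)
  · exact List.mem_append_right _ (List.mem_map.2 ⟨i, List.mem_finRange _, rfl⟩)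

theorem idxL_get (a : chevF4.Idx) : idxL[enc chevF4.rank chevF4.nroots a]? = some a := by
  rcases a with ⟨i, hi⟩ | ⟨i, hi⟩
  · change i < 4 at hi
    interval_cases i <;> rfl
  · change i < 48 at hi
    interval_cases i <;> rfl

variable {F : Type*} [Field F] [DecidableEq F]

/-- A row vector times `x_r(t)`. -/
noncomputable def stepS (r : ℕ) (t : F) (v : List F) : List F :=
  idxL.map fun b => v.getD (enc chevF4.rank chevF4.nroots b) 0 + ((F4.cert.row r).map fun e =>
    if enc chevF4.rank chevF4.nroots b = e.c then (e.k : F) * t ^ e.j * v.getD e.r 0 else 0).sum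

omit [DecidableEq F] in
theorem stepS_eq {r : ℕ} (hr : r < chevF4.nroots) (t : F) (g : chevF4.Idx → F) :
    stepS r t (idxL.map g) = idxL.map (Matrix.vecMul g (chevF4.x F r t)) := by
  have hne : chevF4.negIdx.getD r 0 ≠ r := by
    have := SF.ok.neg_ne hr; rwa [SF.ok.neg_eq hr] at this
  have hg : ∀ a : chevF4.Idx, (idxL.map g).getD (enc chevF4.rank chevF4.nroots a) 0 = g a := fun a => by
    rw [List.getD_eq_getElem?_getD, List.getElem?_map, idxL_get]; rfl
  refine List.map_congr_left fun b _ => ?_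
  have hB : ∀ e ∈ F4.cert.row r, e.i = 0 ∧ e.r < chevF4.rank + chevF4.nroots := fun e he => by
    refine ⟨SF.ok.row_i_zero hr e he, ?_⟩
    have hm : F4.cert.row r ∈ F4.cert.tab := by
      rw [Cert.row, List.getD_eq_getElem _ _ (by rw [SF.ok.basics.2.2.2.1]; simpa using hr)]
      exact List.getElem_mem _
    have h2 := (SF.ok.basics.2.2.2.2.2.2 _ hm e he).1
    rwa [SF.ok.l_eq, SF.ok.n_eq] at h2
  rw [hg, x_eq_xR hr hne, xR, ← SF.ok.row_eq hr, Matrix.vecMul_add, Matrix.vecMul_one]
  show _ = g b + Matrix.vecMul g (ev chevF4.rank chevF4.nroots 0 t (F4.cert.row r)) b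
  congr 1
  generalize F4.cert.row r = L at hB ⊢
  induction L with
  | nil => simp
  | cons e L ih =>
    rw [List.map_cons, List.sum_cons, ih (fun e' he' => hB e' (List.mem_cons_of_mem _ he')), ev_cons,
      Matrix.vecMul_add, Pi.add_apply]
    congr 1
    obtain ⟨hi, hlt⟩ := hB e List.mem_cons_self
    obtain ⟨a, ha⟩ := exists_enc chevF4.rank chevF4.nroots hlt
    show _ = ∑ x, g x * (((e.k : F) * (0 ^ e.i * t ^ e.j)) • unit F chevF4.rank chevF4.nroots e.r e.c) x b
    rw [Finset.sum_eq_single a (fun x _ hx => by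
      have : enc chevF4.rank chevF4.nroots x ≠ e.r := fun h => hx (enc_injective _ _ (h.trans ha.symm))
      simp [unit, this]) (by simp), ← ha, hg]
    simp only [unit, Matrix.smul_apply, Matrix.of_apply, hi, pow_zero, one_mul, true_and, smul_eq_mul]
    split_ifs <;> ring

/-- The value of a bit. -/
def bitV (v n : ℕ) : ZMod 2 := bif v.testBit n then 1 else 0

/-- A row vector over the prime field, as a number, times `x_r(1)`. -/
noncomputable def stepB (r v : ℕ) : ℕ :=
  (F4.cert.row r).foldr (fun e acc => bif v.testBit e.r && (e.k.natAbs % 2 == 1) then acc ^^^ 2 ^ e.c else acc) v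

/-- A row vector times a word of root elements with parameter one. -/
noncomputable def runB : List ℕ → ℕ → ℕ
  | [], v => v
  | r :: w, v => runB w (stepB r v)

theorem bitV_fold (v n : ℕ) : ∀ L : List Tm,
    bitV (L.foldr (fun e acc => bif v.testBit e.r && (e.k.natAbs % 2 == 1) then acc ^^^ 2 ^ e.c else acc) v) n =
      bitV v n + (L.map fun e => if n = e.c then (e.k : ZMod 2) * 1 ^ e.j * bitV v e.r else 0).sum
  | [] => by simp
  | e :: L => by
    rw [List.map_cons, List.sum_cons, add_left_comm, ← bitV_fold v n L, List.foldr_cons]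
    generalize L.foldr (fun e acc => bif v.testBit e.r && (e.k.natAbs % 2 == 1) then acc ^^^ 2 ^ e.c else acc) v = acc
    have hk : (e.k : ZMod 2) = if e.k.natAbs % 2 = 1 then 1 else 0 := by
      rcases Int.emod_two_eq_zero_or_one e.k with h | h
      · rw [← ZMod.intCast_mod e.k 2, Nat.cast_two, h, if_neg (by omega)]; rfl
      · rw [← ZMod.intCast_mod e.k 2, Nat.cast_two, h, if_pos (by omega)]; rfl
    simp only [bitV, hk, one_pow, mul_one]
    by_cases hn : n = e.c <;> by_cases h1 : e.k.natAbs % 2 = 1 <;> cases hv : v.testBit e.r <;>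
      cases ha : acc.testBit n <;> simp [hn, h1, Nat.testBit_xor, Nat.testBit_two_pow, eq_comm (a := e.c), ha] <;>
      simp_all [CharTwo.add_self_eq_zero]

theorem stepB_eq {r : ℕ} (hr : r < chevF4.nroots) (g : chevF4.Idx → ZMod 2) (v : ℕ)
    (hg : ∀ a, g a = bitV v (enc chevF4.rank chevF4.nroots a)) (a : chevF4.Idx) :
    Matrix.vecMul g (chevF4.x (ZMod 2) r 1) a = bitV (stepB r v) (enc chevF4.rank chevF4.nroots a) := by
  have h := stepS_eq hr (1 : ZMod 2) g
  rw [stepS] at h
  have h2 := List.map_inj_left.1 h a (idxL_mem a)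
  have hd : ∀ a : chevF4.Idx, (idxL.map g).getD (enc chevF4.rank chevF4.nroots a) 0 = g a := fun a => by
    rw [List.getD_eq_getElem?_getD, List.getElem?_map, idxL_get]; rfl
  rw [← h2, stepB, bitV_fold, hd, hg a]
  refine congrArg (bitV v _ + ·) (congrArg List.sum (List.map_congr_left fun e he => ?_))
  have hlt : e.r < chevF4.rank + chevF4.nroots := by
    have hm : F4.cert.row r ∈ F4.cert.tab := by
      rw [Cert.row, List.getD_eq_getElem _ _ (by rw [SF.ok.basics.2.2.2.1]; simpa using hr)]
      exact List.getElem_mem _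
    have h2 := (SF.ok.basics.2.2.2.2.2.2 _ hm e he).1
    rwa [SF.ok.l_eq, SF.ok.n_eq] at h2
  obtain ⟨x, hx⟩ := exists_enc chevF4.rank chevF4.nroots hlt
  rw [← hx, hd, hg]

theorem runB_eq : ∀ (w : List ℕ) (g : chevF4.Idx → ZMod 2) (v : ℕ), (∀ r ∈ w, r < chevF4.nroots) →
    (∀ a, g a = bitV v (enc chevF4.rank chevF4.nroots a)) → ∀ a,
    Matrix.vecMul g (chevF4.wordMat (ZMod 2) (w.map fun r => (r, 1))) a =
      bitV (runB w v) (enc chevF4.rank chevF4.nroots a)
  | [], g, v, _, hg, a => by simpa [runB, ChevalleyDatum.wordMat] using hg a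
  | r :: w, g, v, h, hg, a => by
    have := runB_eq w (Matrix.vecMul g (chevF4.x (ZMod 2) r 1)) (stepB r v)
      (fun q hq => h q (List.mem_cons_of_mem _ hq)) (stepB_eq (h r List.mem_cons_self) g v hg) a
    simpa [runB, ChevalleyDatum.wordMat, Matrix.vecMul_vecMul] using this

theorem wordMat_eq {w w' : List ℕ} (hw : ∀ r ∈ w, r < chevF4.nroots) (hw' : ∀ r ∈ w', r < chevF4.nroots)
    (h : ∀ n < 52, runB w (2 ^ n) = runB w' (2 ^ n)) :
    chevF4.wordMat (ZMod 2) (w.map fun r => (r, 1)) = chevF4.wordMat (ZMod 2) (w'.map fun r => (r, 1)) := by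
  ext a b
  have hg : ∀ x, (Pi.single a (1 : ZMod 2) : chevF4.Idx → ZMod 2) x =
      bitV (2 ^ enc chevF4.rank chevF4.nroots a) (enc chevF4.rank chevF4.nroots x) := fun x => by
    simp [bitV, Pi.single_apply, Nat.testBit_two_pow, (enc_injective _ _).eq_iff, eq_comm]
  have e1 := runB_eq w _ _ hw hg b
  have e2 := runB_eq w' _ _ hw' hg b
  rw [h _ (enc_lt _ _ a), ← e2] at e1
  simpa using e1

/-- The word of `n₁ n₂ n₁ n₂` in the subsystem of type B₂. -/
theorem key : chevF4.wordMat (ZMod 2)
      ([27, 20, 27, 25, 22, 25, 27, 20, 27, 25, 22, 25].map fun r => (r, 1)) =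
    chevF4.wordMat (ZMod 2) ([28, 30, 20, 22, 17, 27, 25, 28].map fun r => (r, 1)) :=
  wordMat_eq (by decide +kernel) (by decide +kernel) (by decide +kernel)
end Word
end Cfsg.Lib.Chev.ReeF
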