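import Cfsg.Agent.Chev.Ree.F4.Layers
import Cfsg.Agent.Chev.Ree.F4.Table
import Cfsg.Agent.Chev.Ree.F4.Word

/-! The generators of `²F₄`: representatives of the Weyl group, fixed elements of `U`, the torus. -/

set_option autoImplicit false
set_option linter.dupNamespace false

open Cfsg.Lie

namespace Cfsg.Lib.Chev.ReeF

namespace RF

variable {K : Type*} [Field K] [Fintype K] (X : RF K)
include X

theorem intCast_sign (z : ℤ) : (z : K) = 0 ∨ (z : K) = 1 := by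
  have := X.char2
  have h2 : ((2 : ℤ) : K) = 0 := by exact_mod_cast CharP.cast_eq_zero K 2
  have e : (z : K) = ((z % 2 : ℤ) : K) := by
    conv_lhs => rw [← Int.mul_ediv_add_emod z 2, Int.cast_add, Int.cast_mul, h2, zero_mul, zero_add]
  rcases Int.emod_two_eq_zero_or_one z with h | h <;> rw [e, h]
  · exact Or.inl Int.cast_zero
  · exact Or.inr Int.cast_one

/-- Representatives of Weyl group elements permute root elements without signs. -/
theorem nL_conj_one (L : List (Fin chevF4.rank)) {s : ℕ} (hs : s < chevF4.nroots) (t : K) :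
    SF.nL K L * SF.ok.xG s t * (SF.nL K L)⁻¹ = SF.ok.xG (F4.cert.wL (L.map Fin.val) s) t := by
  rcases X.intCast_sign (F4.cert.sgnL (L.map Fin.val) s) with h | h
  · exfalso
    have h1 := SF.nL_conj (F := K) L hs 1
    rw [h, zero_mul, SF.xG_zero, mul_inv_eq_one, mul_eq_left] at h1
    exact one_ne_zero (SF.xG_eq_one hs h1)
  · rw [SF.nL_conj L hs, h, one_mul]

/-- A product over a pair. -/
noncomputable def yP (X : RF K) (c : ℕ × ℕ) (t : K) : GL chevF4.Idx K :=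
  SF.ok.xG c.1 (t ^ X.e) * SF.ok.xG c.2 t

/-- A product over a class of type B₂. -/
noncomputable def y4 (X : RF K) (a b ab aab : ℕ) (t u : K) : GL chevF4.Idx K :=
  SF.ok.xG a (t ^ X.e) * SF.ok.xG b t * (SF.ok.xG ab (t ^ (X.e + 1) + u) * SF.ok.xG aab (u ^ (2 * X.e)))

/-- The group of type `²F₄`. -/
noncomputable def G1 (X : RF K) : Subgroup (GL chevF4.Idx K) := twistedF4 K X.e

theorem G1_gens (g : GL chevF4.Idx K) :
    (∃ w ∈ f4Words K X.e, (g : Matrix chevF4.Idx chevF4.Idx K) = chevF4.wordMat K w) ↔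
      (∃ t, g = X.yP (33, 24) t ∨ g = X.yP (14, 23) t) ∨
      (∃ t u, g = X.y4 27 25 28 30 t u ∨ g = X.y4 20 22 19 17 t u) := by
  have e2 : ∀ (r s : ℕ) (t : K), (X.yP (r, s) t : Matrix chevF4.Idx chevF4.Idx K) =
      chevF4.wordMat K (f4PairWord X.e r s t) := fun r s t => by
    simp [yP, f4PairWord, ChevalleyDatum.wordMat]
  have e4 : ∀ (a b ab aab : ℕ) (t u : K), (X.y4 a b ab aab t u : Matrix chevF4.Idx chevF4.Idx K) =
      chevF4.wordMat K (b2ClassWord X.e a b ab aab t u) := fun a b ab aab t u => by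
    simp [y4, b2ClassWord, ChevalleyDatum.wordMat, mul_assoc]
  constructor
  · rintro ⟨w, hw, hg⟩
    rcases hw with ⟨t, rfl | rfl⟩ | ⟨t, u, rfl | rfl⟩
    · exact Or.inl ⟨t, Or.inl (Units.ext (hg.trans (e2 _ _ _).symm))⟩
    · exact Or.inl ⟨t, Or.inr (Units.ext (hg.trans (e2 _ _ _).symm))⟩
    · exact Or.inr ⟨t, u, Or.inl (Units.ext (hg.trans (e4 _ _ _ _ _ _).symm))⟩
    · exact Or.inr ⟨t, u, Or.inr (Units.ext (hg.trans (e4 _ _ _ _ _ _).symm))⟩
  · rintro (⟨t, rfl | rfl⟩ | ⟨t, u, rfl | rfl⟩)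
    · exact ⟨_, Or.inl ⟨t, Or.inl rfl⟩, e2 _ _ _⟩
    · exact ⟨_, Or.inl ⟨t, Or.inr rfl⟩, e2 _ _ _⟩
    · exact ⟨_, Or.inr ⟨t, u, Or.inl rfl⟩, e4 _ _ _ _ _ _⟩
    · exact ⟨_, Or.inr ⟨t, u, Or.inr rfl⟩, e4 _ _ _ _ _ _⟩

omit X [Fintype K] in
theorem commute_of_okP {r s : ℕ} (hr : r < chevF4.nroots) (hs : s < chevF4.nroots) (h : okP r s [] = true) (t u : K) :
    Commute (SF.ok.xG r t) (SF.ok.xG s u) := by
  obtain ⟨w, hw, e⟩ := comm_word_mem (L := []) (K := K) hr hs h t u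
  rw [UL_nil, Subgroup.mem_bot] at hw
  rw [hw, mul_one] at e
  exact e.symm

theorem yP_mem_Gs {c : ℕ × ℕ} (h : okPr c = true) (hc : okP c.1 c.2 [] = true) (t : K) : X.yP c t ∈ X.Gs := by
  obtain ⟨a, b, c1, c2, l1, l2⟩ := okPr_spec h
  refine ⟨mul_mem (SF.ok.xG_mem_group _ _) (SF.ok.xG_mem_group _ _), ?_⟩
  rw [yP, X.sg_mul (SF.ok.xG_mem_group _ _) (SF.ok.xG_mem_group _ _), X.sg_xG a, X.sg_xG b, c1, c2, l1, l2, one_mul,
    X.pow_e_e2]
  exact (commute_of_okP a b hc _ _).symm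

theorem y4_mem_Gs {a b ab aab : ℕ} (h1 : okPr (a, b) = true) (h2 : okPr (ab, aab) = true)
    (h3 : okP ab aab [] = true)
    (h4 : chevF4.commTerms a b = [(ab, 1, 1, 1), (aab, 1, 2, 1)] ∨ chevF4.commTerms a b = [(ab, -1, 1, 1), (aab, 1, 2, 1)] ∨
      chevF4.commTerms a b = [(ab, 1, 1, 1), (aab, -1, 2, 1)] ∨ chevF4.commTerms a b = [(ab, -1, 1, 1), (aab, -1, 2, 1)])
    (h5 : a ≠ b ∧ b ≠ chevF4.neg a) (t u : K) : X.y4 a b ab aab t u ∈ X.Gs := by
  have := X.char2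
  obtain ⟨la, lb, a1, b1, l1, l2⟩ := okPr_spec h1
  obtain ⟨lc, ld, a2, b2, l3, l4⟩ := okPr_spec h2
  simp only at la lb a1 b1 l1 l2 lc ld a2 b2 l3 l4
  have hm : ∀ r (x : K), SF.ok.xG r x ∈ chevF4.group K := fun r x => SF.ok.xG_mem_group _ _
  refine ⟨mul_mem (mul_mem (hm _ _) (hm _ _)) (mul_mem (hm _ _) (hm _ _)), ?_⟩
  rw [y4, X.sg_mul (mul_mem (hm _ _) (hm _ _)) (mul_mem (hm _ _) (hm _ _)), X.sg_mul (hm _ _) (hm _ _),
    X.sg_mul (hm _ _) (hm _ _), X.sg_xG la, X.sg_xG lb, X.sg_xG lc, X.sg_xG ld, a1, b1, a2, b2, l1, l2, l3, l4,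
    one_mul, X.pow_e_e2]
  set p := t ^ X.e with hp
  have hsw : SF.ok.xG b t * SF.ok.xG a p =
      SF.ok.xG a p * SF.ok.xG b t * (SF.ok.xG ab (p * t) * SF.ok.xG aab (p ^ 2 * t)) := by
    have hc := SF.ok.commRel SF.chain SF.base (r := a) (s := b) la lb (Ne.symm h5.1) h5.2 p t
    rw [hc, ChevalleyDatum.commWord]
    rcases h4 with e | e | e | e <;> rw [e] <;>
      simp [Ok.wG, X.neg_eq, mul_assoc]
  have hpt : p * t = t ^ (X.e + 1) := by rw [hp, pow_succ]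
  rw [hsw, hpt]
  set A := SF.ok.xG a p
  set B := SF.ok.xG b t
  have hcd := commute_of_okP (K := K) lc ld h3
  have h2e : (u ^ (2 * X.e)) ^ X.e = u := X.pow_e2_e u
  have he2 : (t ^ (X.e + 1) + u) ^ (2 * X.e) = p ^ 2 * t + u ^ (2 * X.e) := by
    rw [show 2 * X.e = 2 ^ (X.m + 1) by rw [e, pow_succ]; ring]
    have : Fact (Nat.Prime 2) := ⟨Nat.prime_two⟩
    rw [add_pow_char_pow, ← pow_mul, hp, ← pow_mul, show (X.e + 1) * 2 ^ (X.m + 1) = 2 * X.e * X.e + X.e * 2 by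
      rw [e, pow_succ]; ring, pow_add, X.pow_q, mul_comm t]
  rw [h2e, he2, mul_assoc (A * B)]
  congr 1
  calc SF.ok.xG ab (t ^ (X.e + 1)) * SF.ok.xG aab (p ^ 2 * t) *
        (SF.ok.xG aab (p ^ 2 * t + u ^ (2 * X.e)) * SF.ok.xG ab u)
      = SF.ok.xG ab (t ^ (X.e + 1)) * (SF.ok.xG aab (p ^ 2 * t) * SF.ok.xG aab (p ^ 2 * t + u ^ (2 * X.e))) *
        SF.ok.xG ab u := by simp only [mul_assoc]
    _ = SF.ok.xG ab (t ^ (X.e + 1)) * SF.ok.xG aab (u ^ (2 * X.e)) * SF.ok.xG ab u := by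
      rw [SF.ok.xG_mul, ← add_assoc, X.add_self, zero_add]
    _ = _ := by rw [mul_assoc, ← (hcd u (u ^ (2 * X.e))).eq, ← mul_assoc, SF.ok.xG_mul]

theorem G1_le : X.G1 ≤ X.Gs := by
  refine (Subgroup.closure_le _).2 fun g hg => ?_
  rcases (X.G1_gens g).1 hg with ⟨t, rfl | rfl⟩ | ⟨t, u, rfl | rfl⟩
  · exact X.yP_mem_Gs (by decide +kernel) (by decide +kernel) t
  · exact X.yP_mem_Gs (by decide +kernel) (by decide +kernel) t
  · exact X.y4_mem_Gs (by decide +kernel) (by decide +kernel) (by decide +kernel) (by decide +kernel) (by decide +kernel) t u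
  · exact X.y4_mem_Gs (by decide +kernel) (by decide +kernel) (by decide +kernel) (by decide +kernel) (by decide +kernel) t u

theorem yA_mem (t : K) : X.yP (33, 24) t ∈ X.G1 :=
  Subgroup.subset_closure ((X.G1_gens _).2 (Or.inl ⟨t, Or.inl rfl⟩))

theorem yA'_mem (t : K) : X.yP (14, 23) t ∈ X.G1 :=
  Subgroup.subset_closure ((X.G1_gens _).2 (Or.inl ⟨t, Or.inr rfl⟩))

theorem yB_mem (t u : K) : X.y4 27 25 28 30 t u ∈ X.G1 :=
  Subgroup.subset_closure ((X.G1_gens _).2 (Or.inr ⟨t, u, Or.inl rfl⟩))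

theorem yB'_mem (t u : K) : X.y4 20 22 19 17 t u ∈ X.G1 :=
  Subgroup.subset_closure ((X.G1_gens _).2 (Or.inr ⟨t, u, Or.inr rfl⟩))

/-- The element `n(u)` of the orthogonal pair. -/
noncomputable def nn (X : RF K) (u : K) : GL chevF4.Idx K := SF.ok.nG 33 (u ^ X.e) * SF.ok.nG 24 u

omit [Fintype K] X in
theorem comm_pair {r s : ℕ} (hr : r ∈ [33, 14]) (hs : s ∈ [24, 23]) (t u : K) :
    Commute (SF.ok.xG r t) (SF.ok.xG s u) := by
  have : ∀ r ∈ [33, 14], ∀ s ∈ [24, 23], r < chevF4.nroots ∧ s < chevF4.nroots ∧ okP r s [] = true := by decide +kernel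
  obtain ⟨a, b, c⟩ := this r hr s hs
  exact commute_of_okP a b c t u

theorem nn_eq (u : K) : X.nn u = X.yP (33, 24) u * X.yP (14, 23) u⁻¹ * X.yP (33, 24) u := by
  rw [nn, yP, yP, Ok.nG, Ok.nG, show chevF4.neg 33 = 14 by decide +kernel,
    show chevF4.neg 24 = 23 by decide +kernel, X.neg_eq u⁻¹, X.neg_eq (u ^ X.e)⁻¹, inv_pow]
  set A := SF.ok.xG 33 (u ^ X.e)
  set B := SF.ok.xG 14 (u ^ X.e)⁻¹
  set A' := SF.ok.xG 24 u
  set B' := SF.ok.xG 23 u⁻¹
  have c1 : Commute A A' := comm_pair (by simp) (by simp) _ _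
  have c2 : Commute A B' := comm_pair (by simp) (by simp) _ _
  have c3 : Commute B A' := comm_pair (by simp) (by simp) _ _
  show A * B * A * (A' * B' * A') = A * A' * (B * B') * (A * A')
  symm
  calc A * A' * (B * B') * (A * A') = A * (A' * B) * (B' * A) * A' := by simp only [mul_assoc]
    _ = A * (B * A') * (A * B') * A' := by rw [← c3.eq, ← c2.eq]
    _ = A * B * (A' * A) * B' * A' := by simp only [mul_assoc]
    _ = A * B * (A * A') * B' * A' := by rw [← c1.eq]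
    _ = A * B * A * (A' * B' * A') := by simp only [mul_assoc]

theorem nn_mem (u : K) : X.nn u ∈ X.G1 := by
  rw [X.nn_eq]
  exact mul_mem (mul_mem (X.yA_mem _) (X.yA'_mem _)) (X.yA_mem _)

theorem nA_eq : SF.nL K (orbF false) = X.nn 1 := by
  have e : chevF4.simple (fi 0).val = 33 ∧ chevF4.simple (fi 3).val = 24 := by decide +kernel
  simp [orbF, Struct.nL, nn, e.1, e.2]

theorem nB_eq : SF.nL K (orbF true) = X.y4 27 25 28 30 0 1 * X.y4 20 22 19 17 1 1 * X.y4 27 25 28 30 1 0 := by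
  have := X.char2
  let φ : ZMod 2 →+* K := ZMod.castHom (dvd_refl 2) K
  have hmap : ∀ w : List (ℕ × ZMod 2),
      (chevF4.wordMat (ZMod 2) w).map φ = chevF4.wordMat K (w.map fun p => (p.1, φ p.2)) := fun w => by
    show φ.mapMatrix ((w.map fun p => chevF4.x (ZMod 2) p.1 p.2).prod) = _
    rw [map_list_prod, List.map_map, ChevalleyDatum.wordMat, List.map_map]
    exact congrArg List.prod (List.map_congr_left fun p _ => Ok.map_x chevF4 φ p.1 p.2)
  have key := congrArg (fun M : Matrix chevF4.Idx chevF4.Idx (ZMod 2) => M.map φ) Word.key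
  simp only [hmap, List.map_cons, List.map_nil, map_one] at key
  have e : chevF4.simple (fi 1).val = 27 ∧ chevF4.simple (fi 2).val = 25 := by decide +kernel
  have en : chevF4.neg 27 = 20 ∧ chevF4.neg 25 = 22 := by decide +kernel
  have hz : (0 : K) ^ X.e = 0 := zero_pow X.e_pos.ne'
  have hz2 : (0 : K) ^ (2 * X.e) = 0 := zero_pow (by have := X.e_pos; omega)
  have h11 : (1 : K) + 1 = 0 := X.add_self 1
  refine Units.ext ?_
  simp only [orbF, Struct.nL, List.map_cons, List.map_nil, List.prod_cons, List.prod_nil, mul_one, e.1, e.2, Ok.nG,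
    en.1, en.2, inv_one, X.neg_eq, y4, hz, hz2, one_pow, zero_pow (Nat.succ_ne_zero X.e), zero_add, add_zero, h11,
    SF.xG_zero, one_mul, Units.val_mul, Ok.val_xG]
  simp only [ChevalleyDatum.wordMat, List.map_cons, List.map_nil, List.prod_cons, List.prod_nil, mul_one] at key
  simpa only [mul_assoc] using key

theorem nW_mem (b : Bool) : SF.nL K (orbF b) ∈ X.G1 := by
  cases b
  · rw [X.nA_eq]; exact X.nn_mem 1
  · rw [X.nB_eq]; exact mul_mem (mul_mem (X.yB_mem _ _) (X.yB'_mem _ _)) (X.yB_mem _ _)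

omit X [Fintype K] in
theorem nL_flat : ∀ (W : List Bool), SF.nL K (flat W) = (W.map fun b => SF.nL K (orbF b)).prod
  | [] => by simp [flat, Struct.nL]
  | b :: W => by
    rw [List.map_cons, List.prod_cons, ← nL_flat W]
    simp [flat, Struct.nL]

theorem nK_mem (W : List Bool) : SF.nL K (flat W) ∈ X.G1 := by
  rw [nL_flat]
  exact list_prod_mem fun g hg => by obtain ⟨b, -, rfl⟩ := List.mem_map.1 hg; exact X.nW_mem b

/-- Conjugating leading coefficients. -/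
theorem Mem_conj {n : GL chevF4.Idx K} {w : ℕ → ℕ} {c c' : ℕ × ℕ} {L L' : List (ℕ × ℕ)}
    (hn : ∀ r ∈ rts (c :: L), ∀ t : K, n * SF.ok.xG r t * n⁻¹ = SF.ok.xG (w r) t)
    (h1 : w c.1 = c'.1) (h2 : w c.2 = c'.2) (h3 : ∀ r ∈ rts L, w r ∈ rts L')
    {g : GL chevF4.Idx K} {s t : K} (hg : Mem c L g s t) : Mem c' L' (n * g * n⁻¹) s t := by
  obtain ⟨v, hv, rfl⟩ := hg
  have hle : UL K L ≤ (UL K L').comap (MulAut.conj n).toMonoidHom := by
    refine (Subgroup.closure_le _).2 ?_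
    rintro g ⟨r, hr, t, rfl⟩
    show n * SF.ok.xG r t * n⁻¹ ∈ UL K L'
    rw [hn r (by simp [rts, hr])]
    exact xG_mem_UL (h3 r hr) t
  refine ⟨n * v * n⁻¹, hle hv, ?_⟩
  rw [← h1, ← h2, ← hn c.1 (by simp [rts]), ← hn c.2 (by simp [rts])]
  group

omit X [Fintype K] in
theorem suffix_cases {c : ℕ × ℕ} {L : List (ℕ × ℕ)} (h : (c :: L) <:+ OP) :
    (c, L) ∈ (List.range 12).map fun i => (OP.getD i (0, 0), OP.drop (i + 1)) := by
  obtain ⟨P, hP⟩ := h
  have hlen := congrArg List.length hP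
  simp only [List.length_append, List.length_cons, show OP.length = 12 from rfl] at hlen
  refine List.mem_map.2 ⟨P.length, List.mem_range.2 (by omega), ?_⟩
  rw [← hP]
  simp

/-- Each pair is the translate of a base pair. -/
def spec : List (List Bool × (ℕ × ℕ) × List (ℕ × ℕ)) :=
  [([], (27, 25), [(28, 30)]), ([], (33, 24), []), ([false], (27, 25), [(28, 30)]), ([], (28, 30), []),
    ([true, false], (27, 25), [(28, 30)]), ([false, true, false], (27, 25), [(28, 30)]), ([true], (33, 24), []),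
    ([false], (28, 30), []), ([false, true], (33, 24), []), ([true, false, true], (33, 24), []),
    ([true, false], (28, 30), []), ([false, true, false], (28, 30), [])]

/-- Fixed elements of `U` lie in every normalised subgroup with the base leading coefficients. -/
theorem fixU_le {H : Subgroup (GL chevF4.Idx K)} (hH : H ≤ X.Gs)
    (hn : ∀ W : List Bool, ∀ g ∈ H, SF.nL K (flat W) * g * (SF.nL K (flat W))⁻¹ ∈ H)
    (h0 : ∀ t : K, ∃ g ∈ H, Mem (27, 25) [(28, 30)] g (t ^ X.e) t)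
    (h1 : ∀ t : K, ∃ g ∈ H, Mem (33, 24) [] g (t ^ X.e) t)
    (h3 : ∀ t : K, ∃ g ∈ H, Mem (28, 30) [] g (t ^ X.e) t) :
    chevF4.posUnipotent K ⊓ X.Gs ≤ H := by
  rw [← UL_OP]
  refine X.fix_le hH good_OP fun c L hs t => ?_
  obtain ⟨i, hi, e⟩ := List.mem_map.1 (suffix_cases hs)
  rw [List.mem_range] at hi
  simp only [Prod.mk.injEq] at e
  obtain ⟨rfl, rfl⟩ := e
  have hspec : ∀ i < 12, let s := spec.getD i ([], (0, 0), [])
      (s.2 = ((27, 25), [(28, 30)]) ∨ s.2 = ((33, 24), []) ∨ s.2 = ((28, 30), [])) ∧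
      (∀ r ∈ rts (s.2.1 :: s.2.2), r < chevF4.nroots) ∧
      F4.cert.wL ((flat s.1).map Fin.val) s.2.1.1 = (OP.getD i (0, 0)).1 ∧
      F4.cert.wL ((flat s.1).map Fin.val) s.2.1.2 = (OP.getD i (0, 0)).2 ∧
      (∀ r ∈ rts s.2.2, F4.cert.wL ((flat s.1).map Fin.val) r ∈ rts (OP.drop (i + 1))) := by decide +kernel
  obtain ⟨hb, hlt, e1, e2, e3⟩ := hspec i hi
  set s := spec.getD i ([], (0, 0), [])
  obtain ⟨g, hg, hm⟩ : ∃ g ∈ H, Mem s.2.1 s.2.2 g (t ^ X.e) t := by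
    rcases hb with e | e | e <;> rw [e]
    exacts [h0 t, h1 t, h3 t]
  exact ⟨_, hn s.1 g hg, X.Mem_conj (fun r hr t => X.nL_conj_one _ (hlt r hr) t) e1 e2 e3 hm⟩

theorem U1_eq : chevF4.posUnipotent K ⊓ X.G1 = chevF4.posUnipotent K ⊓ X.Gs := by
  refine le_antisymm (inf_le_inf_left _ X.G1_le) (le_inf inf_le_left ?_)
  refine X.fixU_le X.G1_le (fun W g hg => mul_mem (mul_mem (X.nK_mem W) hg) (inv_mem (X.nK_mem W)))
    (fun t => ⟨_, X.yB_mem t 0, _, mul_mem (xG_mem_UL (by simp [rts]) _) (xG_mem_UL (by simp [rts]) _), rfl⟩)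
    (fun t => ⟨_, X.yA_mem t, 1, one_mem _, (mul_one _).symm⟩)
    (fun t => ⟨_, X.yB_mem 0 (t ^ X.e), 1, one_mem _, ?_⟩)
  rw [y4, zero_pow X.e_pos.ne', zero_pow (Nat.succ_ne_zero X.e), SF.xG_zero, SF.xG_zero, one_mul, one_mul, zero_add,
    X.pow_e_e2, mul_one]

theorem card_U1 : Nat.card ↥(chevF4.posUnipotent K ⊓ X.G1) = Fintype.card K ^ 12 := by
  rw [X.U1_eq, ← UL_OP, X.card_fix good_OP]
  rfl

omit X [Fintype K] in
theorem conj_tt (i : Fin 4) (c : Fin 4 → Kˣ) :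
    SF.ok.nG (chevF4.simple (i : ℕ)) 1 * tt K c * (SF.ok.nG (chevF4.simple (i : ℕ)) 1)⁻¹ =
      tt K (c * Pi.mulSingle i (c 0 ^ (-chevF4.cartan 0 (chevF4.simple (i : ℕ))) *
        c 1 ^ (-chevF4.cartan 1 (chevF4.simple (i : ℕ))) * c 2 ^ (-chevF4.cartan 2 (chevF4.simple (i : ℕ))) *
        c 3 ^ (-chevF4.cartan 3 (chevF4.simple (i : ℕ))))) := by
  refine (SF.ok.conj_nG_tG (F := K) i c).trans (congrArg (tt K) ?_)
  show c * Pi.mulSingle i (∏ j : Fin 4, c j ^ (-chevF4.cartan (j : ℕ) (chevF4.simple (i : ℕ)))) = _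
  rw [Fin.prod_univ_four]
  rfl

omit X [Fintype K] in
theorem conj_one (a b c d : Kˣ) :
    SF.ok.nG (chevF4.simple 1) 1 * tt K ![a, b, c, d] * (SF.ok.nG (chevF4.simple 1) 1)⁻¹ =
      tt K ![a, a * c / b, c, d] := by
  have hc : chevF4.cartan 0 (chevF4.simple 1) = -1 ∧ chevF4.cartan 1 (chevF4.simple 1) = 2 ∧
      chevF4.cartan 2 (chevF4.simple 1) = -1 ∧ chevF4.cartan 3 (chevF4.simple 1) = 0 := by decide +kernel
  refine (conj_tt 1 ![a, b, c, d]).trans (congrArg (tt K) ?_)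
  funext i
  fin_cases i <;> simp [hc, div_eq_mul_inv]
  refine Units.ext ?_
  push_cast [zpow_neg, zpow_ofNat]
  field_simp

omit X [Fintype K] in
theorem conj_two (a b c d : Kˣ) :
    SF.ok.nG (chevF4.simple 2) 1 * tt K ![a, b, c, d] * (SF.ok.nG (chevF4.simple 2) 1)⁻¹ =
      tt K ![a, b, b ^ 2 * d / c, d] := by
  have hc : chevF4.cartan 0 (chevF4.simple 2) = 0 ∧ chevF4.cartan 1 (chevF4.simple 2) = -2 ∧
      chevF4.cartan 2 (chevF4.simple 2) = 2 ∧ chevF4.cartan 3 (chevF4.simple 2) = -1 := by decide +kernel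
  refine (conj_tt 2 ![a, b, c, d]).trans (congrArg (tt K) ?_)
  funext i
  fin_cases i <;> simp [hc, div_eq_mul_inv]
  refine Units.ext ?_
  push_cast [zpow_neg, zpow_ofNat]
  field_simp

theorem hh_fst_mem (u : Kˣ) : X.hh (u, 1) ∈ X.G1 := by
  have hm : X.nn (u : K) * X.nn 1 ∈ X.G1 := mul_mem (X.nn_mem _) (X.nn_mem _)
  have e : X.nn (u : K) * X.nn 1 = SF.ok.hG 33 ((u ^ X.e : Kˣ) : K) * SF.ok.hG 24 (u : K) := by
    have cc : Commute (SF.ok.nG 24 (u : K)) (SF.ok.nG 33 1) := by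
      simp only [Ok.nG, show chevF4.neg 33 = 14 by decide +kernel, show chevF4.neg 24 = 23 by decide +kernel]
      have h' : ∀ s ∈ [24, 23], ∀ b : K, Commute (SF.ok.xG s b)
          (SF.ok.xG 33 (1 : K) * SF.ok.xG 14 (-(1 : K)⁻¹) * SF.ok.xG 33 1) := fun s hs b =>
        (((comm_pair (by simp) hs _ b).symm).mul_right (comm_pair (by simp) hs _ b).symm).mul_right
          (comm_pair (by simp) hs _ b).symm
      exact ((h' 24 (by simp) _).mul_left (h' 23 (by simp) _)).mul_left (h' 24 (by simp) _)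
    rw [Units.val_pow_eq_pow_val, nn, nn, one_pow, Ok.hG, Ok.hG, X.neg_eq 1, mul_assoc,
      ← mul_assoc (SF.ok.nG 24 (u : K)), cc.eq]
    simp only [mul_assoc]
  rw [e, show (33 : ℕ) = chevF4.simple ((0 : Fin 4) : ℕ) by decide +kernel,
    show (24 : ℕ) = chevF4.simple ((3 : Fin 4) : ℕ) by decide +kernel, hG_eq_tt, hG_eq_tt, ← map_mul] at hm
  rw [X.hh_apply]
  convert hm using 2
  funext i
  fin_cases i <;> simp

theorem hh_conj_mem (u : Kˣ) : X.hh (u, u ^ (2 * X.e + 2)) ∈ X.G1 := by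
  have hm := mul_mem (mul_mem (X.nW_mem true) (X.hh_fst_mem u)) (inv_mem (X.nW_mem true))
  rw [X.hh_apply] at hm
  simp only [one_pow] at hm
  have e : SF.nL K (orbF true) = SF.ok.nG (chevF4.simple 1) 1 * (SF.ok.nG (chevF4.simple 2) 1 *
      (SF.ok.nG (chevF4.simple 1) 1 * SF.ok.nG (chevF4.simple 2) 1)) := by
    simp [orbF, Struct.nL, fi]
  rw [e] at hm
  have key : tt K ![u ^ X.e, u ^ (2 * X.e + 1), u ^ (2 * X.e + 2), u] =
      SF.ok.nG (chevF4.simple 1) 1 * (SF.ok.nG (chevF4.simple 2) 1 *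
      (SF.ok.nG (chevF4.simple 1) 1 * SF.ok.nG (chevF4.simple 2) 1)) * tt K ![u ^ X.e, 1, 1, u] *
      (SF.ok.nG (chevF4.simple 1) 1 * (SF.ok.nG (chevF4.simple 2) 1 *
      (SF.ok.nG (chevF4.simple 1) 1 * SF.ok.nG (chevF4.simple 2) 1)))⁻¹ := by
    have c1 := conj_two (u ^ X.e) 1 1 u
    have c2 := conj_one (u ^ X.e) 1 (1 ^ 2 * u / 1) u
    have c3 := conj_two (u ^ X.e) (u ^ X.e * (1 ^ 2 * u / 1) / 1) (1 ^ 2 * u / 1) u
    have c4 := conj_one (u ^ X.e) (u ^ X.e * (1 ^ 2 * u / 1) / 1)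
      ((u ^ X.e * (1 ^ 2 * u / 1) / 1) ^ 2 * u / (1 ^ 2 * u / 1)) u
    rw [← c1] at c2
    rw [← c2] at c3
    rw [← c3] at c4
    simp only [mul_inv_rev, ← mul_assoc] at c4 ⊢
    rw [c4]
    congr 1
    funext i
    fin_cases i <;> simp [mul_pow, ← pow_mul, div_eq_mul_inv] <;> group
  rw [X.hh_apply]
  convert key ▸ hm using 2
  funext i
  have h : (u ^ (2 * X.e + 2)) ^ X.e = u ^ (2 * X.e + 1) := by
    rw [← pow_mul, show (2 * X.e + 2) * X.e = 2 * X.e * X.e + 2 * X.e by ring, pow_add, X.units_pow_q, pow_succ']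
  fin_cases i <;> simp [h]

theorem hh_mem (p : Kˣ × Kˣ) : X.hh p ∈ X.G1 := by
  have hsnd : ∀ v : Kˣ, X.hh (1, v) ∈ X.G1 := fun v => by
    have h := mul_mem (inv_mem (X.hh_fst_mem (v⁻¹ ^ (X.e - 1)))) (X.hh_conj_mem (v⁻¹ ^ (X.e - 1)))
    rw [← map_inv, ← map_mul] at h
    have e2 : (v⁻¹ ^ (X.e - 1)) ^ (2 * X.e + 2) = v := by
      obtain ⟨k, hk⟩ : ∃ k, X.e = k + 1 := ⟨X.e - 1, by have := X.e_pos; omega⟩
      rw [← pow_mul, inv_pow, inv_eq_iff_mul_eq_one]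
      have := X.units_pow_q v
      rw [hk] at this ⊢
      rw [← pow_succ, show (k + 1 - 1) * (2 * (k + 1) + 2) + 1 = 2 * k * k + 4 * k + 1 by
        simp only [add_tsub_cancel_right]; ring]
      apply mul_right_cancel (b := v)
      rw [← pow_succ, one_mul]
      convert this using 2
      ring
    rw [e2] at h
    simpa using h
  have := mul_mem (X.hh_fst_mem p.1) (hsnd p.2)
  rw [← map_mul] at this
  simpa using this

theorem H1_eq : chevF4.diagonalSubgroup K ⊓ X.G1 = X.hh.range := by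
  refine le_antisymm ((inf_le_inf_left _ X.G1_le).trans X.H_fixed.le) ?_
  rintro g ⟨p, rfl⟩
  exact ⟨(Subgroup.mem_inf.1 (X.H_fixed.ge ⟨p, rfl⟩)).1, X.hh_mem p⟩

theorem card_H1 : Nat.card ↥(chevF4.diagonalSubgroup K ⊓ X.G1) = (Fintype.card K - 1) ^ 2 := by
  rw [X.H1_eq, ← Nat.card_congr (MonoidHom.ofInjective X.hh_injective).toEquiv, Nat.card_prod, Nat.card_units,
    Nat.card_eq_fintype_card, pow_two]

end RF

end Cfsg.Lib.Chev.ReeF
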