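import Cfsg.Agent.Chev.Ree.F4.InvMoves

/-! Normal forms of involutions in the unipotent group of a group of type `²F₄`. -/

set_option autoImplicit false
set_option linter.dupNamespace false
set_option linter.unusedSectionVars false

open Cfsg.Lie

namespace Cfsg.Lib.Chev.ReeF

/-- A pair of the order. -/
def PP (i : ℕ) : ℕ × ℕ := OP.getD i (0, 0)

/-- A list of pairs of the order. -/
def dl (L : List ℕ) : List (ℕ × ℕ) := L.map PP

/-- A list is a reordering of a part of the order. -/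
def gd (L : List (ℕ × ℕ)) : Bool := okPerm L (OP.filter fun c => L.contains c)

/-- The checks of an elimination. -/
def okK (i : ℕ) (A : List ℕ) (k : ℕ) (B : List ℕ) (j : ℕ) (L : List ℕ) (s : ℕ) : Bool :=
  okC (PP i) (dl A) (PP k) (dl B) (PP j) (dl L) && okF (PP j).2 (PP i) (PP k) s && decide (s < 3) &&
    gd (dl (k :: B)) && gd (dl (j :: L))

/-- The checks of a vanishing coefficient. -/
def okFo (i : ℕ) (A : List ℕ) (b : ℕ) (B : List ℕ) (j : ℕ) (L : List ℕ) (s : ℕ) : Bool :=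
  okK i A b B j L s && okZ (rts (dl (i :: A))) (rts (dl (i :: A))) (dl L) &&
    okZ (rts (dl (b :: B))) (rts (dl (b :: B))) (dl L)

/-- The checks of a leading pair of type B₂. -/
def okBl (i j : ℕ) (L : List ℕ) : Bool :=
  okNm [(PP i).1, (PP i).2] (PP j) (dl L) && okQ (PP i).2 (PP i).1 (rts (dl (j :: L))) &&
    decide (ct (PP j).2 (PP i).1 (PP i).2 = [(1, 2)]) && gd (dl (i :: j :: L)) && gd (dl (j :: L))

namespace RF

variable {K : Type*} [Field K] [Fintype K] [CharP K 2] (X : RF K)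
include X

/-- Conjugacy in the group. -/
def Cj (X : RF K) (u w : GL chevF4.Idx K) : Prop := ∃ h ∈ X.G1, h⁻¹ * u * h = w

theorem Cj.refl (u : GL chevF4.Idx K) : X.Cj u u := ⟨1, one_mem _, by simp⟩

theorem Cj.trans {u v w : GL chevF4.Idx K} (h : X.Cj u v) (h' : X.Cj v w) : X.Cj u w := by
  obtain ⟨a, ha, rfl⟩ := h
  obtain ⟨b, hb, rfl⟩ := h'
  exact ⟨a * b, mul_mem ha hb, by group⟩

theorem Cj.sq {u w : GL chevF4.Idx K} (h : X.Cj u w) (hu : u * u = 1) : w * w = 1 := by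
  obtain ⟨a, -, rfl⟩ := h
  rw [show a⁻¹ * u * a * (a⁻¹ * u * a) = a⁻¹ * (u * u) * a by group, hu]
  group

theorem gd_good {L : List (ℕ × ℕ)} (h : gd L = true) : Good K L := X.good_perm h

theorem reo {L L' : List ℕ} {v : GL chevF4.Idx K} (hv : v ∈ UL K (dl L) ⊓ X.Gs)
    (h : ((rts (dl L)).all fun r => (rts (dl L')).contains r) = true) : v ∈ UL K (dl L') ⊓ X.Gs := by
  simp only [List.all_eq_true, List.contains_eq_mem, decide_eq_true_eq] at h
  exact ⟨UL_mono h hv.1, hv.2⟩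

theorem kstep {i : ℕ} {A : List ℕ} {k : ℕ} {B : List ℕ} {j : ℕ} {L : List ℕ} {s : ℕ} (h : okK i A k B j L s = true)
    {g v : GL chevF4.Idx K} {x : K} (hx : x ≠ 0) (hg : g ∈ X.Gs) (hgm : Mem (PP i) (dl A) g (x ^ X.e) x)
    (hv : v ∈ UL K (dl (j :: L)) ⊓ X.Gs) :
    ∃ v' ∈ UL K (dl L) ⊓ X.Gs, X.Cj (g * v) (g * v') := by
  simp only [okK, Bool.and_eq_true, decide_eq_true_eq] at h
  obtain ⟨⟨⟨⟨h1, h2⟩, h3⟩, h4⟩, h5⟩ := h
  obtain ⟨c, hc, v', hv', e⟩ := X.kill h3 h1 h2 (X.gd_good h4) (X.gd_good h5) hx hg hgm hv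
  exact ⟨v', hv', c, hc, e⟩

theorem fstep {i : ℕ} {A : List ℕ} {b : ℕ} {B : List ℕ} {j : ℕ} {L : List ℕ} {s : ℕ} (h : okFo i A b B j L s = true)
    {g v : GL chevF4.Idx K} {x : K} (hx : x ≠ 0) (hgm : Mem (PP i) (dl A) g (x ^ X.e) x)
    (hv : v ∈ UL K (dl (b :: B)) ⊓ X.Gs) (hu : g * v * (g * v) = 1) : v ∈ UL K (dl B) ⊓ X.Gs := by
  simp only [okFo, okK, Bool.and_eq_true, decide_eq_true_eq] at h
  obtain ⟨⟨⟨⟨⟨⟨h1, h2⟩, h3⟩, h4⟩, h5⟩, h6⟩, h7⟩ := h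
  obtain ⟨t, ht⟩ := X.fixed_lead (X.gd_good h4) hv
  have e := X.forced h3 h1 h2 (X.gd_good h5) hx hgm ht (X.sq_mem h6 hgm.mem_UL) (X.sq_mem h7 hv.1) hu
  rw [e, zero_pow X.e_pos.ne'] at ht
  exact ⟨ht.tail, hv.2⟩

theorem bstep {i j : ℕ} {L : List ℕ} (h : okBl i j L = true) {u : GL chevF4.Idx K}
    (hu : u ∈ UL K (dl (i :: j :: L)) ⊓ X.Gs) (h2 : u * u = 1) : u ∈ UL K (dl (j :: L)) ⊓ X.Gs := by
  simp only [okBl, Bool.and_eq_true, decide_eq_true_eq] at h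
  obtain ⟨⟨⟨⟨h1, hp⟩, h3⟩, h4⟩, h5⟩ := h
  obtain ⟨t, ht⟩ := X.fixed_lead (X.gd_good h4) hu
  have e := X.blead h1 hp h3 (X.gd_good h5) ht (h2 ▸ one_mem _)
  rw [e, zero_pow X.e_pos.ne'] at ht
  exact ⟨ht.tail, hu.2⟩

/-- The checks for the square of a leading element. -/
def okG (i a : ℕ) (L B : List ℕ) : Bool :=
  okNm [(PP i).1, (PP i).2] (PP a) (dl L) && okQ (PP i).2 (PP i).1 (rts (dl (a :: L))) &&
    decide (ct (PP a).2 (PP i).1 (PP i).2 = [(1, 2)]) && gd (dl (a :: L)) &&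
    okZ (rts (dl [i, a])) (rts (dl B)) (dl L) && okZ (rts (dl B)) (rts (dl B)) (dl L)

theorem gstep {i a : ℕ} {L B : List ℕ} (h : okG i a L B = true) {g v : GL chevF4.Idx K} {x : K}
    (hgm : Mem (PP i) (dl [a]) g (x ^ X.e) x) (hv : v ∈ UL K (dl B)) (hu : g * v * (g * v) = 1) : x = 0 := by
  simp only [okG, Bool.and_eq_true, decide_eq_true_eq] at h
  obtain ⟨⟨⟨⟨⟨h1, hp⟩, h3⟩, h4⟩, h5⟩, h6⟩ := h
  have hn : v ∈ Nz K (dl L) := by
    have h5' := h5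
    simp only [okZ, Bool.and_eq_true] at h5'
    exact RG_le_Nz h5'.1.2 hv
  have hc := comm_mem h5 hgm.mem_UL hv
  have hgg : g * g ∈ UL K (dl L) := by
    have e : v⁻¹ = g * v * g := inv_eq_of_mul_eq_one_left (by simpa [mul_assoc] using hu)
    have : g * g = (v * v)⁻¹ * (v * (g⁻¹ * v⁻¹ * g * v) * v⁻¹) := by
      calc g * g = g * v * g * (g⁻¹ * v⁻¹ * g) := by group
        _ = _ := by rw [← e]; group
    rw [this]
    refine mul_mem (inv_mem (X.sq_mem h6 hv)) ((hn _).2 ?_)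
    convert hc using 1
    group
  refine X.blead h1 hp h3 (X.gd_good h4) ?_ hgg
  obtain ⟨w, hw, e⟩ := hgm
  exact ⟨w, UL_mono (fun r hr => by simp [dl, rts] at hr ⊢; tauto) hw, e⟩

/-- Split off the leading pair. -/
theorem split_lead {i : ℕ} {A L : List ℕ} (hG : gd (dl (i :: A)) = true) (hL : gd (dl (i :: L)) = true)
    (hsub : ((rts (dl A)).all fun r => (rts (dl L)).contains r) = true)
    {u : GL chevF4.Idx K} (hu : u ∈ UL K (dl (i :: L)) ⊓ X.Gs) :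
    ∃ x, (x = 0 → u ∈ UL K (dl L) ⊓ X.Gs) ∧ ∃ g ∈ X.Gs, Mem (PP i) (dl A) g (x ^ X.e) x ∧
      ∃ v ∈ UL K (dl L) ⊓ X.Gs, u = g * v := by
  simp only [List.all_eq_true, List.contains_eq_mem, decide_eq_true_eq] at hsub
  obtain ⟨x, hx⟩ := X.fixed_lead (X.gd_good hL) hu
  obtain ⟨g, hg, hgm⟩ := X.lift (X.gd_good hG) x
  refine ⟨x, fun e => ⟨?_, hu.2⟩, g, hg.2, hgm, g⁻¹ * u, ⟨?_, mul_mem (X.Gs.inv_mem hg.2) hu.2⟩, (mul_inv_cancel_left g u).symm⟩
  · subst e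
    rw [zero_pow X.e_pos.ne'] at hx
    exact hx.tail
  · have hgm' : Mem (PP i) (dl L) g (x ^ X.e) x := by
      obtain ⟨w, hw, e⟩ := hgm
      exact ⟨w, UL_mono hsub hw, e⟩
    have h1 := (hgm'.inv (X.gd_good hL).ok).mul (X.gd_good hL).ok hx
    rw [neg_add_cancel, neg_add_cancel] at h1
    exact h1.tail

theorem eq_yP {i : ℕ} (hG : gd (dl [i]) = true) {g : GL chevF4.Idx K} (hg : g ∈ UL K (dl [i]) ⊓ X.Gs) :
    ∃ t, g = X.yP (PP i) t := by
  obtain ⟨t, v, hv, e⟩ := X.fixed_lead (X.gd_good hG) hg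
  have hv' : v ∈ UL K [] := hv
  rw [UL_nil, Subgroup.mem_bot] at hv'
  exact ⟨t, by rw [e, hv', mul_one]; rfl⟩

theorem mem_yP {i : ℕ} {g : GL chevF4.Idx K} {x : K} (hgm : Mem (PP i) (dl []) g (x ^ X.e) x) :
    g = X.yP (PP i) x := by
  obtain ⟨v, hv, e⟩ := hgm
  rw [show dl [] = [] from rfl, UL_nil, Subgroup.mem_bot] at hv
  rw [e, hv, mul_one]
  rfl

/-- The normal forms. -/
def Red (X : RF K) (u : GL chevF4.Idx K) : Prop :=
  ∃ a, a ≠ 0 ∧ ((∃ i ∈ [1, 3, 6, 7, 8, 9, 10, 11], X.Cj u (X.yP (PP i) a)) ∨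
    ∃ c, c ≠ 0 ∧ ∃ p ∈ [(1, 9), (3, 11), (7, 10)], X.Cj u (X.yP (PP p.1) a * X.yP (PP p.2) c))

theorem red_of_one {i : ℕ} (hi : i ∈ [1, 3, 6, 7, 8, 9, 10, 11]) {g v u : GL chevF4.Idx K} {x : K} (hx : x ≠ 0)
    (hgm : Mem (PP i) (dl []) g (x ^ X.e) x) (hv : v ∈ UL K (dl []) ⊓ X.Gs) (hc : X.Cj u (g * v)) : X.Red u := by
  have hv1 : v ∈ UL K [] := (Subgroup.mem_inf.1 hv).1
  rw [UL_nil, Subgroup.mem_bot] at hv1
  refine ⟨x, hx, Or.inl ⟨i, hi, ?_⟩⟩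
  rwa [hv1, mul_one, X.mem_yP hgm] at hc

theorem red_of_two {i j : ℕ} (hi : i ∈ [1, 3, 6, 7, 8, 9, 10, 11]) (hp : (i, j) ∈ [(1, 9), (3, 11), (7, 10)])
    (hG : gd (dl [j]) = true) {g v u : GL chevF4.Idx K} {x : K} (hx : x ≠ 0)
    (hgm : Mem (PP i) (dl []) g (x ^ X.e) x) (hv : v ∈ UL K (dl [j]) ⊓ X.Gs) (hc : X.Cj u (g * v)) : X.Red u := by
  obtain ⟨t, rfl⟩ := X.eq_yP hG hv
  rw [X.mem_yP hgm] at hc
  by_cases ht : t = 0
  · refine ⟨x, hx, Or.inl ⟨i, hi, ?_⟩⟩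
    subst ht
    simpa [RF.yP, zero_pow X.e_pos.ne', SF.xG_zero] using hc
  · exact ⟨x, hx, Or.inr ⟨t, ht, (i, j), hp, hc⟩⟩

theorem case_one {g v : GL chevF4.Idx K} {x : K} (hx : x ≠ 0) (hg : g ∈ X.Gs)
    (hgm : Mem (PP 1) (dl []) g (x ^ X.e) x) (hv : v ∈ UL K (dl [2, 3, 4, 5, 6, 7, 8, 9, 10, 11]) ⊓ X.Gs)
    (hu : g * v * (g * v) = 1) : X.Red (g * v) := by
  obtain ⟨v1, hv1, c1⟩ := X.kstep (i := 1) (A := []) (k := 0) (B := [3]) (j := 2) (L := [3, 4, 5, 6, 7, 8, 9, 10, 11])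
    (s := 0) (by decide +kernel) hx hg hgm hv
  have h1 := c1.sq X hu
  have hv2 := X.fstep (i := 1) (A := []) (b := 3) (B := [4, 5, 6, 7, 8, 9, 10, 11]) (j := 4)
    (L := [5, 6, 7, 8, 9, 10, 11]) (s := 0) (by decide +kernel) hx hgm hv1 h1
  obtain ⟨v3, hv3, c3⟩ := X.kstep (i := 1) (A := []) (k := 3) (B := []) (j := 4) (L := [5, 6, 7, 8, 9, 10, 11])
    (s := 0) (by decide +kernel) hx hg hgm hv2
  have h3 := c3.sq X h1
  have hv4 := X.fstep (i := 1) (A := []) (b := 5) (B := [6, 7, 8, 9, 10, 11]) (j := 7)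
    (L := [8, 9, 10, 11]) (s := 0) (by decide +kernel) hx hgm hv3 h3
  have hv5 := X.fstep (i := 1) (A := []) (b := 6) (B := [7, 8, 9, 10, 11]) (j := 8)
    (L := [9, 10, 11]) (s := 1) (by decide +kernel) hx hgm hv4 h3
  obtain ⟨v6, hv6, c6⟩ := X.kstep (i := 1) (A := []) (k := 5) (B := [11]) (j := 7) (L := [8, 9, 10, 11])
    (s := 0) (by decide +kernel) hx hg hgm hv5
  obtain ⟨v7, hv7, c7⟩ := X.kstep (i := 1) (A := []) (k := 6) (B := []) (j := 8) (L := [9, 10, 11])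
    (s := 1) (by decide +kernel) hx hg hgm hv6
  have h7 := c7.sq X (c6.sq X h3)
  have hv8 := X.fstep (i := 1) (A := []) (b := 10) (B := [9, 11]) (j := 11) (L := []) (s := 0) (by decide +kernel) hx hgm
    (X.reo hv7 (by decide +kernel)) h7
  obtain ⟨v9, hv9, c9⟩ := X.kstep (i := 1) (A := []) (k := 10) (B := []) (j := 11) (L := [9])
    (s := 0) (by decide +kernel) hx hg hgm (X.reo hv8 (by decide +kernel))
  exact X.red_of_two (by simp) (by simp) (by decide +kernel) hx hgm hv9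
    (Cj.trans X c1 (Cj.trans X c3 (Cj.trans X c6 (Cj.trans X c7 c9))))

theorem case_three {g v : GL chevF4.Idx K} {x : K} (hx : x ≠ 0) (hg : g ∈ X.Gs)
    (hgm : Mem (PP 3) (dl []) g (x ^ X.e) x) (hv : v ∈ UL K (dl [4, 5, 6, 7, 8, 9, 10, 11]) ⊓ X.Gs)
    (hu : g * v * (g * v) = 1) : X.Red (g * v) := by
  obtain ⟨v1, hv1, c1⟩ := X.kstep (i := 3) (A := []) (k := 1) (B := []) (j := 4) (L := [5, 6, 7, 8, 9, 10, 11])
    (s := 0) (by decide +kernel) hx hg hgm hv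
  obtain ⟨v2, hv2, c2⟩ := X.kstep (i := 3) (A := []) (k := 2) (B := [7]) (j := 6) (L := [5, 7, 8, 9, 10, 11])
    (s := 0) (by decide +kernel) hx hg hgm (X.reo hv1 (by decide +kernel))
  have h2 := c2.sq X (c1.sq X hu)
  have hv3 := X.fstep (i := 3) (A := []) (b := 7) (B := [5, 8, 9, 10, 11]) (j := 9) (L := [10, 11]) (s := 0)
    (by decide +kernel) hx hgm (X.reo hv2 (by decide +kernel)) h2
  have hv4 := X.fstep (i := 3) (A := []) (b := 8) (B := [5, 9, 10, 11]) (j := 10) (L := [11]) (s := 0)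
    (by decide +kernel) hx hgm (X.reo hv3 (by decide +kernel)) h2
  have hvv : v2 * v2 = 1 := by
    have hg2 := X.sq_mem (M := dl [3]) (L := []) (by decide +kernel) hgm.mem_UL
    rw [UL_nil, Subgroup.mem_bot] at hg2
    have hcm : g * v2 = v2 * g := X.commute_UL (A := dl [3]) (B := dl [5, 9, 10, 11]) (by decide +kernel) hgm.mem_UL hv4.1
    rw [show g * v2 * (g * v2) = g * v2 * g * v2 by group, mul_assoc g v2 g, ← hcm, ← mul_assoc, hg2, one_mul] at h2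
    exact h2
  have hv5 := X.bstep (i := 5) (j := 11) (L := [9, 10]) (by decide +kernel) (X.reo hv4 (by decide +kernel)) hvv
  obtain ⟨v6, hv6, c6⟩ := X.kstep (i := 3) (A := []) (k := 7) (B := []) (j := 9) (L := [10, 11])
    (s := 0) (by decide +kernel) hx hg hgm (X.reo hv5 (by decide +kernel))
  obtain ⟨v7, hv7, c7⟩ := X.kstep (i := 3) (A := []) (k := 8) (B := []) (j := 10) (L := [11])
    (s := 0) (by decide +kernel) hx hg hgm hv6
  exact X.red_of_two (by simp) (by simp) (by decide +kernel) hx hgm hv7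
    (Cj.trans X c1 (Cj.trans X c2 (Cj.trans X c6 c7)))

theorem case_six {g v : GL chevF4.Idx K} {x : K} (hx : x ≠ 0) (hg : g ∈ X.Gs)
    (hgm : Mem (PP 6) (dl []) g (x ^ X.e) x) (hv : v ∈ UL K (dl [7, 8, 9, 10, 11]) ⊓ X.Gs)
    (hu : g * v * (g * v) = 1) : X.Red (g * v) := by
  have hv1 := X.fstep (i := 6) (A := []) (b := 7) (B := [8, 9, 10, 11]) (j := 11) (L := []) (s := 0)
    (by decide +kernel) hx hgm hv hu
  obtain ⟨v2, hv2, c2⟩ := X.kstep (i := 6) (A := []) (k := 1) (B := []) (j := 8) (L := [9, 10, 11])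
    (s := 2) (by decide +kernel) hx hg hgm hv1
  obtain ⟨v3, hv3, c3⟩ := X.kstep (i := 6) (A := []) (k := 2) (B := [7]) (j := 9) (L := [10, 11])
    (s := 2) (by decide +kernel) hx hg hgm hv2
  obtain ⟨v4, hv4, c4⟩ := X.kstep (i := 6) (A := []) (k := 5) (B := [11]) (j := 10) (L := [11])
    (s := 0) (by decide +kernel) hx hg hgm hv3
  obtain ⟨v5, hv5, c5⟩ := X.kstep (i := 6) (A := []) (k := 7) (B := []) (j := 11) (L := [])
    (s := 0) (by decide +kernel) hx hg hgm hv4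
  exact X.red_of_one (by simp) hx hgm hv5 (Cj.trans X c2 (Cj.trans X c3 (Cj.trans X c4 c5)))

theorem case_seven {g v : GL chevF4.Idx K} {x : K} (hx : x ≠ 0) (hg : g ∈ X.Gs)
    (hgm : Mem (PP 7) (dl []) g (x ^ X.e) x) (hv : v ∈ UL K (dl [8, 9, 10, 11]) ⊓ X.Gs) : X.Red (g * v) := by
  obtain ⟨v1, hv1, c1⟩ := X.kstep (i := 7) (A := []) (k := 0) (B := [3]) (j := 8) (L := [9, 10, 11])
    (s := 0) (by decide +kernel) hx hg hgm hv
  obtain ⟨v2, hv2, c2⟩ := X.kstep (i := 7) (A := []) (k := 3) (B := []) (j := 9) (L := [10, 11])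
    (s := 0) (by decide +kernel) hx hg hgm hv1
  obtain ⟨v3, hv3, c3⟩ := X.kstep (i := 7) (A := []) (k := 6) (B := []) (j := 11) (L := [10])
    (s := 0) (by decide +kernel) hx hg hgm (X.reo hv2 (by decide +kernel))
  exact X.red_of_two (by simp) (by simp) (by decide +kernel) hx hgm hv3 (Cj.trans X c1 (Cj.trans X c2 c3))

theorem case_eight {g v : GL chevF4.Idx K} {x : K} (hx : x ≠ 0) (hg : g ∈ X.Gs)
    (hgm : Mem (PP 8) (dl []) g (x ^ X.e) x) (hv : v ∈ UL K (dl [9, 10, 11]) ⊓ X.Gs) : X.Red (g * v) := by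
  obtain ⟨v1, hv1, c1⟩ := X.kstep (i := 8) (A := []) (k := 0) (B := [3]) (j := 9) (L := [10, 11])
    (s := 2) (by decide +kernel) hx hg hgm hv
  obtain ⟨v2, hv2, c2⟩ := X.kstep (i := 8) (A := []) (k := 3) (B := []) (j := 10) (L := [11])
    (s := 0) (by decide +kernel) hx hg hgm hv1
  obtain ⟨v3, hv3, c3⟩ := X.kstep (i := 8) (A := []) (k := 4) (B := [10]) (j := 11) (L := [])
    (s := 0) (by decide +kernel) hx hg hgm hv2
  exact X.red_of_one (by simp) hx hgm hv3 (Cj.trans X c1 (Cj.trans X c2 c3))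

theorem case_nine {g v : GL chevF4.Idx K} {x : K} (hx : x ≠ 0) (hg : g ∈ X.Gs)
    (hgm : Mem (PP 9) (dl []) g (x ^ X.e) x) (hv : v ∈ UL K (dl [10, 11]) ⊓ X.Gs) : X.Red (g * v) := by
  obtain ⟨v1, hv1, c1⟩ := X.kstep (i := 9) (A := []) (k := 0) (B := [3]) (j := 10) (L := [11])
    (s := 0) (by decide +kernel) hx hg hgm hv
  obtain ⟨v2, hv2, c2⟩ := X.kstep (i := 9) (A := []) (k := 2) (B := [7]) (j := 11) (L := [])
    (s := 0) (by decide +kernel) hx hg hgm hv1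
  exact X.red_of_one (by simp) hx hgm hv2 (Cj.trans X c1 c2)

theorem case_ten {g v : GL chevF4.Idx K} {x : K} (hx : x ≠ 0) (hg : g ∈ X.Gs)
    (hgm : Mem (PP 10) (dl []) g (x ^ X.e) x) (hv : v ∈ UL K (dl [11]) ⊓ X.Gs) : X.Red (g * v) := by
  obtain ⟨v1, hv1, c1⟩ := X.kstep (i := 10) (A := []) (k := 1) (B := []) (j := 11) (L := [])
    (s := 0) (by decide +kernel) hx hg hgm hv
  exact X.red_of_one (by simp) hx hgm hv1 c1

/-- Every involution of the unipotent group has a normal form. -/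
theorem red_invol {u : GL chevF4.Idx K} (hu : u ∈ chevF4.posUnipotent K ⊓ X.Gs) (h2 : u * u = 1) (h1 : u ≠ 1) :
    X.Red u := by
  have e0 : dl [0, 1, 2, 3, 4, 5, 6, 7, 8, 9, 10, 11] = OP := by decide +kernel
  rw [← UL_OP, ← e0] at hu
  have u1 := X.reo (X.bstep (i := 0) (j := 3) (L := [1, 2, 4, 5, 6, 7, 8, 9, 10, 11]) (by decide +kernel)
    (X.reo hu (by decide +kernel)) h2) (L' := [1, 2, 3, 4, 5, 6, 7, 8, 9, 10, 11]) (by decide +kernel)
  obtain ⟨x, hz, g, hg, hgm, v, hv, e⟩ := X.split_lead (i := 1) (A := []) (L := [2, 3, 4, 5, 6, 7, 8, 9, 10, 11])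
    (by decide +kernel) (by decide +kernel) (by decide +kernel) u1
  by_cases hx : x = 0
  swap
  · exact e ▸ X.case_one hx hg hgm hv (e ▸ h2)
  have u3 := X.reo (X.bstep (i := 2) (j := 7) (L := [3, 4, 5, 6, 8, 9, 10, 11]) (by decide +kernel)
    (X.reo (hz hx) (by decide +kernel)) h2) (L' := [3, 4, 5, 6, 7, 8, 9, 10, 11]) (by decide +kernel)
  obtain ⟨x, hz, g, hg, hgm, v, hv, e⟩ := X.split_lead (i := 3) (A := []) (L := [4, 5, 6, 7, 8, 9, 10, 11])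
    (by decide +kernel) (by decide +kernel) (by decide +kernel) u3
  by_cases hx : x = 0
  swap
  · exact e ▸ X.case_three hx hg hgm hv (e ▸ h2)
  obtain ⟨x, hz', g, hg, hgm, v, hv, e⟩ := X.split_lead (i := 4) (A := [10]) (L := [5, 6, 7, 8, 9, 10, 11])
    (by decide +kernel) (by decide +kernel) (by decide +kernel) (hz hx)
  have u5 : u ∈ UL K (dl [5, 6, 7, 8, 9, 10, 11]) ⊓ X.Gs := by
    refine hz' (by_contra fun hx4 => hx4 ?_)
    have hv1 := X.fstep (i := 4) (A := [10]) (b := 5) (B := [6, 7, 8, 9, 10, 11]) (j := 9) (L := [10, 11]) (s := 0)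
      (by decide +kernel) hx4 hgm hv (e ▸ h2)
    exact X.gstep (i := 4) (a := 10) (L := [11]) (B := [6, 7, 8, 9, 10, 11]) (by decide +kernel) hgm hv1.1
      (e ▸ h2)
  obtain ⟨x, hz5, g, hg, hgm, v, hv, e⟩ := X.split_lead (i := 5) (A := [11]) (L := [6, 7, 8, 9, 10, 11])
    (by decide +kernel) (by decide +kernel) (by decide +kernel) u5
  have u6 : u ∈ UL K (dl [6, 7, 8, 9, 10, 11]) ⊓ X.Gs := by
    refine hz5 (by_contra fun hx5 => hx5 ?_)
    have hv1 := X.fstep (i := 5) (A := [11]) (b := 6) (B := [7, 8, 9, 10, 11]) (j := 10) (L := [11]) (s := 0)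
      (by decide +kernel) hx5 hgm hv (e ▸ h2)
    exact X.gstep (i := 5) (a := 11) (L := []) (B := [7, 8, 9, 10, 11]) (by decide +kernel) hgm hv1.1 (e ▸ h2)
  obtain ⟨x, hz6, g, hg, hgm, v, hv, e⟩ := X.split_lead (i := 6) (A := []) (L := [7, 8, 9, 10, 11])
    (by decide +kernel) (by decide +kernel) (by decide +kernel) u6
  by_cases hx : x = 0
  swap
  · exact e ▸ X.case_six hx hg hgm hv (e ▸ h2)
  obtain ⟨x, hz7, g, hg, hgm, v, hv, e⟩ := X.split_lead (i := 7) (A := []) (L := [8, 9, 10, 11])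
    (by decide +kernel) (by decide +kernel) (by decide +kernel) (hz6 hx)
  by_cases hx : x = 0
  swap
  · exact e ▸ X.case_seven hx hg hgm hv
  obtain ⟨x, hz8, g, hg, hgm, v, hv, e⟩ := X.split_lead (i := 8) (A := []) (L := [9, 10, 11])
    (by decide +kernel) (by decide +kernel) (by decide +kernel) (hz7 hx)
  by_cases hx : x = 0
  swap
  · exact e ▸ X.case_eight hx hg hgm hv
  obtain ⟨x, hz9, g, hg, hgm, v, hv, e⟩ := X.split_lead (i := 9) (A := []) (L := [10, 11])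
    (by decide +kernel) (by decide +kernel) (by decide +kernel) (hz8 hx)
  by_cases hx : x = 0
  swap
  · exact e ▸ X.case_nine hx hg hgm hv
  obtain ⟨x, hz10, g, hg, hgm, v, hv, e⟩ := X.split_lead (i := 10) (A := []) (L := [11])
    (by decide +kernel) (by decide +kernel) (by decide +kernel) (hz9 hx)
  by_cases hx : x = 0
  swap
  · exact e ▸ X.case_ten hx hg hgm hv
  obtain ⟨t, rfl⟩ := X.eq_yP (by decide +kernel) (hz10 hx)
  refine ⟨t, fun ht => h1 ?_, Or.inl ⟨11, by simp, Cj.refl X _⟩⟩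
  simp [RF.yP, ht, zero_pow X.e_pos.ne', SF.xG_zero]

end RF

end Cfsg.Lib.Chev.ReeF
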