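import Cfsg.Agent.Chev.Ree.F4.InvRep

/-! Centralisers of involutions of a group of type `²F₄`: the two classes are distinct, and each centraliser
lies in a maximal parabolic subgroup. -/

set_option autoImplicit false
set_option linter.dupNamespace false
set_option linter.unusedSectionVars false
set_option maxRecDepth 20000

open Cfsg.Lie

namespace Cfsg.Lib.Chev.ReeF

theorem image_eleven : ∀ k < 16, (pr k 44 < 24 ∧ pr k 47 < 24) ∨ ∃ j ∈ [3, 7, 10, 11],
    (pr k 44 = (PP j).1 ∧ pr k 47 = (PP j).2) ∧ (j = 11 → k ∈ [0, 9]) ∧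
      gd (dl (j :: [9, 10, 11].filter (· != j))) = true := by decide +kernel

/-- The image of a pair is negative or a positive pair of the list. -/
def okIm (k i : ℕ) (L : List ℕ) : Bool :=
  (decide (pr k (PP i).1 < 24) && decide (pr k (PP i).2 < 24)) ||
    L.any fun j => decide (pr k (PP i).1 = (PP j).1 ∧ pr k (PP i).2 = (PP j).2)

/-- The pairs reached from the pairs nine, ten, eleven, without the given one. -/
def restL (k j : ℕ) : List ℕ :=
  (List.range 12).filter fun i => i != j && ((j == 1 && decide (1 < i)) || [9, 10, 11].contains i ||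
    [10, 11].any fun l => decide (pr k (PP l).1 = (PP i).1 ∧ pr k (PP l).2 = (PP i).2))

theorem image_nine : ∀ k < 16, k = 0 ∨ k = 8 ∨
    (((pr k (PP 9).1 < 24 ∧ pr k (PP 9).2 < 24) ∧ okIm k 10 (List.range 12) = true ∧
      okIm k 11 (List.range 12) = true) ∨
    ∃ j < 12, (pr k (PP 9).1 = (PP j).1 ∧ pr k (PP 9).2 = (PP j).2) ∧ gd (dl (j :: restL k j)) = true ∧
      okIm k 10 (restL k j) = true ∧ okIm k 11 (restL k j) = true ∧
      ((rts (dl [9, 10, 11])).all fun r => (rts (dl (restL k j))).contains r) = true) := by decide +kernel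

theorem pairs_commute : okZ (rts (dl [9, 10, 11])) (rts (dl [9, 10, 11])) [] = true := by decide +kernel

theorem inv_facts : ∀ i ∈ [9, 10, 11], (PP i).1 < 48 ∧ (PP i).2 < 48 ∧ gd (dl [i]) = true ∧
    okPr (PP i) = true ∧ okP (PP i).1 (PP i).2 [] = true := by decide +kernel

namespace RF

variable {K : Type*} [Field K] [Fintype K] [CharP K 2] (X : RF K)
include X

theorem yP_fixed {i : ℕ} (hi : i ∈ [9, 10, 11]) (t : K) : X.yP (PP i) t ∈ UL K (dl [i]) ⊓ X.Gs :=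
  ⟨mul_mem (xG_mem_UL (by simp [dl, rts]) _) (xG_mem_UL (by simp [dl, rts]) _),
    X.yP_mem_Gs (inv_facts i hi).2.2.2.1 (inv_facts i hi).2.2.2.2 t⟩

theorem mem_U {g : GL chevF4.Idx K} {L : List ℕ} (hg : g ∈ UL K (dl L)) (hL : ∀ i ∈ L, i < 12) :
    g ∈ chevF4.posUnipotent K := by
  rw [← UL_OP]
  refine UL_mono (fun r hr => ?_) hg
  have h : ∀ i < 12, (PP i).1 ∈ rts OP ∧ (PP i).2 ∈ rts OP := by decide +kernel
  clear hg
  induction L with
  | nil => simp [dl, rts] at hr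
  | cons a L ih =>
    simp only [dl, List.map_cons, rts, List.mem_cons] at hr
    rcases hr with rfl | rfl | hr
    exacts [(h a (hL a List.mem_cons_self)).1, (h a (hL a List.mem_cons_self)).2,
      ih (fun i hi => hL i (List.mem_cons_of_mem _ hi)) hr]

theorem rep_ne_one {i : ℕ} (hi : i ∈ [9, 10, 11]) : X.yP (PP i) (1 : K) ≠ 1 := by
  intro h
  have hm : Mem (PP i) [] (X.yP (PP i) 1) ((1 : K) ^ X.e) 1 := ⟨1, one_mem _, (mul_one _).symm⟩
  rw [h] at hm
  exact one_ne_zero (hm.unique (X.gd_good (inv_facts i hi).2.2.1) (Mem.of_tail (one_mem _))).2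

theorem rep_order {i : ℕ} (hi : i ∈ [9, 10, 11]) : orderOf (X.yP (PP i) (1 : K)) = 2 := by
  haveI : Fact (Nat.Prime 2) := ⟨Nat.prime_two⟩
  refine orderOf_eq_prime ?_ (X.rep_ne_one hi)
  have h := X.sq_mem (M := dl [9, 10, 11]) (L := []) pairs_commute
    (UL_mono (fun r hr => by simp [dl, rts] at hr ⊢; simp only [List.mem_cons, List.not_mem_nil, or_false] at hi; rcases hi with rfl | rfl | rfl <;> tauto)
      (X.yP_fixed hi (1 : K)).1)
  rwa [UL_nil, Subgroup.mem_bot, ← sq] at h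

theorem eleven_central {u : GL chevF4.Idx K} (hu : u ∈ chevF4.posUnipotent K) (t : K) :
    X.yP (PP 11) t * u = u * X.yP (PP 11) t :=
  X.commute_UL (A := dl [11]) (B := OP) (by decide +kernel) (X.yP_fixed (by simp) t).1 (by rwa [UL_OP])

theorem borel_nine {b : GL chevF4.Idx K} (hb : b ∈ chevF4.borelSubgroup K ⊓ X.G1) :
    ∃ a, a ≠ 0 ∧ Mem (PP 9) (dl [10, 11]) (b⁻¹ * X.yP (PP 9) 1 * b) (a ^ X.e) a ∧
      b⁻¹ * X.yP (PP 9) 1 * b ∈ X.Gs := by
  obtain ⟨u, hu, d, hd, rfl⟩ := X.borel_fixed hb.1 (X.G1_le hb.2).2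
  rw [X.H1_eq] at hd
  obtain ⟨p, rfl⟩ := hd
  have hg := X.yP_fixed (i := 9) (by simp) (1 : K)
  have hN : okNm (rts OP) (PP 9) (dl [10, 11]) = true := by decide +kernel
  have huN : u ∈ Nm K (PP 9) (dl [10, 11]) := RG_le_Nm hN (by rw [RG_rts, UL_OP]; exact hu.1)
  have hm : Mem (PP 9) (dl [10, 11]) (X.yP (PP 9) (1 : K)) ((1 : K) ^ X.e) 1 := ⟨1, one_mem _, (mul_one _).symm⟩
  have hok : okL (PP 9 :: dl [10, 11]) = true := by decide +kernel
  have h2 := X.hh_conj_Mem hok p⁻¹ ((huN _ _ _).1 hm)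
  rw [mul_one, map_inv, inv_inv, show (X.hh p)⁻¹ * (u⁻¹ * X.yP (PP 9) 1 * u) * X.hh p =
    (u * X.hh p)⁻¹ * X.yP (PP 9) 1 * (u * X.hh p) by group] at h2
  have hfix : (u * X.hh p)⁻¹ * X.yP (PP 9) 1 * (u * X.hh p) ∈ X.Gs :=
    X.Gs.mul_mem (X.Gs.mul_mem (X.Gs.inv_mem (X.G1_le hb.2)) hg.2) (X.G1_le hb.2)
  have hgd : gd (PP 9 :: dl [10, 11]) = true := by decide +kernel
  obtain ⟨a, ha⟩ := X.fixed_lead (X.gd_good hgd) ⟨h2.mem_UL, hfix⟩
  exact ⟨a, by rw [← (h2.unique (X.gd_good hgd) ha).2]; exact Units.ne_zero _, ha, hfix⟩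

theorem borel_eleven {b : GL chevF4.Idx K} (hb : b ∈ chevF4.borelSubgroup K ⊓ X.G1) :
    ∃ a, a ≠ 0 ∧ b⁻¹ * X.yP (PP 11) 1 * b = X.yP (PP 11) a := by
  obtain ⟨u, hu, d, hd, rfl⟩ := X.borel_fixed hb.1 (X.G1_le hb.2).2
  rw [X.H1_eq] at hd
  obtain ⟨p, rfl⟩ := hd
  refine ⟨(X.chr p⁻¹ (PP 11).2 : K) * 1, by rw [mul_one]; exact Units.ne_zero _, ?_⟩
  rw [show (u * X.hh p)⁻¹ * X.yP (PP 11) 1 * (u * X.hh p) = (X.hh p)⁻¹ * (u⁻¹ * (X.yP (PP 11) 1 * u)) * X.hh p by group,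
    X.eleven_central hu.1, inv_mul_cancel_left, ← X.hh_yP (inv_facts 11 (by simp)).2.2.1, map_inv, inv_inv]

theorem nk_img {k i : ℕ} (hk : k < 16) (l1 : (PP i).1 < 48) (l2 : (PP i).2 < 48) (t : K) :
    X.nk k * X.yP (PP i) t * (X.nk k)⁻¹ =
      SF.ok.xG (pr k (PP i).1) (t ^ X.e) * SF.ok.xG (pr k (PP i).2) t := by
  have e : ∀ r < 48, ∀ t : K, X.nk k * SF.ok.xG r t * (X.nk k)⁻¹ = SF.ok.xG (pr k r) t := fun r hr t => by
    rw [nk, X.nL_conj_one _ hr, table_ok k hk r hr]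
  rw [yP, ← e _ l1, ← e _ l2]
  group

theorem neg_img {r s : ℕ} (hr : r < 24) (hs : s < 24) (x y : K) :
    SF.ok.xG r x * SF.ok.xG s y ∈ chevF4.negUnipotent K := by
  have : ∀ r, r < 24 → ∀ x : K, SF.ok.xG r x ∈ chevF4.negUnipotent K := fun r hr x =>
    Subgroup.subset_closure ⟨_, _, SF.isNeg_iff.2 (show r < 24 from hr), SF.ok.val_xG _ _⟩
  exact mul_mem (this r hr x) (this s hs y)

theorem borel_neg {g : GL chevF4.Idx K} (h1 : g ∈ chevF4.borelSubgroup K) (h2 : g ∈ chevF4.negUnipotent K) :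
    g = 1 := by
  have : g ∈ chevF4.borelSubgroup K ⊓ chevF4.negUnipotent K := ⟨h1, h2⟩
  rwa [SF.B_inf_V okNeg_F4, Subgroup.mem_bot] at this

theorem img_cases {k i : ℕ} {L : List ℕ} (hk : k < 16) (l1 : (PP i).1 < 48) (l2 : (PP i).2 < 48)
    (h : okIm k i L = true) (t : K) : X.nk k * X.yP (PP i) t * (X.nk k)⁻¹ ∈ chevF4.negUnipotent K ∨
      X.nk k * X.yP (PP i) t * (X.nk k)⁻¹ ∈ UL K (dl L) := by
  simp only [okIm, Bool.or_eq_true, Bool.and_eq_true, decide_eq_true_eq, List.any_eq_true] at h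
  rw [X.nk_img hk l1 l2]
  rcases h with ⟨a, b⟩ | ⟨j, hj, a, b⟩
  · exact Or.inl (X.neg_img a b _ _)
  · refine Or.inr ?_
    have hsub : ∀ {L : List ℕ} {j : ℕ}, j ∈ L → (PP j).1 ∈ rts (dl L) ∧ (PP j).2 ∈ rts (dl L) := by
      intro L j hj
      induction L with
      | nil => exact absurd hj List.not_mem_nil
      | cons x L ih =>
        simp only [dl, List.map_cons, rts, List.mem_cons]
        rcases List.mem_cons.1 hj with rfl | h
        · exact ⟨Or.inl rfl, Or.inr (Or.inl rfl)⟩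
        · exact ⟨Or.inr (Or.inr (ih h).1), Or.inr (Or.inr (ih h).2)⟩
    rw [a, b]
    exact mul_mem (xG_mem_UL (hsub hj).1 _) (xG_mem_UL (hsub hj).2 _)

/-- An element whose conjugate by a representative is in the given set of double cosets. -/
theorem nine_cell {k : ℕ} (hk : k < 16) {b u : GL chevF4.Idx K} (hb : b ∈ chevF4.borelSubgroup K ⊓ X.G1)
    (hu : u ∈ UL K (OPk k) ⊓ X.G1)
    (h : (b * X.nk k * u)⁻¹ * X.yP (PP 9) 1 * (b * X.nk k * u) = X.yP (PP 9) 1) : k = 0 ∨ k = 8 := by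
  obtain ⟨a, -, hm, hfix⟩ := X.borel_nine hb
  set y := X.yP (PP 9) (1 : K)
  have huU : u ∈ chevF4.posUnipotent K := by
    have := hu.1
    rw [← UPsi_eq hk] at this
    exact SF.UPsi_le _ this
  -- the conjugate of the representative
  have hy := X.yP_fixed (i := 9) (by simp) (1 : K)
  have hN : okNm (rts OP) (PP 9) (dl [10, 11]) = true := by decide +kernel
  have huN : u⁻¹ ∈ Nm K (PP 9) (dl [10, 11]) := inv_mem (RG_le_Nm hN (by rw [RG_rts, UL_OP]; exact huU))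
  have hgd : gd (PP 9 :: dl [10, 11]) = true := by decide +kernel
  have hwm : Mem (PP 9) (dl [10, 11]) (u * y * u⁻¹) ((1 : K) ^ X.e) 1 := by
    have := (huN y ((1 : K) ^ X.e) 1).1 ⟨1, one_mem _, (mul_one _).symm⟩
    rwa [inv_inv] at this
  have hwG : u * y * u⁻¹ ∈ X.Gs := X.Gs.mul_mem (X.Gs.mul_mem (X.G1_le hu.2) hy.2) (X.Gs.inv_mem (X.G1_le hu.2))
  have hv : y⁻¹ * (u * y * u⁻¹) ∈ UL K (dl [10, 11]) ⊓ X.Gs := by
    refine ⟨?_, X.Gs.mul_mem (X.Gs.inv_mem hy.2) hwG⟩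
    obtain ⟨v, hv, e⟩ := hwm
    rw [e]
    simpa [y, yP, mul_assoc] using hv
  obtain ⟨s, -, g, hg, hgm, v, hv', ev⟩ := X.split_lead (i := 10) (A := []) (L := [11]) (by decide +kernel)
    (by decide +kernel) (by decide +kernel) hv
  rw [X.mem_yP hgm] at ev
  obtain ⟨r, rfl⟩ := X.eq_yP (inv_facts 11 (by simp)).2.2.1 hv'
  have ew : u * y * u⁻¹ = y * (X.yP (PP 10) s * X.yP (PP 11) r) := by rw [← ev, mul_inv_cancel_left]
  set A := X.nk k * y * (X.nk k)⁻¹ with hA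
  set B := X.nk k * X.yP (PP 10) s * (X.nk k)⁻¹ with hB
  set C := X.nk k * X.yP (PP 11) r * (X.nk k)⁻¹ with hC
  have key : A * (B * C) = b⁻¹ * y * b := by
    have e1 : b⁻¹ * y * b = X.nk k * (u * y * u⁻¹) * (X.nk k)⁻¹ := by
      conv_rhs => rw [← h]
      group
    rw [e1, ew, hA, hB, hC]
    group
  have hR : b⁻¹ * y * b ∈ chevF4.borelSubgroup K :=
    SF.B_le_of (X.mem_U (L := [9, 10, 11]) hm.mem_UL (by simp))
  have hsub : ∀ i ∈ [9, 10, 11], ∀ t : K, X.yP (PP i) t ∈ UL K (dl [9, 10, 11]) := fun i hi t =>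
    UL_mono (fun q hq => by simp [dl, rts] at hq ⊢; simp only [List.mem_cons, List.not_mem_nil, or_false] at hi; rcases hi with rfl | rfl | rfl <;> tauto)
      (X.yP_fixed hi t).1
  have cm : ∀ i ∈ [9, 10, 11], ∀ j ∈ [9, 10, 11], ∀ t t' : K, X.nk k * X.yP (PP i) t * (X.nk k)⁻¹ *
      (X.nk k * X.yP (PP j) t' * (X.nk k)⁻¹) =
      X.nk k * X.yP (PP j) t' * (X.nk k)⁻¹ * (X.nk k * X.yP (PP i) t * (X.nk k)⁻¹) := by
    intro i hi j hj t t'
    have := X.commute_UL pairs_commute (hsub i hi t) (hsub j hj t')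
    rw [show ∀ p q : GL chevF4.Idx K, X.nk k * p * (X.nk k)⁻¹ * (X.nk k * q * (X.nk k)⁻¹) =
      X.nk k * (p * q) * (X.nk k)⁻¹ from fun p q => by group, this]
    group
  have cBC : B * C = C * B := cm 10 (by simp) 11 (by simp) s r
  have cAB : A * B = B * A := cm 9 (by simp) 10 (by simp) 1 s
  rcases image_nine k hk with h0 | h8 | ⟨⟨n1, n2⟩, i10, i11⟩ | ⟨j, hj12, ⟨p1, p2⟩, hgj, i10, i11, hsubj⟩
  · exact Or.inl h0
  · exact Or.inr h8
  · exfalso
    have hAn : A ∈ chevF4.negUnipotent K := by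
      rw [hA, X.nk_img hk (inv_facts 9 (by simp)).1 (inv_facts 9 (by simp)).2.1]
      exact X.neg_img n1 n2 _ _
    have hne : ∀ s' r' : K, A * (X.nk k * X.yP (PP 10) s' * (X.nk k)⁻¹ * (X.nk k * X.yP (PP 11) r' * (X.nk k)⁻¹)) ≠ 1 := by
      intro s' r' e
      have e' : y * (X.yP (PP 10) s' * X.yP (PP 11) r') = 1 := by
        calc y * (X.yP (PP 10) s' * X.yP (PP 11) r') = (X.nk k)⁻¹ * (A * (X.nk k * X.yP (PP 10) s' * (X.nk k)⁻¹ *
              (X.nk k * X.yP (PP 11) r' * (X.nk k)⁻¹))) * X.nk k := by rw [hA]; group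
          _ = 1 := by rw [e]; group
      have hh : Mem (PP 9) (dl [10, 11]) (y * (X.yP (PP 10) s' * X.yP (PP 11) r')) ((1 : K) ^ X.e) 1 :=
        ⟨_, mul_mem (UL_mono (fun q hq => by simp [dl, rts] at hq ⊢; tauto) (X.yP_fixed (i := 10) (by simp) s').1)
          (UL_mono (fun q hq => by simp [dl, rts] at hq ⊢; tauto) (X.yP_fixed (i := 11) (by simp) r').1), rfl⟩
      rw [e'] at hh
      exact one_ne_zero (hh.unique (X.gd_good hgd) (Mem.of_tail (one_mem _))).2
    have z10 : X.nk k * X.yP (PP 10) (0 : K) * (X.nk k)⁻¹ = 1 := by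
      simp [yP, zero_pow X.e_pos.ne', SF.xG_zero]
    have z11 : X.nk k * X.yP (PP 11) (0 : K) * (X.nk k)⁻¹ = 1 := by
      simp [yP, zero_pow X.e_pos.ne', SF.xG_zero]
    have hU : ∀ g ∈ UL K (dl (List.range 12)), g ∈ chevF4.borelSubgroup K := fun g hg =>
      SF.B_le_of (X.mem_U hg fun i hi => List.mem_range.1 hi)
    rcases X.img_cases hk (inv_facts 10 (by simp)).1 (inv_facts 10 (by simp)).2.1 i10 s with nb | pb <;>
      rcases X.img_cases hk (inv_facts 11 (by simp)).1 (inv_facts 11 (by simp)).2.1 i11 r with nc | pc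
    · exact hne s r (X.borel_neg (key ▸ hR) (mul_mem hAn (mul_mem nb nc)))
    · refine hne s 0 ?_
      rw [z11, mul_one]
      refine X.borel_neg ?_ (mul_mem hAn nb)
      have := mul_mem (key ▸ hR : A * (B * C) ∈ chevF4.borelSubgroup K) (inv_mem (hU C pc))
      rwa [← mul_assoc, mul_inv_cancel_right] at this
    · refine hne 0 r ?_
      rw [z10, one_mul]
      refine X.borel_neg ?_ (mul_mem hAn nc)
      have := mul_mem (key ▸ hR : A * (B * C) ∈ chevF4.borelSubgroup K) (inv_mem (hU B pb))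
      rwa [cBC, ← mul_assoc, mul_inv_cancel_right] at this
    · refine hne 0 0 ?_
      rw [z10, z11, mul_one, mul_one]
      refine X.borel_neg ?_ hAn
      have := mul_mem (key ▸ hR : A * (B * C) ∈ chevF4.borelSubgroup K) (inv_mem (hU (B * C) (mul_mem pb pc)))
      rwa [mul_inv_cancel_right] at this
  · exfalso
    have hAp : Mem (PP j) (dl (restL k j)) A ((1 : K) ^ X.e) 1 := by
      refine ⟨1, one_mem _, ?_⟩
      rw [hA, X.nk_img hk (inv_facts 9 (by simp)).1 (inv_facts 9 (by simp)).2.1, p1, p2, mul_one]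
    have hAU : A ∈ chevF4.borelSubgroup K := SF.B_le_of (X.mem_U (L := j :: restL k j) hAp.mem_UL (by
      intro i hi
      rcases List.mem_cons.1 hi with rfl | hi
      · exact hj12
      · exact List.mem_range.1 (List.mem_filter.1 hi).1))
    have hU : ∀ g ∈ UL K (dl (restL k j)), g ∈ chevF4.borelSubgroup K := fun g hg =>
      SF.B_le_of (X.mem_U hg fun i hi => List.mem_range.1 (List.mem_filter.1 hi).1)
    have hrest : B * C ∈ UL K (dl (restL k j)) := by
      rcases X.img_cases hk (inv_facts 10 (by simp)).1 (inv_facts 10 (by simp)).2.1 i10 s with nb | pb <;>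
        rcases X.img_cases hk (inv_facts 11 (by simp)).1 (inv_facts 11 (by simp)).2.1 i11 r with nc | pc
      · have h1 : B * C = 1 := X.borel_neg (by
          have := mul_mem (inv_mem hAU) (key ▸ hR : A * (B * C) ∈ chevF4.borelSubgroup K)
          rwa [inv_mul_cancel_left] at this) (mul_mem nb nc)
        rw [h1]; exact one_mem _
      · have h1 : B = 1 := X.borel_neg (by
          have := mul_mem (mul_mem (inv_mem hAU) (key ▸ hR : A * (B * C) ∈ chevF4.borelSubgroup K)) (inv_mem (hU C pc))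
          rwa [inv_mul_cancel_left, mul_inv_cancel_right] at this) nb
        rw [h1, one_mul]; exact pc
      · have h1 : C = 1 := X.borel_neg (by
          have := mul_mem (inv_mem (hU B pb)) (mul_mem (inv_mem hAU) (key ▸ hR : A * (B * C) ∈ chevF4.borelSubgroup K))
          rwa [inv_mul_cancel_left, inv_mul_cancel_left] at this) nc
        rw [h1, mul_one]; exact pb
      · exact mul_mem pb pc
    simp only [List.all_eq_true, List.contains_eq_mem, decide_eq_true_eq] at hsubj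
    have h1 := hAp.mul (X.gd_good hgj).ok (Mem.of_tail hrest)
    rw [key] at h1
    have := (h1.unique (X.gd_good hgj) (Mem.of_tail (UL_mono hsubj hm.mem_UL))).2
    simp at this

theorem eleven_cell {k : ℕ} (hk : k < 16) {b u : GL chevF4.Idx K} (hb : b ∈ chevF4.borelSubgroup K ⊓ X.G1)
    (hu : u ∈ UL K (OPk k) ⊓ X.G1) {i : ℕ} (hi : i = 9 ∨ i = 11)
    (h : (b * X.nk k * u)⁻¹ * X.yP (PP i) 1 * (b * X.nk k * u) = X.yP (PP 11) 1) : i = 11 ∧ (k = 0 ∨ k = 9) := by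
  have huU : u ∈ chevF4.posUnipotent K := by
    have := hu.1
    rw [← UPsi_eq hk] at this
    exact SF.UPsi_le _ this
  have e1 : b⁻¹ * X.yP (PP i) 1 * b = X.nk k * X.yP (PP 11) 1 * (X.nk k)⁻¹ := by
    calc b⁻¹ * X.yP (PP i) 1 * b
        = X.nk k * (u * ((b * X.nk k * u)⁻¹ * X.yP (PP i) 1 * (b * X.nk k * u)) * u⁻¹) * (X.nk k)⁻¹ := by group
      _ = X.nk k * (u * X.yP (PP 11) 1 * u⁻¹) * (X.nk k)⁻¹ := by rw [h]
      _ = _ := by rw [← X.eleven_central huU, mul_inv_cancel_right]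
  rw [X.nk_img hk (inv_facts 11 (by simp)).1 (inv_facts 11 (by simp)).2.1, one_pow] at e1
  rcases image_eleven k hk with ⟨n1, n2⟩ | ⟨j, hj, ⟨p1, p2⟩, hjk, hgj⟩
  · exfalso
    have hU : b⁻¹ * X.yP (PP i) 1 * b ∈ chevF4.borelSubgroup K := by
      refine mul_mem (mul_mem (inv_mem hb.1) (SF.B_le_of (X.mem_U (L := [i]) (X.yP_fixed ?_ 1).1 ?_))) hb.1
      · rcases hi with rfl | rfl <;> simp
      · rcases hi with rfl | rfl <;> simp
    have := X.borel_neg hU (e1 ▸ X.neg_img (K := K) n1 n2 1 1)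
    rw [show b⁻¹ * X.yP (PP i) 1 * b = b⁻¹ * X.yP (PP i) 1 * b⁻¹⁻¹ by rw [inv_inv], conj_eq_one_iff] at this
    exact X.rep_ne_one (by rcases hi with rfl | rfl <;> simp) this
  · have hm : Mem (PP j) (dl ([9, 10, 11].filter (· != j))) (b⁻¹ * X.yP (PP i) 1 * b) 1 1 := by
      rw [e1, show pr k (PP 11).1 = (PP j).1 from p1, show pr k (PP 11).2 = (PP j).2 from p2]
      exact ⟨1, one_mem _, (mul_one _).symm⟩
    simp only [List.mem_cons, List.not_mem_nil, or_false] at hj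
    rcases hi with rfl | rfl
    · exfalso
      obtain ⟨a, ha, hm9, -⟩ := X.borel_nine hb
      rcases hj with rfl | rfl | rfl | rfl
      · exact one_ne_zero (hm.unique (X.gd_good hgj) (Mem.of_tail hm9.mem_UL)).2
      · exact one_ne_zero (hm.unique (X.gd_good hgj) (Mem.of_tail hm9.mem_UL)).2
      all_goals
        refine ha (hm9.unique (X.gd_good (L := PP 9 :: dl [10, 11]) (by decide +kernel)) (Mem.of_tail (c := PP 9) ?_)).2
        obtain ⟨v, hv, e⟩ := hm
        have e' : b⁻¹ * X.yP (PP 9) 1 * b = _ := e1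
        rw [e', show pr k (PP 11).1 = _ from p1, show pr k (PP 11).2 = _ from p2]
        exact mul_mem (xG_mem_UL (by simp [dl, rts]) _) (xG_mem_UL (by simp [dl, rts]) _)
    · refine ⟨rfl, ?_⟩
      obtain ⟨a, ha, h11⟩ := X.borel_eleven hb
      have hj' : j = 11 := by
        by_contra hne
        rw [h11] at hm
        refine one_ne_zero (hm.unique (X.gd_good hgj) (Mem.of_tail (UL_mono ?_ (X.yP_fixed (i := 11) (by simp) a).1))).2
        rcases hj with rfl | rfl | rfl | rfl <;> first | decide +kernel | exact absurd rfl hne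
      have := hjk hj'
      simpa using this

/-- The two representatives are not conjugate. -/
theorem reps_ne : ¬ X.Cj (X.yP (PP 9) (1 : K)) (X.yP (PP 11) 1) := by
  rintro ⟨h, hh, e⟩
  obtain ⟨k, hk, b, hb, u, hu, rfl⟩ := X.Gs_cases (X.G1_le hh)
  exact absurd (X.eleven_cell hk hb hu (Or.inl rfl) e).1 (by norm_num)

/-- The centraliser of a representative lies in the union of two double cosets. -/
theorem cent_cell {i a : ℕ} (hia : (i = 9 ∧ a = 8) ∨ (i = 11 ∧ a = 9)) {g : GL chevF4.Idx K} (hg : g ∈ X.G1)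
    (h : g * X.yP (PP i) 1 = X.yP (PP i) 1 * g) :
    ∃ k, (k = 0 ∨ k = a) ∧ ∃ b ∈ chevF4.borelSubgroup K ⊓ X.G1, ∃ u ∈ UL K (OPk k) ⊓ X.G1, g = b * X.nk k * u := by
  obtain ⟨k, hk, b, hb, u, hu, rfl⟩ := X.Gs_cases (X.G1_le hg)
  have e : (b * X.nk k * u)⁻¹ * X.yP (PP i) 1 * (b * X.nk k * u) = X.yP (PP i) 1 := by
    rw [mul_assoc, ← h, inv_mul_cancel_left]
  refine ⟨k, ?_, b, hb, u, hu, rfl⟩
  rcases hia with ⟨rfl, rfl⟩ | ⟨rfl, rfl⟩
  · exact X.nine_cell hk hb hu e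
  · exact (X.eleven_cell hk hb hu (Or.inr rfl) e).2

end RF

end Cfsg.Lib.Chev.ReeF
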