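import Cfsg.Agent.Chev.Ree.F4.BN

/-! Leading coefficients of commutators in the unipotent group of a group of type `²F₄`. -/

set_option autoImplicit false
set_option linter.dupNamespace false
set_option linter.unusedSectionVars false

open Cfsg.Lie

namespace Cfsg.Lib.Chev.ReeF

variable {K : Type*} [Field K] [CharP K 2]

/-- The commutators of `r` and `s` lie in the given roots, up to terms with even coefficients. -/
def okQ (r s : ℕ) (L : List ℕ) : Bool :=
  (s != r) && (s != chevF4.neg r) && (chevF4.commTerms r s).all fun q => (q.2.1.natAbs % 2 == 0) || L.contains q.1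

theorem even_cast {z : ℤ} (h : z.natAbs % 2 = 0) : (z : K) = 0 := by
  rw [CharP.intCast_eq_zero_iff K 2]
  omega

theorem comm_word_even {r s : ℕ} {L : List (ℕ × ℕ)} (hr : r < chevF4.nroots) (hs : s < chevF4.nroots)
    (h : okQ r s (rts L) = true) (t u : K) :
    ∃ w ∈ UL K L, SF.ok.xG s u * SF.ok.xG r t = SF.ok.xG r t * SF.ok.xG s u * w := by
  simp only [okQ, Bool.and_eq_true, bne_iff_ne, List.all_eq_true, List.contains_eq_mem, decide_eq_true_eq,
    Bool.or_eq_true, beq_iff_eq] at h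
  refine ⟨_, ?_, SF.ok.commRel SF.chain SF.base hr hs h.1.1 h.1.2 t u⟩
  rw [ChevalleyDatum.commWord, Ok.wG]
  refine list_prod_mem fun g hg => ?_
  simp only [List.map_map, List.mem_map] at hg
  obtain ⟨q, hq, rfl⟩ := hg
  rcases h.2 q hq with he | hm
  · simp only [Function.comp_apply]
    rw [even_cast he, zero_mul, zero_mul, SF.xG_zero]
    exact one_mem _
  · exact xG_mem_UL hm _

/-- The subgroup generated by the root elements at some roots. -/
noncomputable def RG (K : Type*) [Field K] (S : List ℕ) : Subgroup (GL chevF4.Idx K) :=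
  Subgroup.closure {g | ∃ r ∈ S, ∃ t : K, g = SF.ok.xG r t}

theorem xG_mem_RG {S : List ℕ} {r : ℕ} (hr : r ∈ S) (t : K) : SF.ok.xG r t ∈ RG K S :=
  Subgroup.subset_closure ⟨r, hr, t, rfl⟩

theorem RG_rts (L : List (ℕ × ℕ)) : RG K (rts L) = UL K L := rfl

theorem RG_mono {S S' : List ℕ} (h : ∀ r ∈ S, r ∈ S') : RG K S ≤ RG K S' :=
  Subgroup.closure_mono fun _ ⟨r, hr, t, e⟩ => ⟨r, h r hr, t, e⟩

/-- The roots normalise the group of the list. -/
def okNz (S : List ℕ) (L : List (ℕ × ℕ)) : Bool :=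
  S.all fun r => decide (r < 48) && (rts L).all fun s => decide (s < 48) && ((s == r) || okQ r s (rts L))

/-- The elements normalising the group of the list. -/
noncomputable def Nz (K : Type*) [Field K] (L : List (ℕ × ℕ)) : Subgroup (GL chevF4.Idx K) where
  carrier := {y | ∀ z, z ∈ UL K L ↔ y⁻¹ * z * y ∈ UL K L}
  one_mem' := fun z => by simp
  mul_mem' := fun {a b} ha hb z => by
    rw [ha z, hb (a⁻¹ * z * a), show (a * b)⁻¹ * z * (a * b) = b⁻¹ * (a⁻¹ * z * a) * b by group]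
  inv_mem' := fun {a} ha z => by
    rw [inv_inv, ha (a * z * a⁻¹), show a⁻¹ * (a * z * a⁻¹) * a = z by group]

theorem RG_le_Nz {S : List ℕ} {L : List (ℕ × ℕ)} (h : okNz S L = true) : RG K S ≤ Nz K L := by
  simp only [okNz, List.all_eq_true, Bool.and_eq_true, decide_eq_true_eq] at h
  refine (Subgroup.closure_le _).2 ?_
  rintro g ⟨r, hr, t, rfl⟩
  obtain ⟨hr48, hrs⟩ := h r hr
  have key : ∀ (u : K), ∀ z ∈ UL K L, (SF.ok.xG r u)⁻¹ * z * SF.ok.xG r u ∈ UL K L := by
    intro u z hz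
    have hle : UL K L ≤ (UL K L).comap (MulAut.conj (SF.ok.xG r u)⁻¹).toMonoidHom := by
      refine (Subgroup.closure_le _).2 ?_
      rintro g ⟨s, hs, v, rfl⟩
      show (SF.ok.xG r u)⁻¹ * SF.ok.xG s v * ((SF.ok.xG r u)⁻¹)⁻¹ ∈ UL K L
      obtain ⟨hs48, hok⟩ := hrs s hs
      simp only [Bool.or_eq_true, beq_iff_eq] at hok
      rcases hok with rfl | hok
      · rw [inv_inv, mul_assoc, SF.ok.xG_mul, xG_inv, SF.ok.xG_mul, neg_add_cancel_comm_assoc]
        exact xG_mem_UL hs v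
      · obtain ⟨w, hw, e⟩ := comm_word_even hr48 hs48 hok u v
        rw [inv_inv, mul_assoc, e, mul_assoc (SF.ok.xG r u), inv_mul_cancel_left]
        exact mul_mem (xG_mem_UL hs v) hw
    have := hle hz
    rw [Subgroup.mem_comap] at this
    simpa using this
  intro z
  refine ⟨key t z, fun hz => ?_⟩
  have := key (-t) _ hz
  rw [← xG_inv, inv_inv] at this
  simpa [mul_assoc] using this

/-- The commutators of two sets of roots lie in the group of the list. -/
def okZ (S T : List ℕ) (L : List (ℕ × ℕ)) : Bool :=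
  okNz S L && okNz T L && S.all fun r => T.all fun s => (s == r) || okQ s r (rts L)

theorem comm_single {L : List (ℕ × ℕ)} {r s : ℕ} (hr : r < 48) (hs : s < 48)
    (h : ((s == r) || okQ s r (rts L)) = true) (t u : K) :
    (SF.ok.xG r t)⁻¹ * (SF.ok.xG s u)⁻¹ * SF.ok.xG r t * SF.ok.xG s u ∈ UL K L := by
  simp only [Bool.or_eq_true, beq_iff_eq] at h
  rcases h with rfl | h
  · rw [mul_assoc ((SF.ok.xG s t)⁻¹ * _), SF.ok.xG_mul, xG_inv, xG_inv, SF.ok.xG_mul, SF.ok.xG_mul,
      show -t + -u + (t + u) = 0 by ring, SF.xG_zero]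
    exact one_mem _
  · obtain ⟨w, hw, e⟩ := comm_word_even hs hr h u t
    rw [mul_assoc ((SF.ok.xG r t)⁻¹ * _), e]
    convert hw using 1
    group

/-- Commutators of the generated groups. -/
theorem comm_mem {S T : List ℕ} {L : List (ℕ × ℕ)} (h : okZ S T L = true) {g k : GL chevF4.Idx K}
    (hg : g ∈ RG K S) (hk : k ∈ RG K T) : g⁻¹ * k⁻¹ * g * k ∈ UL K L := by
  simp only [okZ, Bool.and_eq_true, List.all_eq_true] at h
  obtain ⟨⟨hS, hT⟩, hp⟩ := h
  have hSN := RG_le_Nz (K := K) hS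
  have hTN := RG_le_Nz (K := K) hT
  have h48 : ∀ {U : List ℕ}, okNz U L = true → ∀ r ∈ U, r < 48 := fun {U} hU r hr => by
    simp only [okNz, List.all_eq_true, Bool.and_eq_true, decide_eq_true_eq] at hU
    exact (hU r hr).1
  have h1 : ∀ r ∈ S, ∀ (t : K), ∀ k ∈ RG K T,
      (SF.ok.xG r t)⁻¹ * k⁻¹ * SF.ok.xG r t * k ∈ UL K L := by
    intro r hr t k hk
    induction hk using Subgroup.closure_induction with
    | mem y hy =>
      obtain ⟨s, hs, u, rfl⟩ := hy
      exact comm_single (h48 hS r hr) (h48 hT s hs) (hp r hr s hs) t u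
    | one => simp
    | mul a b ha hb iha ihb =>
      have := mul_mem ihb ((hTN hb _).1 iha)
      convert this using 1
      group
    | inv a ha iha =>
      have := (((inv_mem (hTN ha) : a⁻¹ ∈ Nz K L)) _).1 (inv_mem iha)
      convert this using 1
      group
  induction hg using Subgroup.closure_induction generalizing k with
  | mem y hy =>
    obtain ⟨r, hr, t, rfl⟩ := hy
    exact h1 r hr t k hk
  | one => simp
  | mul a b ha hb iha ihb =>
    have := mul_mem ((hSN hb _).1 (iha hk)) (ihb hk)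
    convert this using 1
    group
  | inv a ha iha =>
    have := ((inv_mem (hSN ha) : a⁻¹ ∈ Nz K L) _).1 (inv_mem (iha hk))
    convert this using 1
    group

/-- The roots fix the leading coefficients. -/
def okNm (S : List ℕ) (c : ℕ × ℕ) (L : List (ℕ × ℕ)) : Bool :=
  okL (c :: L) && okNz S L && S.all fun r =>
    ((c.1 == r) || okQ r c.1 (rts L)) && ((c.2 == r) || okQ r c.2 (rts L))

/-- The elements fixing the leading coefficients. -/
noncomputable def Nm (K : Type*) [Field K] (c : ℕ × ℕ) (L : List (ℕ × ℕ)) : Subgroup (GL chevF4.Idx K) where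
  carrier := {y | ∀ z s t, Mem c L z s t ↔ Mem c L (y⁻¹ * z * y) s t}
  one_mem' := fun z s t => by simp
  mul_mem' := fun {a b} ha hb z s t => by
    rw [ha z, hb (a⁻¹ * z * a), show (a * b)⁻¹ * z * (a * b) = b⁻¹ * (a⁻¹ * z * a) * b by group]
  inv_mem' := fun {a} ha z s t => by
    rw [inv_inv, ha (a * z * a⁻¹), show a⁻¹ * (a * z * a⁻¹) * a = z by group]

theorem RG_le_Nm {S : List ℕ} {c : ℕ × ℕ} {L : List (ℕ × ℕ)} (h : okNm S c L = true) : RG K S ≤ Nm K c L := by
  simp only [okNm, Bool.and_eq_true, List.all_eq_true] at h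
  obtain ⟨⟨hL, hN⟩, hc⟩ := h
  have hL' := hL
  simp only [okL, Bool.and_eq_true] at hL'
  obtain ⟨hc1, hc2, -⟩ := okPr_spec hL'.1.1.1
  have hN' := hN
  simp only [okNz, List.all_eq_true, Bool.and_eq_true, decide_eq_true_eq] at hN'
  refine (Subgroup.closure_le _).2 ?_
  rintro g ⟨r, hr, t, rfl⟩
  have hr48 : r < 48 := (hN' r hr).1
  have key : ∀ (u : K) z a b, Mem c L z a b → Mem c L ((SF.ok.xG r u)⁻¹ * z * SF.ok.xG r u) a b := by
    intro u z a b hz
    have hv : ∀ v ∈ UL K L, (SF.ok.xG r u)⁻¹ * v * SF.ok.xG r u ∈ UL K L := fun v hv =>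
      ((RG_le_Nz hN (xG_mem_RG hr u)) v).1 hv
    have one : ∀ d, d < 48 → ((d == r) || okQ r d (rts L)) = true → ∀ x : K,
        ∃ w ∈ UL K L, (SF.ok.xG r u)⁻¹ * SF.ok.xG d x * SF.ok.xG r u = SF.ok.xG d x * w := by
      intro d hd hok x
      simp only [Bool.or_eq_true, beq_iff_eq] at hok
      rcases hok with rfl | hok
      · refine ⟨1, one_mem _, ?_⟩
        rw [mul_one, mul_assoc, SF.ok.xG_mul, xG_inv, SF.ok.xG_mul, neg_add_cancel_comm_assoc]
      · obtain ⟨w, hw, e⟩ := comm_word_even hr48 hd hok u x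
        exact ⟨w, hw, by rw [mul_assoc, e, mul_assoc (SF.ok.xG r u), inv_mul_cancel_left]⟩
    obtain ⟨v, hv', rfl⟩ := hz
    obtain ⟨w1, hw1, e1⟩ := one c.1 hc1 (hc r hr).1 a
    obtain ⟨w2, hw2, e2⟩ := one c.2 hc2 (hc r hr).2 b
    have := ((mem_fst (L := L) (c := c) a).mul hL (Mem.of_tail hw1)).mul hL
      ((((mem_snd (L := L) (c := c) b).mul hL (Mem.of_tail hw2)).mul hL (Mem.of_tail (hv v hv'))))
    simp only [add_zero, zero_add] at this
    convert this using 1
    rw [← e1, ← e2]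
    group
  intro z a b
  refine ⟨key t z a b, fun hz => ?_⟩
  have := key (-t) _ _ _ hz
  rw [← xG_inv, inv_inv] at this
  simpa [mul_assoc] using this

/-- The coefficient at a root of the commutator of two root elements. -/
noncomputable def cf (d r s : ℕ) (t u : K) : K :=
  ((chevF4.commTerms s r).map fun q => if q.1 = d then (q.2.1 : K) * (-u) ^ q.2.2.1 * t ^ q.2.2.2 else 0).sum

/-- The commutator has the given second leading coefficient. -/
def Cm (c : ℕ × ℕ) (L : List (ℕ × ℕ)) (g k : GL chevF4.Idx K) (β : K) : Prop :=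
  ∃ α, Mem c L (g⁻¹ * k⁻¹ * g * k) α β

variable {c : ℕ × ℕ} {L : List (ℕ × ℕ)}

theorem Cm.of_mem {g k : GL chevF4.Idx K} (h : g⁻¹ * k⁻¹ * g * k ∈ UL K L) : Cm c L g k 0 :=
  ⟨0, Mem.of_tail h⟩

theorem Cm.mulL (h : okL (c :: L) = true) {g g' k : GL chevF4.Idx K} {β β' : K} (hg' : g' ∈ Nm K c L)
    (h1 : Cm c L g k β) (h2 : Cm c L g' k β') : Cm c L (g * g') k (β + β') := by
  obtain ⟨a, h1⟩ := h1
  obtain ⟨b, h2⟩ := h2
  refine ⟨a + b, ?_⟩
  have := ((hg' _ _ _).1 h1).mul h h2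
  convert this using 1
  group

theorem Cm.mulR (h : okL (c :: L) = true) {g k k' : GL chevF4.Idx K} {β β' : K} (hk' : k' ∈ Nm K c L)
    (h1 : Cm c L g k β) (h2 : Cm c L g k' β') : Cm c L g (k * k') (β + β') := by
  obtain ⟨a, h1⟩ := h1
  obtain ⟨b, h2⟩ := h2
  refine ⟨b + a, ?_⟩
  have := h2.mul h ((hk' _ _ _).1 h1)
  rw [add_comm β' β] at this
  convert this using 1
  group

theorem Cm.single (h : okL (c :: L) = true) {r s : ℕ} (hr : r < 48) (hs : s < 48)
    (hok : okQ s r (rts (c :: L)) = true) (t u : K) : Cm c L (SF.ok.xG r t) (SF.ok.xG s u) (cf c.2 r s t u) := by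
  have h' := h
  simp only [okL, Bool.and_eq_true] at h'
  obtain ⟨-, -, -, -, l1, l2⟩ := okPr_spec h'.1.1.1
  have hne : c.1 ≠ c.2 := fun e => by rw [e] at l1; omega
  simp only [okQ, Bool.and_eq_true, bne_iff_ne, List.all_eq_true, List.contains_eq_mem, decide_eq_true_eq,
    Bool.or_eq_true, beq_iff_eq] at hok
  have e := SF.ok.commRel SF.chain SF.base hs hr hok.1.1 hok.1.2 u t
  have hW : ∀ T : List (ℕ × ℤ × ℕ × ℕ), (∀ q ∈ T, q.2.1.natAbs % 2 = 0 ∨ q.1 ∈ rts (c :: L)) →
      ∃ α, Mem c L (SF.ok.wG (T.map fun q => (q.1, (q.2.1 : K) * (-u) ^ q.2.2.1 * t ^ q.2.2.2))) α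
        (T.map fun q => if q.1 = c.2 then (q.2.1 : K) * (-u) ^ q.2.2.1 * t ^ q.2.2.2 else 0).sum := by
    intro T hT
    induction T with
    | nil => exact ⟨0, by simpa [Ok.wG] using (Mem.of_tail (c := c) (one_mem (UL K L)))⟩
    | cons q T ih =>
      obtain ⟨α, hα⟩ := ih fun x hx => hT x (List.mem_cons_of_mem _ hx)
      set v := (q.2.1 : K) * (-u) ^ q.2.2.1 * t ^ q.2.2.2
      have hq := hT q List.mem_cons_self
      simp only [rts, List.mem_cons] at hq
      obtain ⟨a, ha⟩ : ∃ a, Mem c L (SF.ok.xG q.1 v) a (if q.1 = c.2 then v else 0) := by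
        rcases hq with he | e | e | hm
        · have hv : v = 0 := by simp only [v]; rw [even_cast he, zero_mul, zero_mul]
          exact ⟨0, by rw [hv, ite_self, SF.xG_zero]; exact Mem.of_tail (one_mem _)⟩
        · exact ⟨v, by rw [if_neg (fun e' => hne (e.symm.trans e')), e]; exact mem_fst v⟩
        · exact ⟨0, by rw [if_pos e, e]; exact mem_snd v⟩
        · by_cases e : q.1 = c.2
          · exact ⟨0, by rw [if_pos e, e]; exact mem_snd v⟩
          · exact ⟨0, by rw [if_neg e]; exact Mem.of_tail (xG_mem_UL hm v)⟩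
      refine ⟨a + α, ?_⟩
      have := ha.mul h hα
      simpa [Ok.wG, v] using this
  obtain ⟨α, hα⟩ := hW _ hok.2
  refine ⟨α, ?_⟩
  rw [cf]
  convert hα using 1
  rw [mul_assoc ((SF.ok.xG r t)⁻¹ * _), e, ChevalleyDatum.commWord]
  group

/-- The roots needed for the commutator of two elements with given leading pairs. -/
def okC (a : ℕ × ℕ) (A : List (ℕ × ℕ)) (b : ℕ × ℕ) (B : List (ℕ × ℕ)) (c : ℕ × ℕ) (L : List (ℕ × ℕ)) : Bool :=
  okNm (rts (a :: A) ++ rts (b :: B)) c L && okZ (rts A) (rts (b :: B)) L && okZ [a.1, a.2] (rts B) L &&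
    ([a.1, a.2].all fun r => [b.1, b.2].all fun s => okQ s r (rts (c :: L)))

/-- The leading coefficient of the commutator of two elements. -/
theorem Cm.pair {a b : ℕ × ℕ} {A B : List (ℕ × ℕ)} (hok : okC a A b B c L = true) {g k : GL chevF4.Idx K}
    {x₁ x₂ y₁ y₂ : K} (hg : Mem a A g x₁ x₂) (hk : Mem b B k y₁ y₂) :
    Cm c L g k (cf c.2 a.1 b.1 x₁ y₁ + cf c.2 a.1 b.2 x₁ y₂ + (cf c.2 a.2 b.1 x₂ y₁ + cf c.2 a.2 b.2 x₂ y₂)) := by
  simp only [okC, Bool.and_eq_true, List.all_eq_true] at hok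
  obtain ⟨⟨⟨hN, hA⟩, hB⟩, hp⟩ := hok
  have h : okL (c :: L) = true := by
    simp only [okNm, Bool.and_eq_true] at hN; exact hN.1.1
  have hn := RG_le_Nm (K := K) hN
  have h48 : ∀ r ∈ rts (a :: A) ++ rts (b :: B), r < 48 := fun r hr => by
    simp only [okNm, okNz, Bool.and_eq_true, List.all_eq_true, decide_eq_true_eq] at hN
    exact (hN.1.2 r hr).1
  have hm : ∀ r ∈ rts (a :: A) ++ rts (b :: B), ∀ t : K, SF.ok.xG r t ∈ Nm K c L := fun r hr t =>
    hn (xG_mem_RG hr t)
  obtain ⟨z, hz, rfl⟩ := hg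
  obtain ⟨w, hw, rfl⟩ := hk
  have hzN : z ∈ Nm K c L := hn (RG_mono (S := rts A) (fun r hr => List.mem_append_left _ (by simp [rts, hr])) hz)
  have hwN : w ∈ Nm K c L := hn (RG_mono (S := rts B) (fun r hr => List.mem_append_right _ (by simp [rts, hr])) hw)
  have hkR : SF.ok.xG b.1 y₁ * SF.ok.xG b.2 y₂ * w ∈ RG K (rts (b :: B)) :=
    mul_mem (mul_mem (xG_mem_RG (by simp [rts]) _) (xG_mem_RG (by simp [rts]) _))
      (RG_mono (S := rts B) (fun r hr => by simp [rts, hr]) hw)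
  have one : ∀ r ∈ [a.1, a.2], ∀ x : K, Cm c L (SF.ok.xG r x) (SF.ok.xG b.1 y₁ * SF.ok.xG b.2 y₂ * w)
      (cf c.2 r b.1 x y₁ + cf c.2 r b.2 x y₂) := by
    intro r hr x
    have hr' : r ∈ rts (a :: A) ++ rts (b :: B) := by
      simp only [List.mem_cons, List.not_mem_nil, or_false] at hr
      rcases hr with rfl | rfl <;> simp [rts]
    have := ((Cm.single h (h48 r hr') (h48 b.1 (by simp [rts])) (hp r hr b.1 (by simp)) x y₁).mulR h
      (hm b.2 (by simp [rts]) y₂) (Cm.single h (h48 r hr') (h48 b.2 (by simp [rts])) (hp r hr b.2 (by simp)) x y₂)).mulR h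
      hwN (Cm.of_mem (comm_mem hB (xG_mem_RG hr x) hw))
    rwa [add_zero] at this
  have := ((one a.1 (by simp) x₁).mulL h (hm a.2 (by simp [rts]) x₂) (one a.2 (by simp) x₂)).mulL h hzN
    (Cm.of_mem (comm_mem hA hz hkR))
  rwa [add_zero] at this

end Cfsg.Lib.Chev.ReeF
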