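import Cfsg.Agent.Chev.Ree.F4.InvComm

/-! Elimination of coefficients of involutions in the unipotent group of a group of type `²F₄`. -/

set_option autoImplicit false
set_option linter.dupNamespace false
set_option linter.unusedSectionVars false

open Cfsg.Lie

namespace Cfsg.Lib.Chev.ReeF

/-- The exponents of the odd terms at a root of the commutator of two root elements. -/
def ct (d r s : ℕ) : List (ℕ × ℕ) :=
  ((chevF4.commTerms s r).filter fun q => decide (q.1 = d) && decide (q.2.1.natAbs % 2 = 1)).map fun q => q.2.2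

/-- The three shapes of leading coefficients. -/
def kinds : List (List (List (ℕ × ℕ))) :=
  [[[], [], [], [(1, 1)]], [[], [(1, 2)], [], []], [[], [], [(2, 1)], []]]

/-- The commutator of two pairs has a coefficient of the given shape. -/
def okF (d : ℕ) (a b : ℕ × ℕ) (k : ℕ) : Bool :=
  decide (kinds.getD k [] = [ct d a.1 b.1, ct d a.1 b.2, ct d a.2 b.1, ct d a.2 b.2])

/-- A reordering of a part of the order of the pairs. -/
def okPerm (L L₀ : List (ℕ × ℕ)) : Bool :=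
  okL L && okL L₀ && decide (L₀.Sublist OP) && decide (L.length = L₀.length) &&
    ((rts L).all fun r => (rts L₀).contains r) && ((rts L₀).all fun r => (rts L).contains r)

namespace RF

variable {K : Type*} [Field K] [Fintype K] [CharP K 2] (X : RF K)
include X

/-- A shape as a function of the coefficients. -/
noncomputable def kf (_X : RF K) (k : ℕ) (x₁ x₂ y₁ y₂ : K) : K :=
  if k = 0 then x₂ * y₂ else if k = 1 then x₁ ^ 2 * y₂ else x₂ * y₁ ^ 2

theorem cf_eq (d r s : ℕ) (t u : K) : cf d r s t u = ((ct d r s).map fun p => u ^ p.1 * t ^ p.2).sum := by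
  rw [cf, ct]
  induction chevF4.commTerms s r with
  | nil => simp
  | cons q T ih =>
    rw [List.map_cons, List.sum_cons, ih, List.filter_cons]
    by_cases hd : q.1 = d
    · rcases X.intCast_sign q.2.1 with h | h
      · have hev : q.2.1.natAbs % 2 ≠ 1 := by
          intro ho
          have := X.char2
          obtain ⟨z, hz⟩ : ∃ z : ℤ, q.2.1 = 2 * z + 1 := by
            refine ⟨q.2.1 / 2, ?_⟩
            omega
          rw [hz, Int.cast_add, Int.cast_mul, Int.cast_ofNat, CharP.cast_eq_zero K 2 |> fun e => (show (2 : K) = 0 by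
            exact_mod_cast e), zero_mul, zero_add, Int.cast_one] at h
          exact one_ne_zero h
        simp [hd, h, hev]
      · have ho : q.2.1.natAbs % 2 = 1 := by
          by_contra ho
          have := X.char2
          obtain ⟨z, hz⟩ : ∃ z : ℤ, q.2.1 = 2 * z := ⟨q.2.1 / 2, by omega⟩
          rw [hz, Int.cast_mul, Int.cast_ofNat, show (2 : K) = 0 by exact_mod_cast CharP.cast_eq_zero K 2,
            zero_mul] at h
          exact zero_ne_one h
        simp [hd, h, ho, X.neg_eq]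
    · simp [hd]

theorem kf_eq {d : ℕ} {a b : ℕ × ℕ} {k : ℕ} (hk : k < 3) (h : okF d a b k = true) (x₁ x₂ y₁ y₂ : K) :
    cf d a.1 b.1 x₁ y₁ + cf d a.1 b.2 x₁ y₂ + (cf d a.2 b.1 x₂ y₁ + cf d a.2 b.2 x₂ y₂) = X.kf k x₁ x₂ y₁ y₂ := by
  simp only [okF, decide_eq_true_eq] at h
  interval_cases k <;> simp only [kinds, List.getD_cons_zero, List.getD_cons_succ, List.cons.injEq, and_true] at h <;>
    rw [X.cf_eq, X.cf_eq, X.cf_eq, X.cf_eq, ← h.1, ← h.2.1, ← h.2.2.1, ← h.2.2.2] <;>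
    simp [kf, mul_comm]

theorem kf_surj {k : ℕ} (hk : k < 3) {x : K} (hx : x ≠ 0) (β : K) :
    ∃ s, X.kf k (x ^ X.e) x (s ^ X.e) s = β := by
  have h2 : ∀ y : K, (y ^ X.e) ^ 2 = y ^ (2 * X.e) := fun y => by rw [← pow_mul, mul_comm]
  interval_cases k
  · exact ⟨β / x, by simp [kf, mul_div_cancel₀, hx]⟩
  · refine ⟨β / x ^ (2 * X.e), ?_⟩
    simp only [kf, one_ne_zero, if_false, if_true]
    rw [h2, mul_div_cancel₀ _ (pow_ne_zero _ hx)]
  · refine ⟨(β / x) ^ X.e, ?_⟩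
    simp only [kf, show (2 : ℕ) ≠ 0 by decide, show (2 : ℕ) ≠ 1 by decide, if_false]
    rw [h2, X.pow_e_e2, mul_div_cancel₀ _ hx]

theorem kf_zero {k : ℕ} (hk : k < 3) {x t : K} (hx : x ≠ 0) (h : X.kf k (x ^ X.e) x (t ^ X.e) t = 0) : t = 0 := by
  have he := X.e_pos
  interval_cases k <;> simpa [kf, hx, he.ne'] using h

theorem good_perm {L L₀ : List (ℕ × ℕ)} (h : okPerm L L₀ = true) : Good K L := by
  simp only [okPerm, Bool.and_eq_true, decide_eq_true_eq, List.all_eq_true, List.contains_eq_mem] at h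
  obtain ⟨⟨⟨⟨⟨h1, h2⟩, h3⟩, hlen⟩, h4⟩, h5⟩ := h
  have hg : Good K L₀ := card_UL_of_sublist h3 h2
  have heq : UL K L = UL K L₀ := le_antisymm (UL_mono h4) (UL_mono h5)
  refine ⟨h1, fun f f' e => ?_⟩
  have c0 : Nat.card (Fin L₀.length → K × K) = Nat.card ↥(UL K L₀) :=
    Nat.card_eq_of_bijective (fun f => (⟨prodP L₀ f, prodP_mem L₀ f⟩ : ↥(UL K L₀)))
      ⟨fun a b e => hg.2 (congrArg Subtype.val e), fun g => by
        obtain ⟨f, hf⟩ := exists_prodP h2 g.1 g.2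
        exact ⟨f, Subtype.ext hf.symm⟩⟩
  have hb : Function.Bijective (fun f => (⟨prodP L f, prodP_mem L f⟩ : ↥(UL K L))) := by
    rw [Nat.bijective_iff_surjective_and_card]
    refine ⟨fun g => ?_, ?_⟩
    · obtain ⟨f, hf⟩ := exists_prodP h1 g.1 g.2
      exact ⟨f, Subtype.ext hf.symm⟩
    · rw [heq, ← c0, hlen]
  exact hb.1 (Subtype.ext e)

theorem mem_G1 {g : GL chevF4.Idx K} (hg : g ∈ X.Gs) : g ∈ X.G1 := X.G1_eq ▸ hg

theorem kill {a b c : ℕ × ℕ} {A B L : List (ℕ × ℕ)} {k : ℕ} (hk : k < 3) (hC : okC a A b B c L = true)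
    (hF : okF c.2 a b k = true) (hgb : Good K (b :: B)) (hgc : Good K (c :: L)) {g v : GL chevF4.Idx K} {x : K}
    (hx : x ≠ 0) (hg : g ∈ X.Gs) (hgm : Mem a A g (x ^ X.e) x) (hv : v ∈ UL K (c :: L) ⊓ X.Gs) :
    ∃ h ∈ X.G1, ∃ v' ∈ UL K L ⊓ X.Gs, h⁻¹ * (g * v) * h = g * v' := by
  obtain ⟨t, ht⟩ := X.fixed_lead hgc hv
  obtain ⟨s, hs⟩ := X.kf_surj hk hx t
  obtain ⟨h, hh, hhm⟩ := X.lift hgb s
  obtain ⟨α, hα⟩ := Cm.pair hC hgm hhm
  rw [X.kf_eq hk hF, hs] at hα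
  have hN : h ∈ Nm K c L := by
    simp only [okC, Bool.and_eq_true] at hC
    refine RG_le_Nm hC.1.1.1 ?_
    exact RG_mono (S := rts (b :: B)) (fun r hr => List.mem_append_right _ hr) hh.1
  have hm := hα.mul hgc.ok ((hN _ _ _).1 ht)
  set w := g⁻¹ * h⁻¹ * g * h * (h⁻¹ * v * h)
  have hw : w ∈ X.Gs := mul_mem (mul_mem (mul_mem (mul_mem (inv_mem hg) (inv_mem hh.2)) hg) hh.2)
    (mul_mem (mul_mem (inv_mem hh.2) hv.2) hh.2)
  obtain ⟨t', ht'⟩ := X.fixed_lead hgc ⟨hm.mem_UL, hw⟩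
  have e : t' = 0 := by rw [← (hm.unique hgc ht').2, X.add_self]
  rw [e, zero_pow X.e_pos.ne'] at ht'
  exact ⟨h, X.mem_G1 hh.2, w, ⟨ht'.tail, hw⟩, by simp only [w]; group⟩

theorem sq_mem {M L : List (ℕ × ℕ)} (h : okZ (rts M) (rts M) L = true) {v : GL chevF4.Idx K} (hv : v ∈ UL K M) :
    v * v ∈ UL K L := by
  induction hv using Subgroup.closure_induction with
  | mem y hy =>
    obtain ⟨r, -, t, rfl⟩ := hy
    rw [SF.ok.xG_mul, X.add_self, SF.xG_zero]
    exact one_mem _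
  | one => simp
  | mul a b ha hb iha ihb =>
    have hc := comm_mem h (g := a) (k := b⁻¹) ha (inv_mem hb)
    have := mul_mem (mul_mem iha hc) ihb
    convert this using 1
    group
  | inv a ha iha => simpa [mul_inv_rev] using inv_mem iha

theorem commute_UL {A B : List (ℕ × ℕ)} (h : okZ (rts A) (rts B) [] = true) {g v : GL chevF4.Idx K}
    (hg : g ∈ UL K A) (hv : v ∈ UL K B) : g * v = v * g := by
  have := comm_mem h hg hv
  rw [UL_nil, Subgroup.mem_bot] at this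
  calc g * v = v * g * (g⁻¹ * v⁻¹ * g * v) := by group
    _ = v * g := by rw [this, mul_one]

theorem forced {a b c : ℕ × ℕ} {A B L : List (ℕ × ℕ)} {k : ℕ} (hk : k < 3) (hC : okC a A b B c L = true)
    (hF : okF c.2 a b k = true) (hgc : Good K (c :: L)) {g v : GL chevF4.Idx K} {x t : K} (hx : x ≠ 0)
    (hgm : Mem a A g (x ^ X.e) x) (hvm : Mem b B v (t ^ X.e) t) (hgg : g * g ∈ UL K L) (hvv : v * v ∈ UL K L)
    (hu : g * v * (g * v) = 1) : t = 0 := by
  obtain ⟨α, hα⟩ := Cm.pair hC hgm hvm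
  rw [X.kf_eq hk hF] at hα
  have hN : v ∈ Nz K L := by
    simp only [okC, okNm, Bool.and_eq_true] at hC
    exact RG_le_Nz hC.1.1.1.1.2 (RG_mono (S := rts (b :: B)) (fun r hr => List.mem_append_right _ hr) hvm.mem_UL)
  have h1 : v * (g * g) * v⁻¹ ∈ UL K L := by
    rw [hN, show v⁻¹ * (v * (g * g) * v⁻¹) * v = g * g by group]
    exact hgg
  have h2 : g⁻¹ * v⁻¹ * g * v = v * (g * g) * v⁻¹ * (v * v) := by
    have e : v⁻¹ = g * v * g := inv_eq_of_mul_eq_one_left (by simpa [mul_assoc] using hu)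
    calc g⁻¹ * v⁻¹ * g * v = g⁻¹ * (g * v * g) * g * v := by rw [← e]
      _ = _ := by group
  refine X.kf_zero hk hx (hα.unique hgc (Mem.of_tail ?_)).2
  rw [h2]
  exact mul_mem h1 hvv

theorem blead {a c : ℕ × ℕ} {N : List (ℕ × ℕ)} (hN : okNm [a.1, a.2] c N = true)
    (hp : okQ a.2 a.1 (rts (c :: N)) = true) (hct : ct c.2 a.1 a.2 = [(1, 2)]) (hgc : Good K (c :: N))
    {u : GL chevF4.Idx K} {t : K} (hum : Mem a (c :: N) u (t ^ X.e) t) (hu : u * u ∈ UL K N) : t = 0 := by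
  obtain ⟨w, hw, rfl⟩ := hum
  obtain ⟨ha, hb⟩ : a.1 < 48 ∧ a.2 < 48 := by
    simp only [okNm, okNz, Bool.and_eq_true, List.all_eq_true, decide_eq_true_eq] at hN
    exact ⟨(hN.1.2 a.1 (by simp)).1, (hN.1.2 a.2 (by simp)).1⟩
  set A := SF.ok.xG a.1 (t ^ X.e)
  set B := SF.ok.xG a.2 t
  obtain ⟨α, hα⟩ := Cm.single hgc.ok ha hb hp (t ^ X.e) t
  obtain ⟨s₁, s₂, hs⟩ := exists_mem hgc.ok hw
  have hAN : A ∈ Nm K c N := RG_le_Nm hN (xG_mem_RG (by simp) _)
  have hBN : B ∈ Nm K c N := RG_le_Nm hN (xG_mem_RG (by simp) _)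
  have h1 := (hα.mul hgc.ok ((hBN _ _ _).1 (((hAN _ _ _).1 hs)))).mul hgc.ok hs
  have hA : A⁻¹ = A := by simp only [A]; rw [xG_inv, X.neg_eq]
  have hB : B⁻¹ = B := by simp only [B]; rw [xG_inv, X.neg_eq]
  have e : A⁻¹ * B⁻¹ * A * B * (B⁻¹ * (A⁻¹ * w * A) * B) * w = A * B * w * (A * B * w) := by
    rw [show A⁻¹ * B⁻¹ * A * B * (B⁻¹ * (A⁻¹ * w * A) * B) * w = A⁻¹ * B⁻¹ * w * A * B * w by group, hA, hB]
    group
  rw [e] at h1
  have h2 := (h1.unique hgc (Mem.of_tail hu)).2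
  rw [X.cf_eq, hct, add_assoc, X.add_self, add_zero] at h2
  simpa [X.e_pos.ne'] using h2

end RF

end Cfsg.Lib.Chev.ReeF
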