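import Cfsg.Agent.Chev.Ree.F4.InvCent

/-! The maximal parabolic subgroups and the primes of centralisers of involutions. -/

set_option autoImplicit false
set_option linter.dupNamespace false
set_option linter.unusedSectionVars false
set_option maxRecDepth 20000

open Cfsg.Lie

namespace Cfsg.Lib.Chev.ReeF

theorem parab_len : (OPk 8).length = 1 ∧ (OPk 9).length = 2 ∧ (OPk 0).length = 0 := by decide +kernel

namespace RF

variable {K : Type*} [Field K] [Fintype K] [CharP K 2] (X : RF K)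
include X

/-- A maximal parabolic subgroup, as a normaliser of its radical. -/
noncomputable def Pa (X : RF K) (a : ℕ) : Subgroup (GL chevF4.Idx K) :=
  Subgroup.normalizer ((X.Rad a : Subgroup (GL chevF4.Idx K)) : Set (GL chevF4.Idx K)) ⊓ X.G1

theorem cell_mem_Pa {a : ℕ} (ha : a ∈ [8, 9]) {k : ℕ} (hk : k = 0 ∨ k = a) {b u : GL chevF4.Idx K}
    (hb : b ∈ chevF4.borelSubgroup K ⊓ X.G1) (hu : u ∈ UL K (OPk k) ⊓ X.G1) : b * X.nk k * u ∈ X.Pa a := by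
  have hB : ∀ x ∈ chevF4.borelSubgroup K ⊓ X.G1, x ∈ X.Pa a := fun x hx => by
    refine Subgroup.mem_inf.2 ⟨?_, hx.2⟩
    rw [Subgroup.mem_normalizer_iff]
    refine fun g => ⟨fun hg => X.B_conj_Rad ha hx.1 hg, fun hg => ?_⟩
    have := X.B_conj_Rad ha (inv_mem hx.1) hg
    simpa [mul_assoc] using this
  have hn0 : X.nk 0 ∈ chevF4.borelSubgroup K ⊓ X.G1 :=
    ⟨Subgroup.mem_sup_right (X.diag_of_act (X.nk_mono 0) (wk_zero ▸ X.nk_act 0)), X.nk_mem 0⟩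
  have hna : X.nk a ∈ X.Pa a := by
    refine Subgroup.mem_inf.2 ⟨?_, X.nk_mem a⟩
    rw [Subgroup.mem_normalizer_iff]
    refine fun g => ⟨fun hg => X.nk_conj_Rad ha hg, fun hg => ?_⟩
    have := X.diag_conj_Rad (inv_mem (X.nk_sq ha)) (X.nk_conj_Rad ha hg)
    simpa [mul_assoc] using this
  have huB : u ∈ chevF4.borelSubgroup K ⊓ X.G1 := by
    refine ⟨SF.B_le_of ?_, hu.2⟩
    have hk16 : k < 16 := by
      simp only [List.mem_cons, List.not_mem_nil, or_false] at ha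
      omega
    have := hu.1
    rw [← UPsi_eq hk16] at this
    exact SF.UPsi_le _ this
  refine mul_mem (mul_mem (hB b hb) ?_) (hB u huB)
  rcases hk with rfl | rfl
  exacts [hB _ hn0, hna]

theorem Pa_cases {a : ℕ} (ha : a ∈ [8, 9]) {g : GL chevF4.Idx K} (hg : g ∈ X.Pa a) :
    ∃ k, (k = 0 ∨ k = a) ∧ ∃ b ∈ chevF4.borelSubgroup K ⊓ X.G1, ∃ u ∈ UL K (OPk k) ⊓ X.G1, g = b * X.nk k * u := by
  obtain ⟨j, hj, b, hb, u, hu, rfl⟩ := X.Gs_cases (X.G1_le hg.2)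
  refine ⟨j, ?_, b, hb, u, hu, rfl⟩
  have hn := Subgroup.mem_normalizer_iff.1 (Subgroup.mem_inf.1 hg).1
  have huU : u ∈ chevF4.posUnipotent K := by
    have := hu.1
    rw [← UPsi_eq hj] at this
    exact SF.UPsi_le _ this
  have hconj : ∀ y ∈ X.Rad a, X.nk j * y * (X.nk j)⁻¹ ∈ X.Rad a := fun y hy => by
    have h := X.B_conj_Rad ha (inv_mem hb.1) ((hn _).1 (X.U_conj_Rad ha (inv_mem huU) hy))
    convert h using 1
    group
  refine rad_only a ha j hj fun r hr => ?_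
  have hlt : r < chevF4.nroots := List.mem_range.1 (List.mem_filter.1 hr).1
  by_contra hcon
  obtain ⟨-, c, hc, ec⟩ := X.nk_act j ⟨r, hlt⟩
  have h1 := hconj (SF.ok.xG r 1) (Subgroup.subset_closure ⟨r, hr, 1, rfl⟩)
  rw [(ec 1).1, mul_one] at h1
  have hU : SF.ok.xG (wk j ⟨r, hlt⟩).val c ∈ chevF4.borelSubgroup K := by
    refine SF.B_le_of ((Subgroup.closure_le _).2 ?_ h1)
    rintro y ⟨r', hr', t, rfl⟩
    obtain ⟨h5, h6⟩ := List.mem_filter.1 hr'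
    exact SF.xG_mem_U (of_decide_eq_true h6).1 (List.mem_range.1 h5) t
  have hneg : SF.ok.xG (wk j ⟨r, hlt⟩).val c ∈ chevF4.negUnipotent K :=
    Subgroup.subset_closure ⟨_, _, SF.isNeg_iff.2 (by
      show (wk j ⟨r, hlt⟩).val < 24
      rw [wk_val hj]
      show pr j r < 24
      omega), SF.ok.val_xG _ _⟩
  exact hc (SF.xG_eq_one (Fin.isLt _) (X.borel_neg hU hneg))

theorem card_Pa {a : ℕ} (ha : a ∈ [8, 9]) : Nat.card ↥(X.Pa a) = Fintype.card K ^ 12 * (Fintype.card K - 1) ^ 2 *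
    (1 + Fintype.card K ^ (OPk a).length) := by
  have ha16 : a < 16 ∧ a ≠ 0 := by
    simp only [List.mem_cons, List.not_mem_nil, or_false] at ha
    omega
  let f : (↥(chevF4.borelSubgroup K ⊓ X.G1) × ↥(UL K (OPk 0) ⊓ X.G1)) ⊕
      (↥(chevF4.borelSubgroup K ⊓ X.G1) × ↥(UL K (OPk a) ⊓ X.G1)) → ↥(X.Pa a) :=
    Sum.elim (fun p => ⟨p.1.1 * X.nk 0 * p.2.1, X.cell_mem_Pa ha (Or.inl rfl) p.1.2 p.2.2⟩)
      fun p => ⟨p.1.1 * X.nk a * p.2.1, X.cell_mem_Pa ha (Or.inr rfl) p.1.2 p.2.2⟩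
  have huniq : ∀ (k k' : ℕ), k < 16 → k' < 16 → ∀ b ∈ chevF4.borelSubgroup K ⊓ X.G1, ∀ u ∈ UL K (OPk k) ⊓ X.G1,
      ∀ b' ∈ chevF4.borelSubgroup K ⊓ X.G1, ∀ u' ∈ UL K (OPk k') ⊓ X.G1,
      b * X.nk k * u = b' * X.nk k' * u' → k = k' ∧ b = b' ∧ u = u' := by
    intro k k' hk hk' b hb u hu b' hb' u' hu' e
    have hu1 : u ∈ SF.UPsi K (Struct.Neg chevF4 (wk k)) := by rw [UPsi_eq hk]; exact hu.1
    have hu2 : u' ∈ SF.UPsi K (Struct.Neg chevF4 (wk k')) := by rw [UPsi_eq hk']; exact hu'.1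
    have hd := SF.normal_form_cong okNeg_F4 hb.1 hb'.1 (X.nk_mono _) (X.nk_mono _)
      (SF.UPsi_le _ hu1) (SF.UPsi_le _ hu2) e
    have h1 := SF.act_mul (X.nk_act k) (SF.act_diag hd)
    rw [mul_inv_cancel_left, mul_one] at h1
    obtain rfl : k = k' := wk_inj hk hk' (SF.act_unique h1 (X.nk_act k'))
    exact ⟨rfl, SF.normal_form_unique okNeg_F4 hb.1 hb'.1 (X.nk_act k) hu1 hu2 e⟩
  have hf : Function.Bijective f := by
    refine ⟨fun p q e => ?_, fun g => ?_⟩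
    · have e' := congrArg Subtype.val e
      rcases p with ⟨b, u⟩ | ⟨b, u⟩ <;> rcases q with ⟨b', u'⟩ | ⟨b', u'⟩
      · obtain ⟨-, h1, h2⟩ := huniq 0 0 (by omega) (by omega) _ b.2 _ u.2 _ b'.2 _ u'.2 e'
        rw [Subtype.ext h1, Subtype.ext h2]
      · obtain ⟨h0, -⟩ := huniq 0 a (by omega) ha16.1 _ b.2 _ u.2 _ b'.2 _ u'.2 e'
        exact absurd h0.symm ha16.2
      · obtain ⟨h0, -⟩ := huniq a 0 ha16.1 (by omega) _ b.2 _ u.2 _ b'.2 _ u'.2 e'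
        exact absurd h0 ha16.2
      · obtain ⟨-, h1, h2⟩ := huniq a a ha16.1 ha16.1 _ b.2 _ u.2 _ b'.2 _ u'.2 e'
        rw [Subtype.ext h1, Subtype.ext h2]
    · obtain ⟨k, hk, b, hb, u, hu, e⟩ := X.Pa_cases ha g.2
      rcases hk with rfl | rfl
      · exact ⟨Sum.inl (⟨b, hb⟩, ⟨u, hu⟩), Subtype.ext e.symm⟩
      · exact ⟨Sum.inr (⟨b, hb⟩, ⟨u, hu⟩), Subtype.ext e.symm⟩
  rw [← Nat.card_eq_of_bijective f hf, Nat.card_sum, Nat.card_prod, Nat.card_prod, X.card_B1, X.G1_eq,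
    X.card_fix (X.good_OPk (by norm_num)), X.card_fix (X.good_OPk ha16.1), parab_len.2.2]
  ring

theorem cent_primes {g b : GL chevF4.Idx K} (hg : g ∈ X.G1) (hb : b ∈ X.G1) (h2 : orderOf g = 2)
    (hc : g * b = b * g) :
    (orderOf b).primeFactors ⊆ (Fintype.card K * (Fintype.card K ^ 4 - 1)).primeFactors := by
  classical
  set q := Fintype.card K with hq
  obtain ⟨i, a, hia, hcj⟩ : ∃ i a, ((i = 9 ∧ a = 8) ∨ (i = 11 ∧ a = 9)) ∧ X.Cj g (X.yP (PP i) 1) := by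
    rcases X.invol_cases hg h2 with h | h
    exacts [⟨9, 8, Or.inl ⟨rfl, rfl⟩, h⟩, ⟨11, 9, Or.inr ⟨rfl, rfl⟩, h⟩]
  obtain ⟨c, hc1, ec⟩ := hcj
  have ha : a ∈ [8, 9] := by rcases hia with ⟨-, rfl⟩ | ⟨-, rfl⟩ <;> simp
  set b' := c⁻¹ * b * c
  have hb' : b' ∈ X.Pa a := by
    obtain ⟨k, hk, x, hx, u, hu, e⟩ := X.cent_cell hia (mul_mem (mul_mem (inv_mem hc1) hb) hc1) (g := b') (by
      rw [← ec]
      simp only [b']
      rw [show c⁻¹ * b * c * (c⁻¹ * g * c) = c⁻¹ * (b * g) * c by group, ← hc]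
      group)
    exact e ▸ X.cell_mem_Pa ha hk hx hu
  have hdvd : orderOf b ∣ q ^ 12 * (q - 1) ^ 2 * (1 + q ^ (OPk a).length) := by
    rw [hq, ← X.card_Pa ha]
    have e : orderOf b = orderOf b' := by
      rw [show b' = (MulAut.conj c⁻¹) b by simp [b']]
      exact ((MulAut.conj c⁻¹).orderOf_eq b).symm
    rw [e, ← Subgroup.orderOf_mk b' hb']
    exact orderOf_dvd_natCard _
  intro r hr
  obtain ⟨hrp, hrd, -⟩ := Nat.mem_primeFactors.1 hr
  have hq2 : 2 ≤ q := Fintype.one_lt_card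
  have hq4 : 1 ≤ q ^ 4 := Nat.one_le_pow _ _ (by omega)
  have h16 : 1 < q ^ 4 := Nat.one_lt_pow (by norm_num) (by omega)
  refine Nat.mem_primeFactors.2 ⟨hrp, ?_, Nat.mul_ne_zero (by omega) (by omega)⟩
  obtain ⟨k, hk⟩ : ∃ k, q = k + 1 := ⟨q - 1, by omega⟩
  have h4 : q ^ 4 - 1 = (q - 1) * (q + 1) * (q ^ 2 + 1) := by
    rw [hk, Nat.add_sub_cancel]
    exact Nat.sub_eq_of_eq_add (by ring)
  rw [h4]
  have h := hrd.trans hdvd
  rcases hrp.dvd_mul.1 h with h | h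
  · rcases hrp.dvd_mul.1 h with h | h
    · exact (hrp.dvd_of_dvd_pow h).trans (dvd_mul_right _ _)
    · exact (hrp.dvd_of_dvd_pow h).trans (((dvd_mul_right _ _).trans (dvd_mul_right _ _)).trans (dvd_mul_left _ _))
  · rcases hia with ⟨-, rfl⟩ | ⟨-, rfl⟩
    · rw [parab_len.1, pow_one, add_comm] at h
      exact h.trans (((dvd_mul_left _ _).trans (dvd_mul_right _ _)).trans (dvd_mul_left _ _))
    · rw [parab_len.2.1, add_comm] at h
      exact h.trans ((dvd_mul_left _ _).trans (dvd_mul_left _ _))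

theorem class_count : (ConjClasses.mk '' {g : ↥X.G1 | orderOf g = 2}).ncard = 2 := by
  classical
  have hm : ∀ i ∈ [9, 10, 11], X.yP (PP i) (1 : K) ∈ X.G1 := fun i hi => X.mem_G1 (X.yP_fixed hi 1).2
  set t9 : ↥X.G1 := ⟨_, hm 9 (by simp)⟩
  set t11 : ↥X.G1 := ⟨_, hm 11 (by simp)⟩
  have ho9 : orderOf t9 = 2 := (Subgroup.orderOf_coe t9).symm.trans (X.rep_order (by simp))
  have ho11 : orderOf t11 = 2 := (Subgroup.orderOf_coe t11).symm.trans (X.rep_order (by simp))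
  have hset : ConjClasses.mk '' {g : ↥X.G1 | orderOf g = 2} = {ConjClasses.mk t9, ConjClasses.mk t11} := by
    ext C
    constructor
    · rintro ⟨g, hg, rfl⟩
      have key : ∀ t : ↥X.G1, X.Cj (g : GL chevF4.Idx K) t → ConjClasses.mk g = ConjClasses.mk t := by
        rintro t ⟨h, hh, e⟩
        refine ConjClasses.mk_eq_mk_iff_isConj.2 (isConj_iff.2 ⟨(⟨h, hh⟩ : ↥X.G1)⁻¹, Subtype.ext ?_⟩)
        simpa using e
      rcases X.invol_cases g.2 ((Subgroup.orderOf_coe g).trans hg) with h | h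
      exacts [Or.inl (key t9 h), Or.inr (key t11 h)]
    · rintro (rfl | rfl)
      exacts [⟨t9, ho9, rfl⟩, ⟨t11, ho11, rfl⟩]
  rw [hset, Set.ncard_pair]
  intro e
  obtain ⟨c, hc⟩ := isConj_iff.1 (ConjClasses.mk_eq_mk_iff_isConj.1 e)
  refine X.reps_ne ⟨(c : GL chevF4.Idx K)⁻¹, inv_mem c.2, ?_⟩
  simpa using congrArg Subtype.val hc

end RF

end Cfsg.Lib.Chev.ReeF
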