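import Cfsg.Agent.Chev.Ree.F4.BN
import Cfsg.Agent.BN.Extra
import Cfsg.Agent.Chev.Borel

/-! Perfectness, trivial core and simplicity of the groups of type `²F₄`. -/

set_option autoImplicit false
set_option linter.dupNamespace false

open Cfsg.Lie
open scoped commutatorElement

namespace Cfsg.Lib.Chev.ReeF

namespace RF

variable {K : Type*} [Field K] [Fintype K] (X : RF K)
include X

/-- The scalar by which the torus acts at a root. -/
noncomputable def chr (X : RF K) (p : Kˣ × Kˣ) (r : ℕ) : Kˣ :=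
  ∏ i : Fin 4, (![p.1 ^ X.e, p.2 ^ X.e, p.2, p.1] : Fin 4 → Kˣ) i ^ chevF4.cartan (i : ℕ) r

theorem hh_conj_xG {r : ℕ} (hr : r < chevF4.nroots) (p : Kˣ × Kˣ) (t : K) :
    X.hh p * SF.ok.xG r t * (X.hh p)⁻¹ = SF.ok.xG r ((X.chr p r : K) * t) := by
  rw [X.hh_apply]
  exact SF.tG_conj_xG hr _ t

theorem hh_conj_Mem {c : ℕ × ℕ} {L : List (ℕ × ℕ)} (h : okL (c :: L) = true) (p : Kˣ × Kˣ)
    {g : GL chevF4.Idx K} {s t : K} (hg : Mem c L g s t) :
    Mem c L (X.hh p * g * (X.hh p)⁻¹) ((X.chr p c.1 : K) * s) ((X.chr p c.2 : K) * t) := by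
  obtain ⟨v, hv, rfl⟩ := hg
  have h' := h
  simp only [okL, Bool.and_eq_true] at h'
  obtain ⟨a, b, -⟩ := okPr_spec h'.1.1.1
  refine ⟨X.hh p * v * (X.hh p)⁻¹, conj_closure ?_ hv, ?_⟩
  · rintro g ⟨r, hr, u, rfl⟩
    rw [X.hh_conj_xG (rts_lt h'.2 r hr)]
    exact xG_mem_UL hr _
  · rw [← X.hh_conj_xG a, ← X.hh_conj_xG b]
    group

/-- The derived group inside the general linear group. -/
noncomputable def DD (X : RF K) : Subgroup (GL chevF4.Idx K) := (commutator ↥X.G1).map X.G1.subtype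

theorem DD_le : X.DD ≤ X.G1 := Subgroup.map_subtype_le _

theorem comm_mem_DD {a b : GL chevF4.Idx K} (ha : a ∈ X.G1) (hb : b ∈ X.G1) : a * b * a⁻¹ * b⁻¹ ∈ X.DD :=
  Subgroup.mem_map.2 ⟨⁅(⟨a, ha⟩ : ↥X.G1), (⟨b, hb⟩ : ↥X.G1)⁆, by
    rw [commutator_def]
    exact Subgroup.commutator_mem_commutator (Subgroup.mem_top _) (Subgroup.mem_top _), by
    simp only [commutatorElement_def, map_mul, map_inv, Subgroup.coe_subtype]⟩

theorem DD_normal {a g : GL chevF4.Idx K} (ha : a ∈ X.G1) (hg : g ∈ X.DD) : a * g * a⁻¹ ∈ X.DD := by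
  obtain ⟨c, hc, rfl⟩ := Subgroup.mem_map.1 hg
  have : (commutator ↥X.G1).Normal := by rw [commutator_def]; infer_instance
  exact Subgroup.mem_map.2 ⟨_, this.conj_mem c hc ⟨a, ha⟩, by simp⟩

theorem comm_rep {c : ℕ × ℕ} {L : List (ℕ × ℕ)} (h : okL (c :: L) = true) (hgood : Good K (c :: L))
    (p : Kˣ × Kˣ) (hp : X.chr p c.2 ≠ 1) (hrep : ∀ t : K, ∃ g ∈ X.G1, Mem c L g (t ^ X.e) t) (t : K) :
    ∃ g ∈ X.DD, Mem c L g (t ^ X.e) t := by
  have hk : (X.chr p c.2 : K) + 1 ≠ 0 := fun e => hp (Units.ext (by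
    rw [eq_neg_of_add_eq_zero_left e, X.neg_eq, Units.val_one]))
  obtain ⟨g, hg, hgm⟩ := hrep (t / ((X.chr p c.2 : K) + 1))
  have hm := (X.hh_conj_Mem h p hgm).mul h (hgm.inv h)
  have hd := X.comm_mem_DD (X.hh_mem p) hg
  have hfix : X.hh p * g * (X.hh p)⁻¹ * g⁻¹ ∈ UL K (c :: L) ⊓ X.Gs :=
    Subgroup.mem_inf.2 ⟨hm.mem_UL, X.G1_le (X.DD_le hd)⟩
  obtain ⟨t', ht'⟩ := X.fixed_lead hgood hfix
  have e : t' = t := by
    rw [← (hm.unique hgood ht').2, X.neg_eq]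
    field_simp
  exact ⟨_, hd, e ▸ ht'⟩

theorem exists_unit_pow_ne (hm : 1 ≤ X.m) : ∃ g : Kˣ, g ≠ 1 ∧ g ^ 2 ≠ 1 ∧ g ^ (2 * X.e) ≠ 1 := by
  obtain ⟨g, hg⟩ := IsCyclic.exists_generator (α := Kˣ)
  have h1 : orderOf g = 2 * X.e * X.e - 1 := by
    rw [orderOf_eq_card_of_forall_mem_zpowers hg, Nat.card_units, Nat.card_eq_fintype_card, X.card_eq]
  have he : 2 ≤ X.e := by
    rw [e]
    calc 2 = 2 ^ 1 := rfl
      _ ≤ 2 ^ X.m := Nat.pow_le_pow_right (by norm_num) hm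
  have h4 : 4 * X.e ≤ 2 * X.e * X.e := by nlinarith
  have key : ∀ n, 0 < n → n ≤ 2 * X.e → g ^ n ≠ 1 := fun n hn hn' h => by
    have := orderOf_le_of_pow_eq_one hn h
    omega
  refine ⟨g, fun h => key 1 one_pos (by omega) (by rw [pow_one, h]), key 2 two_pos (by omega),
    key _ (by omega) le_rfl⟩

theorem U1_le_DD (hm : 1 ≤ X.m) : chevF4.posUnipotent K ⊓ X.G1 ≤ X.DD := by
  obtain ⟨g, h1, h2, h3⟩ := X.exists_unit_pow_ne hm
  have hc : chevF4.cartan 0 25 = 0 ∧ chevF4.cartan 1 25 = -2 ∧ chevF4.cartan 2 25 = 2 ∧ chevF4.cartan 3 25 = -1 ∧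
      chevF4.cartan 0 24 = 0 ∧ chevF4.cartan 1 24 = 0 ∧ chevF4.cartan 2 24 = -1 ∧ chevF4.cartan 3 24 = 2 ∧
      chevF4.cartan 0 30 = -2 ∧ chevF4.cartan 1 30 = 2 ∧ chevF4.cartan 2 30 = 0 ∧ chevF4.cartan 3 30 = -1 := by
    decide +kernel
  obtain ⟨a0, a1, a2, a3, b0, b1, b2, b3, c0, c1, c2, c3⟩ := hc
  have k25 : X.chr (g, 1) 25 ≠ 1 := by
    simp [chr, Fin.prod_univ_four, a0, a1, a2, a3, h1]
  have k24 : X.chr (g, 1) 24 ≠ 1 := by
    simp [chr, Fin.prod_univ_four, b0, b1, b2, b3]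
    simpa [zpow_ofNat] using h2
  have k30 : X.chr (1, g) 30 ≠ 1 := by
    simp [chr, Fin.prod_univ_four, c0, c1, c2, c3]
    simpa [zpow_ofNat, ← pow_mul, mul_comm X.e 2] using h3
  rw [X.U1_eq]
  refine X.fixU_le (X.DD_le.trans X.G1_le) (fun W g hg => X.DD_normal (X.nK_mem W) hg) ?_ ?_ ?_
  · refine X.comm_rep (by decide +kernel) (card_UL_of_sublist (by decide) (by decide +kernel)) _ k25 fun t => ?_
    exact ⟨_, X.yB_mem t 0, _, mul_mem (xG_mem_UL (by simp [rts]) _) (xG_mem_UL (by simp [rts]) _), rfl⟩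
  · refine X.comm_rep (by decide +kernel) (card_UL_of_sublist (by decide) (by decide +kernel)) _ k24 fun t => ?_
    exact ⟨_, X.yA_mem t, 1, one_mem _, (mul_one _).symm⟩
  · refine X.comm_rep (by decide +kernel) (card_UL_of_sublist (by decide) (by decide +kernel)) _ k30 fun t => ?_
    refine ⟨_, X.yB_mem 0 (t ^ X.e), 1, one_mem _, ?_⟩
    rw [y4, zero_pow X.e_pos.ne', zero_pow (Nat.succ_ne_zero X.e), SF.xG_zero, SF.xG_zero, one_mul, one_mul, zero_add,
      X.pow_e_e2, mul_one]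

theorem neg_conj {r : ℕ} (hr : r < 24) (t : K) :
    X.nk 4 * SF.ok.xG r t * (X.nk 4)⁻¹ ∈ chevF4.posUnipotent K := by
  have hlt : r < chevF4.nroots := show r < 48 by omega
  obtain ⟨-, c, -, e⟩ := X.nk_act 4 ⟨r, hlt⟩
  rw [(e t).1]
  exact SF.xG_mem_U (show 24 ≤ (wk 4 ⟨r, hlt⟩).val by rw [wk_val (by norm_num)]; exact (opp r hlt).2 hr)
    (Fin.isLt _) _

theorem perfect (hm : 1 ≤ X.m) : commutator ↥X.G1 = ⊤ := by
  have hU := X.U1_le_DD hm
  have hpos : ∀ r, 24 ≤ r → r < 48 → ∀ t : K, SF.ok.xG r t ∈ chevF4.posUnipotent K := fun r h1 h2 t =>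
    SF.xG_mem_U h1 h2 t
  have hneg : ∀ g ∈ X.G1, X.nk 4 * g * (X.nk 4)⁻¹ ∈ chevF4.posUnipotent K → g ∈ X.DD := fun g hg h => by
    have h1 : X.nk 4 * g * (X.nk 4)⁻¹ ∈ X.DD :=
      hU (Subgroup.mem_inf.2 ⟨h, mul_mem (mul_mem (X.nk_mem 4) hg) (inv_mem (X.nk_mem 4))⟩)
    simpa [mul_assoc] using X.DD_normal (inv_mem (X.nk_mem 4)) h1
  have hle : X.G1 ≤ X.DD := by
    refine (Subgroup.closure_le _).2 fun g hg => ?_
    have hgG : g ∈ X.G1 := Subgroup.subset_closure hg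
    rcases (X.G1_gens g).1 hg with ⟨t, rfl | rfl⟩ | ⟨t, u, rfl | rfl⟩
    · exact hU (Subgroup.mem_inf.2 ⟨mul_mem (hpos 33 (by norm_num) (by norm_num) _) (hpos 24 le_rfl (by norm_num) _), hgG⟩)
    · refine hneg _ hgG ?_
      rw [yP, ← conj_mul]
      exact mul_mem (X.neg_conj (by norm_num) _) (X.neg_conj (by norm_num) _)
    · exact hU (Subgroup.mem_inf.2 ⟨mul_mem (mul_mem (hpos 27 (by norm_num) (by norm_num) _)
        (hpos 25 (by norm_num) (by norm_num) _))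
        (mul_mem (hpos 28 (by norm_num) (by norm_num) _) (hpos 30 (by norm_num) (by norm_num) _)), hgG⟩)
    · refine hneg _ hgG ?_
      rw [y4, ← conj_mul, ← conj_mul, ← conj_mul]
      exact mul_mem (mul_mem (X.neg_conj (by norm_num) _) (X.neg_conj (by norm_num) _))
        (mul_mem (X.neg_conj (by norm_num) _) (X.neg_conj (by norm_num) _))
  rw [eq_top_iff]
  rintro ⟨g, hg⟩ -
  obtain ⟨c, hc, e⟩ := Subgroup.mem_map.1 (hle hg)
  rwa [show (⟨g, hg⟩ : ↥X.G1) = c from Subtype.ext e.symm]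

theorem core_eq_bot : ((chevF4.borelSubgroup K ⊓ X.G1).subgroupOf X.G1).normalCore = ⊥ := by
  set P := (chevF4.borelSubgroup K ⊓ X.G1).subgroupOf X.G1
  refine eq_bot_iff.2 fun g hg => ?_
  have hB : ∀ h ∈ P.normalCore, (h : GL chevF4.Idx K) ∈ chevF4.borelSubgroup K := fun h hh =>
    (Subgroup.mem_inf.1 (Subgroup.mem_subgroupOf.1 (Subgroup.normalCore_le _ hh))).1
  have hd : ∀ h ∈ P.normalCore, (h : GL chevF4.Idx K) ∈ chevF4.diagonalSubgroup K := fun h hh => by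
    have h1 := hB _ (P.normalCore_normal.conj_mem h hh ⟨X.nk 4, X.nk_mem 4⟩)
    simp only [Subgroup.coe_mul, Subgroup.coe_inv] at h1
    obtain ⟨u, hu, d, hd, e⟩ := SF.borel_decomp (hB h hh)
    have h2 : X.nk 4 * u * (X.nk 4)⁻¹ ∈ chevF4.borelSubgroup K ⊓ chevF4.negUnipotent K := by
      refine Subgroup.mem_inf.2 ⟨?_, ?_⟩
      · rw [show X.nk 4 * u * (X.nk 4)⁻¹ = (X.nk 4 * h * (X.nk 4)⁻¹) * (X.nk 4 * d * (X.nk 4)⁻¹)⁻¹ by rw [e]; group]
        exact mul_mem h1 (inv_mem (Subgroup.mem_sup_right (SF.norm_diag (X.nk_mono 4) hd)))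
      · refine SF.conj_Neg (X.nk_act 4) ?_
        refine (Subgroup.closure_le _).2 ?_ hu
        rintro y ⟨r, t, hr, hy⟩
        obtain ⟨h24, hlt⟩ := SF.isPos_iff.1 hr
        refine Subgroup.subset_closure ⟨⟨r, hlt⟩, t, h24, ?_, SF.ok.eq_xG hy⟩
        show (wk 4 ⟨r, hlt⟩).val < 24
        rw [wk_val (by norm_num)]
        have : ¬ 24 ≤ pr 4 r := fun hh => by
          have := (opp r hlt).1 hh
          have : chevF4.nroots / 2 = 24 := rfl
          omega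
        show pr 4 r < 24
        omega
    rw [SF.B_inf_V okNeg_F4, Subgroup.mem_bot, mul_inv_eq_one, mul_eq_left] at h2
    rw [e, h2, one_mul]; exact hd
  have hgd := hd g hg
  have h1 : (g : GL chevF4.Idx K) ∈ chevF4.diagonalSubgroup K ⊓ X.G1 := Subgroup.mem_inf.2 ⟨hgd, g.2⟩
  rw [X.H1_eq] at h1
  obtain ⟨p, hp⟩ := h1
  have hchr : ∀ c L, (c :: L) <:+ OP → X.chr p c.2 = 1 := fun c L hs => by
    have hgood : Good K (c :: L) := card_UL_of_sublist hs.sublist (by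
      have : ∀ i < 12, okL (OP.getD i (0, 0) :: OP.drop (i + 1)) = true := by decide +kernel
      obtain ⟨i, hi, e⟩ := List.mem_map.1 (suffix_cases hs)
      simp only [Prod.mk.injEq] at e
      rw [← e.1, ← e.2]
      exact this i (List.mem_range.1 hi))
    obtain ⟨y, hy, hym⟩ := X.lift hgood 1
    have hyG : y ∈ X.G1 := by rw [X.G1_eq]; exact hy.2
    have hyU : y ∈ chevF4.posUnipotent K := by
      rw [← UL_OP]
      exact UL_mono (fun r hr => by
        have hsub : ∀ {l l' : List (ℕ × ℕ)}, l.Sublist l' → ∀ r ∈ rts l, r ∈ rts l' := by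
          intro l l' h
          induction h with
          | slnil => exact fun r hr => hr
          | cons a _ ih => exact fun r hr => by simp [rts, ih r hr]
          | cons_cons a _ ih =>
            intro r hr
            simp only [rts, List.mem_cons] at hr ⊢
            rcases hr with h | h | h
            exacts [Or.inl h, Or.inr (Or.inl h), Or.inr (Or.inr (ih r h))]
        exact hsub hs.sublist r hr) hy.1
    have h2 := hd _ (P.normalCore_normal.conj_mem g hg ⟨y, hyG⟩)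
    simp only [Subgroup.coe_mul, Subgroup.coe_inv] at h2
    have h3 : y * (g : GL chevF4.Idx K) * y⁻¹ * (g : GL chevF4.Idx K)⁻¹ ∈
        chevF4.posUnipotent K ⊓ chevF4.diagonalSubgroup K := by
      refine Subgroup.mem_inf.2 ⟨?_, mul_mem h2 (inv_mem hgd)⟩
      rw [show y * (g : GL chevF4.Idx K) * y⁻¹ * (g : GL chevF4.Idx K)⁻¹ =
        y * ((g : GL chevF4.Idx K) * y⁻¹ * (g : GL chevF4.Idx K)⁻¹) by group]
      exact mul_mem hyU ((Subgroup.mem_normalizer_iff.1 (SF.diag_normalises_U hgd) _).1 (inv_mem hyU))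
    rw [SF.U_inf_H, Subgroup.mem_bot, mul_inv_eq_one, mul_inv_eq_iff_eq_mul] at h3
    have h4 := X.hh_conj_Mem hgood.ok p hym
    have hp' : X.hh p = (g : GL chevF4.Idx K) := hp
    rw [hp', ← h3, mul_inv_cancel_right] at h4
    have := (h4.unique hgood hym).2
    exact Units.ext (by simpa using this)
  have e46 := hchr (40, 46) [(44, 47)] (by decide)
  have e47 := hchr (44, 47) [] (by decide)
  have hc : chevF4.cartan 0 46 = 0 ∧ chevF4.cartan 1 46 = 0 ∧ chevF4.cartan 2 46 = 1 ∧ chevF4.cartan 3 46 = -1 ∧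
      chevF4.cartan 0 47 = 0 ∧ chevF4.cartan 1 47 = 0 ∧ chevF4.cartan 2 47 = 0 ∧ chevF4.cartan 3 47 = 1 := by
    decide +kernel
  obtain ⟨a0, a1, a2, a3, b0, b1, b2, b3⟩ := hc
  simp [chr, Fin.prod_univ_four, b0, b1, b2, b3] at e47
  simp [chr, Fin.prod_univ_four, a0, a1, a2, a3, e47] at e46
  rw [Subgroup.mem_bot]
  refine Subtype.ext ?_
  rw [← hp, show p = 1 from Prod.ext e47 e46, map_one]
  rfl

theorem simple (hm : 1 ≤ X.m) : IsSimpleGroup ↥X.G1 ∧ ¬ IsMulCommutative ↥X.G1 := by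
  obtain ⟨P, hB, -, hS⟩ := X.exists_BN
  have hperf := X.perfect hm
  have hne : X.nk 8 ≠ 1 := fun h => by
    have h1 := X.nk_act 8
    rw [h] at h1
    have := wk_inj (by norm_num : 8 < 16) (by norm_num : 0 < 16)
      (SF.act_unique h1 (wk_zero.symm ▸ SF.act_one (F := K)))
    exact absurd this (by norm_num)
  have hnt : Nontrivial ↥X.G1 :=
    ⟨⟨⟨X.nk 8, X.nk_mem 8⟩, 1, fun h => hne (congrArg Subtype.val h)⟩⟩
  refine ⟨Cfsg.Lib.BN.simple_of_irreducible P (fun J hJ hj hrest => ?_) ?_ hperf (hB ▸ X.core_eq_bot), fun hc => ?_⟩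
  · obtain ⟨s, hs⟩ := hj
    obtain ⟨s', hs'⟩ := hrest
    refine ⟨s, hs, s', hs', fun hbm => ?_⟩
    have h1 := hJ hs
    have h2 := hs'.1
    rw [hS] at h1 h2
    obtain ⟨a, ha, ea⟩ := h1
    obtain ⟨a', ha', ea'⟩ := h2
    have hne' : a ≠ a' := fun h => hs'.2 (by
      rwa [show s' = s from Subtype.ext (by rw [ea', ea, h])])
    rw [hB, Subgroup.mem_subgroupOf] at hbm
    simp only [Subgroup.mem_inf, Subgroup.coe_mul, Subgroup.coe_inv, ea, ea'] at hbm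
    have hd : X.nk a * X.nk a' * (X.nk a)⁻¹ * (X.nk a')⁻¹ ∈ chevF4.diagonalSubgroup K := by
      rw [← SF.B_inf_N]
      exact Subgroup.mem_inf.2 ⟨hbm.1, mul_mem (mul_mem (mul_mem (X.nk_mono a) (X.nk_mono a'))
        (inv_mem (X.nk_mono a))) (inv_mem (X.nk_mono a'))⟩
    have h3 := SF.act_mul (SF.act_diag hd) (SF.act_mul (X.nk_act a') (X.nk_act a))
    rw [show X.nk a * X.nk a' * (X.nk a)⁻¹ * (X.nk a')⁻¹ * (X.nk a' * X.nk a) = X.nk a * X.nk a' by group,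
      one_mul] at h3
    have h4 := SF.act_unique h3 (SF.act_mul (X.nk_act a) (X.nk_act a'))
    have hlt : ∀ a ∈ [8, 9], a < 16 := by decide
    rw [wk_mul (hlt a ha) (hlt a' ha'), wk_mul (hlt a' ha') (hlt a ha)] at h4
    have h5 := wk_inj (mulI_lt _ (hlt a' ha') _ (hlt a ha)) (mulI_lt _ (hlt a ha) _ (hlt a' ha')) h4
    have hdec : ∀ a ∈ [8, 9], ∀ a' ∈ [8, 9], mulI a' a = mulI a a' → a = a' := by decide
    exact hne' (hdec a ha a' ha' h5)
  · rw [hB]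
    have := SF.isSolvable_borel (F := K)
    exact Group.isSolvable_of_isSolvable_injective
      (f := (Subgroup.inclusion (inf_le_left : chevF4.borelSubgroup K ⊓ X.G1 ≤ chevF4.borelSubgroup K)).comp
        (Subgroup.subgroupOfEquivOfLe (inf_le_right : chevF4.borelSubgroup K ⊓ X.G1 ≤ X.G1)).toMonoidHom)
      (fun x y h => (Subgroup.subgroupOfEquivOfLe _).injective (Subgroup.inclusion_injective (inf_le_left : chevF4.borelSubgroup K ⊓ X.G1 ≤ chevF4.borelSubgroup K) h))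
  · have h : commutator ↥X.G1 = ⊥ := by
      rw [commutator_def, Subgroup.commutator_eq_bot_iff_le_centralizer]
      intro g _
      rw [Subgroup.mem_centralizer_iff]
      exact fun h _ => hc.is_comm.comm h g
    exact bot_ne_top (h.symm.trans hperf)

end RF

end Cfsg.Lib.Chev.ReeF
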