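import Cfsg.Agent.Chev.Ree.F4.InvCases
import Cfsg.Agent.Chev.Ree.F4.Simple
import Cfsg.Agent.Known.TitsInvolutions

/-! Representatives of the two classes of involutions of a group of type `²F₄`. -/

set_option autoImplicit false
set_option linter.dupNamespace false
set_option linter.unusedSectionVars false
set_option maxRecDepth 20000

open Cfsg.Lie
open Cfsg.Lib.TitsInvol (wG wG_append wG_eq)

namespace Cfsg.Lib.Chev.ReeF

theorem move_single : ∀ i ∈ [1, 3, 6, 7, 8, 9, 10, 11], ∃ k < 16, ∃ j ∈ [9, 11],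
    pr k (PP i).1 = (PP j).1 ∧ pr k (PP i).2 = (PP j).2 ∧ (PP i).1 < 48 ∧ (PP i).2 < 48 := by decide +kernel

theorem move_pairs : (pr 8 (PP 3).1 = (PP 7).1 ∧ pr 8 (PP 3).2 = (PP 7).2) ∧
    (pr 8 (PP 11).1 = (PP 10).1 ∧ pr 8 (PP 11).2 = (PP 10).2) ∧
    (pr 9 (PP 7).1 = (PP 10).1 ∧ pr 9 (PP 7).2 = (PP 10).2) ∧
    (pr 9 (PP 8).1 = (PP 9).1 ∧ pr 9 (PP 8).2 = (PP 9).2) := by decide +kernel

theorem word_one_nine : ∀ n < 52, Word.runB ([33, 24, 39, 45] ++ [35, 31, 40, 37, 32, 29, 41, 44]) (2 ^ n) =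
    Word.runB ([35, 31, 40, 37, 32, 29, 41, 44] ++ [33, 24]) (2 ^ n) := by decide +kernel

theorem word_seven_ten : ∀ n < 52, Word.runB ([36, 42, 40, 46] ++ [27, 25, 28, 35, 31, 40]) (2 ^ n) =
    Word.runB ([27, 25, 28, 35, 31, 40] ++ [36, 42, 38, 43]) (2 ^ n) := by decide +kernel

theorem word_nine_ten : ∀ n < 52, Word.runB ([39, 45, 40, 46] ++ [27, 25, 28]) (2 ^ n) =
    Word.runB ([27, 25, 28] ++ [39, 45]) (2 ^ n) := by decide +kernel

theorem word_fixed : ∀ w ∈ [[35, 31, 40, 37, 32, 29, 41, 44], [27, 25, 28, 35, 31, 40], [27, 25, 28]],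
    (∀ r ∈ w, r < 48 ∧ 24 ≤ r ∧ ρ r < 48) ∧
      ∀ n < 52, Word.runB (w.map ρ) (2 ^ n) = Word.runB w (2 ^ n) := by decide +kernel

namespace RF

variable {K : Type*} [Field K] [Fintype K] [CharP K 2] (X : RF K)
include X

/-- The extension of scalars from the prime field. -/
noncomputable def phi (_X : RF K) : GL chevF4.Idx (ZMod 2) →* GL chevF4.Idx K :=
  Units.map ((ZMod.castHom (dvd_refl 2) K).mapMatrix).toMonoidHom

/-- A product of root elements with parameter one. -/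
noncomputable def wK (_X : RF K) (w : List ℕ) : GL chevF4.Idx K := (w.map fun r => SF.ok.xG r (1 : K)).prod

theorem phi_wG : ∀ w : List ℕ, X.phi (wG w) = X.wK w
  | [] => by simp [wG, wK]
  | r :: w => by
    have h := phi_wG w
    have e : X.phi (SF.ok.xG r (1 : ZMod 2)) = SF.ok.xG r (1 : K) := Units.ext (by
      show (((SF.ok.xG r (1 : ZMod 2) : GL chevF4.Idx (ZMod 2))) : Matrix chevF4.Idx chevF4.Idx (ZMod 2)).map (ZMod.castHom (dvd_refl 2) K) = _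
      rw [SF.ok.val_xG, SF.ok.val_xG, Ok.map_x, map_one])
    simp only [wG, wK, List.map_cons, List.prod_cons, map_mul] at h ⊢
    rw [h, e]

theorem wK_append (v w : List ℕ) : X.wK (v ++ w) = X.wK v * X.wK w := by simp [wK]

theorem wK_eq {v w : List ℕ} (hv : ∀ r ∈ v, r < chevF4.nroots) (hw : ∀ r ∈ w, r < chevF4.nroots)
    (h : ∀ n < 52, Word.runB v (2 ^ n) = Word.runB w (2 ^ n)) : X.wK v = X.wK w := by
  rw [← X.phi_wG, ← X.phi_wG, wG_eq hv hw h]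

theorem wK_mem {w : List ℕ} (hlt : ∀ r ∈ w, r < 48 ∧ 24 ≤ r ∧ ρ r < 48)
    (h : ∀ n < 52, Word.runB (w.map ρ) (2 ^ n) = Word.runB w (2 ^ n)) : X.wK w ∈ X.G1 := by
  have hU : X.wK w ∈ chevF4.posUnipotent K := list_prod_mem fun g hg => by
    obtain ⟨r, hr, rfl⟩ := List.mem_map.1 hg
    exact SF.xG_mem_U (hlt r hr).2.1 (hlt r hr).1 _
  refine X.mem_G1 ⟨U_le_group hU, ?_⟩
  have hs : ∀ w : List ℕ, (∀ r ∈ w, r < 48) → X.sg (X.wK w) = X.wK (w.map ρ) := by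
    intro w
    induction w with
    | nil => intro _; simp [wK, X.sg_one]
    | cons r w ih =>
      intro hw
      have h1 : X.wK (r :: w) = SF.ok.xG r (1 : K) * X.wK w := by simp [wK]
      have hg : ∀ w : List ℕ, X.wK w ∈ chevF4.group K := fun w => list_prod_mem fun g hg => by
        obtain ⟨r, -, rfl⟩ := List.mem_map.1 hg
        exact SF.ok.xG_mem_group _ _
      rw [h1, X.sg_mul (SF.ok.xG_mem_group _ _) (hg w), X.sg_xG (hw r List.mem_cons_self),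
        ih fun s hs => hw s (List.mem_cons_of_mem _ hs), one_pow]
      simp [wK]
  rw [hs w fun r hr => (hlt r hr).1]
  refine X.wK_eq (fun r hr => ?_) (fun r hr => (hlt r hr).1) h
  obtain ⟨s, hs', rfl⟩ := List.mem_map.1 hr
  exact (hlt s hs').2.2

theorem yP_one (i : ℕ) : X.yP (PP i) (1 : K) = X.wK [(PP i).1, (PP i).2] := by simp [yP, wK]

theorem nk_move {k i j : ℕ} (hk : k < 16) (h1 : pr k (PP i).1 = (PP j).1) (h2 : pr k (PP i).2 = (PP j).2)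
    (l1 : (PP i).1 < 48) (l2 : (PP i).2 < 48) (a : K) :
    X.nk k * X.yP (PP i) a * (X.nk k)⁻¹ = X.yP (PP j) a := by
  have e : ∀ r < 48, ∀ t : K, X.nk k * SF.ok.xG r t * (X.nk k)⁻¹ = SF.ok.xG (pr k r) t := fun r hr t => by
    rw [nk, X.nL_conj_one _ hr, table_ok k hk r hr]
  rw [yP, yP, ← h1, ← h2, ← e _ l1, ← e _ l2]
  group

theorem Cj.nk {u : GL chevF4.Idx K} (k : ℕ) : X.Cj u (X.nk k * u * (X.nk k)⁻¹) :=
  ⟨(X.nk k)⁻¹, inv_mem (X.nk_mem k), by rw [inv_inv]⟩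

theorem Cj.word {u w : List ℕ} {s : List ℕ} (hlt : ∀ r ∈ s, r < 48 ∧ 24 ≤ r ∧ ρ r < 48)
    (hfix : ∀ n < 52, Word.runB (s.map ρ) (2 ^ n) = Word.runB s (2 ^ n)) (hu : ∀ r ∈ u, r < 48) (hw : ∀ r ∈ w, r < 48)
    (h : ∀ n < 52, Word.runB (u ++ s) (2 ^ n) = Word.runB (s ++ w) (2 ^ n)) : X.Cj (X.wK u) (X.wK w) := by
  refine ⟨X.wK s, X.wK_mem hlt hfix, ?_⟩
  have := X.wK_eq (v := u ++ s) (w := s ++ w)
    (fun r hr => (List.mem_append.1 hr).elim (hu r) fun hr => (hlt r hr).1)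
    (fun r hr => (List.mem_append.1 hr).elim (fun hr => (hlt r hr).1) (hw r)) h
  rw [X.wK_append, X.wK_append] at this
  rw [mul_assoc, this, inv_mul_cancel_left]

theorem hh_yP {i : ℕ} (hG : gd (dl [i]) = true) (p : Kˣ × Kˣ) (a : K) :
    X.hh p * X.yP (PP i) a * (X.hh p)⁻¹ = X.yP (PP i) ((X.chr p (PP i).2 : K) * a) := by
  have hok := (X.gd_good hG).ok
  have hy : X.yP (PP i) a ∈ UL K (dl [i]) ⊓ X.Gs := by
    refine ⟨mul_mem (xG_mem_UL (by simp [dl, rts]) _) (xG_mem_UL (by simp [dl, rts]) _), X.yP_mem_Gs ?_ ?_ a⟩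
    · simp only [dl, List.map_cons, List.map_nil, okL, Bool.and_eq_true] at hok
      exact hok.1.1.1
    · simp only [dl, List.map_cons, List.map_nil, okL, Bool.and_eq_true] at hok
      simpa [rts] using hok.1.1.2
  have hm : Mem (PP i) [] (X.yP (PP i) a) (a ^ X.e) a := ⟨1, one_mem _, (mul_one _).symm⟩
  have h1 := X.hh_conj_Mem (L := []) hok p hm
  have h2 : X.hh p * X.yP (PP i) a * (X.hh p)⁻¹ ∈ UL K (dl [i]) ⊓ X.Gs :=
    ⟨h1.mem_UL, X.Gs.mul_mem (X.Gs.mul_mem (X.G1_le (X.hh_mem p)) hy.2) (X.Gs.inv_mem (X.G1_le (X.hh_mem p)))⟩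
  obtain ⟨t, ht⟩ := X.eq_yP hG h2
  rw [ht] at h1 ⊢
  rw [← (h1.unique (X.gd_good hG) (show Mem (PP i) [] (X.yP (PP i) t) (t ^ X.e) t from ⟨1, one_mem _, (mul_one _).symm⟩)).2]

theorem chr_vals (p : Kˣ × Kˣ) : X.chr p (PP 1).2 = p.1 ^ 2 / p.2 ∧ X.chr p (PP 7).2 = p.1 ^ (2 * X.e) * p.1 / p.2 ∧
    X.chr p (PP 9).2 = p.2 ^ (2 * X.e) / p.2 ∧ X.chr p (PP 10).2 = p.2 / p.1 ∧ X.chr p (PP 11).2 = p.1 := by
  have h : ∀ i : Fin 4, chevF4.cartan (i : ℕ) (PP 1).2 = ([0, 0, -1, 2] : List ℤ).getD i 0 ∧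
      chevF4.cartan (i : ℕ) (PP 7).2 = ([2, 0, -1, 1] : List ℤ).getD i 0 ∧
      chevF4.cartan (i : ℕ) (PP 9).2 = ([0, 2, -1, 0] : List ℤ).getD i 0 ∧
      chevF4.cartan (i : ℕ) (PP 10).2 = ([0, 0, 1, -1] : List ℤ).getD i 0 ∧
      chevF4.cartan (i : ℕ) (PP 11).2 = ([0, 0, 0, 1] : List ℤ).getD i 0 := by decide +kernel
  have e2 : ∀ y : Kˣ, (y ^ X.e) ^ (2 : ℤ) = y ^ (2 * X.e) := fun y => by
    rw [show (2 : ℤ) = ((2 : ℕ) : ℤ) by norm_num, zpow_natCast, ← pow_mul, mul_comm]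
  simp only [RF.chr, Fin.prod_univ_four]
  simp only [(h _).1, (h _).2.1, (h _).2.2.1, (h _).2.2.2.1, (h _).2.2.2.2]
  simp [e2, div_eq_mul_inv]
  refine ⟨?_, ?_⟩
  · rw [mul_comm]
  · rw [mul_right_comm]

theorem units_e (x : Kˣ) : (x ^ X.e) ^ (2 * X.e) = x ∧ (x ^ (2 * X.e)) ^ X.e = x :=
  ⟨Units.ext (by push_cast; exact X.pow_e_e2 _), Units.ext (by push_cast; exact X.pow_e2_e _)⟩

theorem exists_two_e (y : Kˣ) : ∃ x : Kˣ, x ^ (2 * X.e) / x = y := by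
  let f : Kˣ →* Kˣ := (powMonoidHom (2 * X.e)) / MonoidHom.id Kˣ
  have hinj : Function.Injective f := (injective_iff_map_eq_one f).2 fun x hx => by
    have h : x ^ (2 * X.e) = x := by simpa [f, div_eq_one] using hx
    have h1 : x ^ X.e = x := by
      have := (X.units_e x).2
      rwa [h] at this
    have h2 : x ^ 2 = x := by
      rw [mul_comm 2, pow_mul, h1] at h
      exact h
    rwa [sq, mul_eq_left] at h2
  obtain ⟨x, hx⟩ := (Finite.injective_iff_surjective.1 hinj) y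
  exact ⟨x, by simpa [f] using hx⟩

theorem Cj.scale {i : ℕ} (hG : gd (dl [i]) = true) {p : Kˣ × Kˣ} {a : K}
    (h : (X.chr p (PP i).2 : K) * a = 1) : X.Cj (X.yP (PP i) a) (X.yP (PP i) 1) :=
  ⟨(X.hh p)⁻¹, inv_mem (X.hh_mem p), by rw [inv_inv, X.hh_yP hG, h]⟩

theorem Cj.scale_two {i j : ℕ} (hG : gd (dl [i]) = true) (hH : gd (dl [j]) = true) {p : Kˣ × Kˣ} {a c : K}
    (h : (X.chr p (PP i).2 : K) * a = 1) (h' : (X.chr p (PP j).2 : K) * c = 1) :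
    X.Cj (X.yP (PP i) a * X.yP (PP j) c) (X.wK [(PP i).1, (PP i).2, (PP j).1, (PP j).2]) := by
  refine ⟨(X.hh p)⁻¹, inv_mem (X.hh_mem p), ?_⟩
  rw [inv_inv, show X.hh p * (X.yP (PP i) a * X.yP (PP j) c) * (X.hh p)⁻¹ =
    X.hh p * X.yP (PP i) a * (X.hh p)⁻¹ * (X.hh p * X.yP (PP j) c * (X.hh p)⁻¹) by group,
    X.hh_yP hG, X.hh_yP hH, h, h', X.yP_one, X.yP_one, ← X.wK_append]
  rfl

theorem to_nine {a : K} (ha : a ≠ 0) : X.Cj (X.yP (PP 9) a) (X.yP (PP 9) 1) := by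
  obtain ⟨x, hx⟩ := X.exists_two_e (Units.mk0 a ha)⁻¹
  refine Cj.scale X (p := (1, x)) (by decide +kernel) ?_
  rw [(X.chr_vals _).2.2.1, hx]
  simp [ha]

theorem to_eleven {a : K} (ha : a ≠ 0) : X.Cj (X.yP (PP 11) a) (X.yP (PP 11) 1) := by
  refine Cj.scale X (p := ((Units.mk0 a ha)⁻¹, 1)) (by decide +kernel) ?_
  rw [(X.chr_vals _).2.2.2.2]
  simp [ha]

theorem single_red {i : ℕ} (hi : i ∈ [1, 3, 6, 7, 8, 9, 10, 11]) {a : K} (ha : a ≠ 0) :
    X.Cj (X.yP (PP i) a) (X.yP (PP 9) 1) ∨ X.Cj (X.yP (PP i) a) (X.yP (PP 11) 1) := by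
  obtain ⟨k, hk, j, hj, h1, h2, l1, l2⟩ := move_single i hi
  have h := Cj.nk X (u := X.yP (PP i) a) k
  rw [X.nk_move hk h1 h2 l1 l2] at h
  simp only [List.mem_cons, List.not_mem_nil, or_false] at hj
  rcases hj with rfl | rfl
  exacts [Or.inl (Cj.trans X h (X.to_nine ha)), Or.inr (Cj.trans X h (X.to_eleven ha))]

theorem seven_ten {a c : K} (ha : a ≠ 0) (hc : c ≠ 0) :
    X.Cj (X.yP (PP 7) a * X.yP (PP 10) c) (X.yP (PP 9) 1) := by
  set A := Units.mk0 a ha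
  set C := Units.mk0 c hc
  set x := ((A * C)⁻¹) ^ X.e
  have hx : x ^ (2 * X.e) = (A * C)⁻¹ := (X.units_e _).1
  have h1 : X.Cj (X.yP (PP 7) a * X.yP (PP 10) c) (X.wK [36, 42, 40, 46]) := by
    refine Cj.scale_two X (i := 7) (j := 10) (p := (x, x * C⁻¹)) (by decide +kernel) (by decide +kernel) ?_ ?_
    · rw [(X.chr_vals _).2.1, hx]
      simp [A, C]
      field_simp
    · rw [(X.chr_vals _).2.2.2.1]
      simp [C, hc]
  obtain ⟨hl, hf⟩ := word_fixed [27, 25, 28, 35, 31, 40] (by simp)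
  have h2 := Cj.word X hl hf (u := [36, 42, 40, 46]) (w := [36, 42, 38, 43]) (by decide) (by decide) word_seven_ten
  have h3 : X.Cj (X.wK [36, 42, 38, 43]) (X.wK [39, 45, 40, 46]) := by
    have h := Cj.nk X (u := X.wK [36, 42, 38, 43]) 9
    obtain ⟨-, -, ⟨a1, a2⟩, ⟨b1, b2⟩⟩ := move_pairs
    have e : X.wK [36, 42, 38, 43] = X.yP (PP 7) 1 * X.yP (PP 8) 1 := by
      rw [X.yP_one, X.yP_one, ← X.wK_append]; rfl
    rw [e, show X.nk 9 * (X.yP (PP 7) 1 * X.yP (PP 8) 1) * (X.nk 9)⁻¹ =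
      X.nk 9 * X.yP (PP 7) 1 * (X.nk 9)⁻¹ * (X.nk 9 * X.yP (PP 8) 1 * (X.nk 9)⁻¹) by group,
      X.nk_move (by norm_num) a1 a2 (by decide) (by decide), X.nk_move (by norm_num) b1 b2 (by decide) (by decide)] at h
    have hcm : X.yP (PP 10) (1 : K) * X.yP (PP 9) 1 = X.yP (PP 9) 1 * X.yP (PP 10) 1 :=
      X.commute_UL (A := dl [10]) (B := dl [9]) (by decide +kernel)
        (mul_mem (xG_mem_UL (by simp [dl, rts]) _) (xG_mem_UL (by simp [dl, rts]) _))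
        (mul_mem (xG_mem_UL (by simp [dl, rts]) _) (xG_mem_UL (by simp [dl, rts]) _))
    rw [hcm, X.yP_one 9, X.yP_one 10, ← X.wK_append] at h
    rw [e]
    exact h
  obtain ⟨hl', hf'⟩ := word_fixed [27, 25, 28] (by simp)
  have h4 := Cj.word X hl' hf' (u := [39, 45, 40, 46]) (w := [39, 45]) (by decide) (by decide) word_nine_ten
  have h5 := Cj.trans X h1 (Cj.trans X h2 (Cj.trans X h3 h4))
  rw [X.yP_one]
  exact h5

theorem one_nine {a c : K} (ha : a ≠ 0) (hc : c ≠ 0) :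
    X.Cj (X.yP (PP 1) a * X.yP (PP 9) c) (X.yP (PP 9) 1) ∨ X.Cj (X.yP (PP 1) a * X.yP (PP 9) c) (X.yP (PP 11) 1) := by
  set A := Units.mk0 a ha
  obtain ⟨y, hy⟩ := X.exists_two_e (Units.mk0 c hc)⁻¹
  set x := (y * A⁻¹) ^ (X.e * X.e)
  have hx : x ^ 2 = y * A⁻¹ := by
    rw [← pow_mul, show X.e * X.e * 2 = 2 * X.e * X.e by ring, X.units_pow_q]
  have h1 : X.Cj (X.yP (PP 1) a * X.yP (PP 9) c) (X.wK [33, 24, 39, 45]) := by
    refine Cj.scale_two X (i := 1) (j := 9) (p := (x, y)) (by decide +kernel) (by decide +kernel) ?_ ?_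
    · rw [(X.chr_vals _).1, hx]
      simp [A, ha]
    · rw [(X.chr_vals _).2.2.1, hy]
      simp [hc]
  obtain ⟨hl, hf⟩ := word_fixed [35, 31, 40, 37, 32, 29, 41, 44] (by simp)
  have h2 := Cj.trans X h1 (Cj.word X hl hf (u := [33, 24, 39, 45]) (w := [33, 24]) (by decide) (by decide) word_one_nine)
  have h3 : X.yP (PP 1) (1 : K) = X.wK [33, 24] := X.yP_one 1
  rw [← h3] at h2
  rcases X.single_red (i := 1) (by simp) (one_ne_zero (α := K)) with h | h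
  exacts [Or.inl (Cj.trans X h2 h), Or.inr (Cj.trans X h2 h)]

/-- The two representatives. -/
theorem red_cases {u : GL chevF4.Idx K} (h : X.Red u) :
    X.Cj u (X.yP (PP 9) 1) ∨ X.Cj u (X.yP (PP 11) 1) := by
  obtain ⟨a, ha, ⟨i, hi, h⟩ | ⟨c, hc, p, hp, h⟩⟩ := h
  · exact (X.single_red hi ha).imp (Cj.trans X h) (Cj.trans X h)
  simp only [List.mem_cons, List.not_mem_nil, or_false] at hp
  rcases hp with rfl | rfl | rfl
  · exact (X.one_nine ha hc).imp (Cj.trans X h) (Cj.trans X h)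
  · have h' := Cj.nk X (u := X.yP (PP 3) a * X.yP (PP 11) c) 8
    obtain ⟨⟨a1, a2⟩, ⟨b1, b2⟩, -⟩ := move_pairs
    rw [show X.nk 8 * (X.yP (PP 3) a * X.yP (PP 11) c) * (X.nk 8)⁻¹ =
      X.nk 8 * X.yP (PP 3) a * (X.nk 8)⁻¹ * (X.nk 8 * X.yP (PP 11) c * (X.nk 8)⁻¹) by group,
      X.nk_move (by norm_num) a1 a2 (by decide) (by decide), X.nk_move (by norm_num) b1 b2 (by decide) (by decide)] at h'
    exact Or.inl (Cj.trans X h (Cj.trans X h' (X.seven_ten ha hc)))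
  · exact Or.inl (Cj.trans X h (X.seven_ten ha hc))

theorem not_dvd_M (hq : Fintype.card K = 2 ^ (2 * X.m + 1)) :
    ¬ 2 ∣ (Fintype.card K - 1) * (Fintype.card K ^ 3 + 1) * (Fintype.card K ^ 4 - 1) * (Fintype.card K ^ 6 + 1) := by
  have h2 : 2 ∣ Fintype.card K := hq ▸ dvd_pow_self 2 (by omega)
  have h1 : 1 ≤ Fintype.card K := Fintype.card_pos
  have hp : ∀ n, 0 < n → 2 ∣ Fintype.card K ^ n := fun n hn => h2.trans (dvd_pow_self _ hn.ne')
  have := hp 3 (by norm_num)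
  have := hp 4 (by norm_num)
  have := hp 6 (by norm_num)
  have : 1 ≤ Fintype.card K ^ 4 := Nat.one_le_pow _ _ h1
  rw [Nat.prime_two.dvd_mul, Nat.prime_two.dvd_mul, Nat.prime_two.dvd_mul]
  omega

/-- Every involution is conjugate to one of the two representatives. -/
theorem invol_cases {g : GL chevF4.Idx K} (hg : g ∈ X.G1) (h2 : orderOf g = 2) :
    X.Cj g (X.yP (PP 9) 1) ∨ X.Cj g (X.yP (PP 11) 1) := by
  classical
  haveI : Fact (Nat.Prime 2) := ⟨Nat.prime_two⟩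
  have hU : Nat.card ↥((chevF4.posUnipotent K ⊓ X.G1).subgroupOf X.G1) =
      2 ^ (Nat.card ↥X.G1).factorization 2 := by
    rw [Nat.card_congr (Subgroup.subgroupOfEquivOfLe inf_le_right).toEquiv, X.card_U1, X.order]
    rw [mul_assoc (Fintype.card K ^ 12), mul_assoc (Fintype.card K ^ 12), mul_assoc (Fintype.card K ^ 12)]
    conv_rhs => rw [X.hK, ← pow_mul]
    have hM := X.not_dvd_M X.hK
    rw [X.hK] at hM
    rw [Nat.factorization_mul (by positivity) (fun h => hM (by rw [h]; exact dvd_zero 2)), Finsupp.add_apply,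
      Nat.factorization_eq_zero_of_not_dvd hM, add_zero, Nat.prime_two.factorization_pow, Finsupp.single_eq_same,
      X.hK, ← pow_mul]
  let PU : Sylow 2 ↥X.G1 := Sylow.ofCard _ hU
  set g' : ↥X.G1 := ⟨g, hg⟩
  have hg' : orderOf g' = 2 := (Subgroup.orderOf_coe g').symm.trans h2
  obtain ⟨Q, hQ⟩ := (show IsPGroup 2 (Subgroup.zpowers g') from
    IsPGroup.of_card (n := 1) (by rw [Nat.card_zpowers, hg', pow_one])).exists_le_sylow
  obtain ⟨c, rfl⟩ := MulAction.exists_smul_eq ↥X.G1 PU Q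
  obtain ⟨u, huP, hue⟩ := hQ (Subgroup.mem_zpowers g')
  have huU : (u : GL chevF4.Idx K) ∈ chevF4.posUnipotent K ⊓ X.G1 := Subgroup.mem_subgroupOf.1 huP
  rw [X.U1_eq] at huU
  have e : (c : GL chevF4.Idx K) * u * (c : GL chevF4.Idx K)⁻¹ = g := congrArg Subtype.val hue
  have hc : X.Cj g u := ⟨c, c.2, by rw [← e]; group⟩
  have hg2 : g * g = 1 := by have := pow_orderOf_eq_one g; rwa [h2, sq] at this
  have hu1 : (u : GL chevF4.Idx K) ≠ 1 := fun h => by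
    rw [h, mul_one, mul_inv_cancel] at e
    rw [← e, orderOf_one] at h2
    omega
  exact (X.red_cases (X.red_invol huU (hc.sq X hg2) hu1)).imp (Cj.trans X hc) (Cj.trans X hc)

end RF

end Cfsg.Lib.Chev.ReeF
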