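import Cfsg.Agent.Chev.Ree.F4.Setup

/-! Ordered products over pairs of roots interchanged by the automorphism. -/

set_option autoImplicit false
set_option linter.dupNamespace false

open Cfsg.Lie

namespace Cfsg.Lib.Chev.ReeF

open Isog

/-- The positive roots, in pairs, in a compatible order. -/
def OP : List (ℕ × ℕ) :=
  [(27, 25), (33, 24), (34, 26), (28, 30), (35, 31), (29, 41), (37, 32), (36, 42), (38, 43), (39, 45), (40, 46),
    (44, 47)]

/-- The roots of a list of pairs. -/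
def rts : List (ℕ × ℕ) → List ℕ
  | [] => []
  | c :: L => c.1 :: c.2 :: rts L

/-- The commutators of `r` and `s` lie in the given roots. -/
def okP (r s : ℕ) (L : List ℕ) : Bool :=
  (s != r) && (s != chevF4.neg r) && (chevF4.commTerms r s).all fun q => L.contains q.1

/-- A pair interchanged by the automorphism. -/
def okPr (c : ℕ × ℕ) : Bool :=
  decide (c.1 < 48) && decide (c.2 < 48) && (ρ c.1 == c.2) && (ρ c.2 == c.1) && (isoF4.lm c.1 == 2) && (isoF4.lm c.2 == 1)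

/-- Later pairs absorb all commutators. -/
def okL : List (ℕ × ℕ) → Bool
  | [] => true
  | c :: L => okPr c && okP c.1 c.2 (rts L) && ((rts L).all fun s => okP c.1 s (rts L) && okP c.2 s (rts L)) && okL L

theorem okPr_spec {c : ℕ × ℕ} (h : okPr c = true) : c.1 < chevF4.nroots ∧ c.2 < chevF4.nroots ∧ ρ c.1 = c.2 ∧
    ρ c.2 = c.1 ∧ isoF4.lm c.1 = 2 ∧ isoF4.lm c.2 = 1 := by
  simp only [okPr, Bool.and_eq_true, decide_eq_true_eq, beq_iff_eq] at h
  exact ⟨h.1.1.1.1.1, h.1.1.1.1.2, h.1.1.1.2, h.1.1.2, h.1.2, h.2⟩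

theorem rts_lt : ∀ {L : List (ℕ × ℕ)}, okL L = true → ∀ r ∈ rts L, r < chevF4.nroots
  | [], _, r, hr => absurd hr List.not_mem_nil
  | c :: L, h, r, hr => by
    simp only [okL, Bool.and_eq_true] at h
    obtain ⟨a, b, -⟩ := okPr_spec h.1.1.1
    simp only [rts, List.mem_cons] at hr
    rcases hr with rfl | rfl | hr
    exacts [a, b, rts_lt h.2 r hr]

variable {K : Type*} [Field K]

/-- The subgroup generated by the root elements at the roots of the pairs. -/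
noncomputable def UL (K : Type*) [Field K] (L : List (ℕ × ℕ)) : Subgroup (GL chevF4.Idx K) :=
  Subgroup.closure {g | ∃ r ∈ rts L, ∃ t : K, g = SF.ok.xG r t}

theorem xG_mem_UL {L : List (ℕ × ℕ)} {r : ℕ} (hr : r ∈ rts L) (t : K) : SF.ok.xG r t ∈ UL K L :=
  Subgroup.subset_closure ⟨r, hr, t, rfl⟩

theorem UL_mono {L L' : List (ℕ × ℕ)} (h : ∀ r ∈ rts L, r ∈ rts L') : UL K L ≤ UL K L' :=
  Subgroup.closure_mono fun _ ⟨r, hr, t, e⟩ => ⟨r, h r hr, t, e⟩

theorem UL_nil : UL K [] = ⊥ := by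
  rw [UL, Subgroup.closure_eq_bot_iff]
  rintro g ⟨r, hr, -⟩
  exact absurd hr List.not_mem_nil

theorem UL_tail (c : ℕ × ℕ) (L : List (ℕ × ℕ)) : UL K L ≤ UL K (c :: L) :=
  UL_mono fun r hr => by simp [rts, hr]

theorem comm_word_mem {r s : ℕ} {L : List (ℕ × ℕ)} (hr : r < chevF4.nroots) (hs : s < chevF4.nroots)
    (h : okP r s (rts L) = true) (t u : K) :
    ∃ w ∈ UL K L, SF.ok.xG s u * SF.ok.xG r t = SF.ok.xG r t * SF.ok.xG s u * w := by
  simp only [okP, Bool.and_eq_true, bne_iff_ne, List.all_eq_true, List.contains_eq_mem, decide_eq_true_eq] at h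
  refine ⟨_, ?_, SF.ok.commRel SF.chain SF.base hr hs h.1.1 h.1.2 t u⟩
  rw [ChevalleyDatum.commWord, Ok.wG]
  refine list_prod_mem fun g hg => ?_
  simp only [List.map_map, List.mem_map] at hg
  obtain ⟨q, hq, rfl⟩ := hg
  exact xG_mem_UL (h.2 q hq) _

theorem xG_inv (r : ℕ) (t : K) : (SF.ok.xG r t)⁻¹ = SF.ok.xG r (-t) := by
  rw [inv_eq_iff_mul_eq_one, SF.ok.xG_mul, add_neg_cancel, SF.xG_zero]

/-- Root elements of the head normalise the tail. -/
theorem conj_head {c : ℕ × ℕ} {L : List (ℕ × ℕ)} (h : okL (c :: L) = true) {r : ℕ} (hr : r = c.1 ∨ r = c.2) (t : K)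
    {g : GL chevF4.Idx K} (hg : g ∈ UL K L) : (SF.ok.xG r t)⁻¹ * g * SF.ok.xG r t ∈ UL K L := by
  simp only [okL, Bool.and_eq_true, List.all_eq_true] at h
  obtain ⟨a, b, -⟩ := okPr_spec h.1.1.1
  have hle : UL K L ≤ (UL K L).comap (MulAut.conj (SF.ok.xG r t)⁻¹).toMonoidHom := by
    refine (Subgroup.closure_le _).2 ?_
    rintro g ⟨s, hs, u, rfl⟩
    have hok : r < chevF4.nroots ∧ okP r s (rts L) = true := by
      rcases hr with rfl | rfl
      exacts [⟨a, (h.1.2 s hs).1⟩, ⟨b, (h.1.2 s hs).2⟩]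
    obtain ⟨w, hw, e⟩ := comm_word_mem hok.1 (rts_lt h.2 s hs) hok.2 t u
    show (SF.ok.xG r t)⁻¹ * SF.ok.xG s u * ((SF.ok.xG r t)⁻¹)⁻¹ ∈ UL K L
    rw [inv_inv, mul_assoc, e, mul_assoc, inv_mul_cancel_left]
    exact mul_mem (xG_mem_UL hs u) hw
  have := hle hg
  rw [Subgroup.mem_comap] at this
  simpa using this

/-- The leading coefficients of an element. -/
def Mem (c : ℕ × ℕ) (L : List (ℕ × ℕ)) (g : GL chevF4.Idx K) (s t : K) : Prop :=
  ∃ v ∈ UL K L, g = SF.ok.xG c.1 s * SF.ok.xG c.2 t * v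

variable {c : ℕ × ℕ} {L : List (ℕ × ℕ)}

theorem Mem.of_tail {g : GL chevF4.Idx K} (hg : g ∈ UL K L) : Mem c L g 0 0 :=
  ⟨g, hg, by rw [SF.xG_zero, SF.xG_zero, one_mul, one_mul]⟩

theorem mem_fst (s : K) : Mem c L (SF.ok.xG c.1 s) s 0 :=
  ⟨1, one_mem _, by rw [SF.xG_zero, mul_one, mul_one]⟩

theorem mem_snd (t : K) : Mem c L (SF.ok.xG c.2 t) 0 t :=
  ⟨1, one_mem _, by rw [SF.xG_zero, one_mul, mul_one]⟩

theorem Mem.mul (h : okL (c :: L) = true) {g g' : GL chevF4.Idx K} {s t s' t' : K} (hg : Mem c L g s t)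
    (hg' : Mem c L g' s' t') : Mem c L (g * g') (s + s') (t + t') := by
  obtain ⟨v, hv, rfl⟩ := hg
  obtain ⟨v', hv', rfl⟩ := hg'
  have h' := h
  simp only [okL, Bool.and_eq_true] at h'
  obtain ⟨a, b, -⟩ := okPr_spec h'.1.1.1
  obtain ⟨w, hw, e⟩ := comm_word_mem a b h'.1.1.2 s' t
  have h1 := conj_head h (Or.inl rfl) s' hv
  set v1 := (SF.ok.xG c.1 s')⁻¹ * v * SF.ok.xG c.1 s' with hv1
  have h2 := conj_head h (Or.inr rfl) t' (mul_mem hw h1)
  refine ⟨(SF.ok.xG c.2 t')⁻¹ * (w * v1) * SF.ok.xG c.2 t' * v', mul_mem h2 hv', ?_⟩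
  calc SF.ok.xG c.1 s * SF.ok.xG c.2 t * v * (SF.ok.xG c.1 s' * SF.ok.xG c.2 t' * v')
      = SF.ok.xG c.1 s * (SF.ok.xG c.2 t * SF.ok.xG c.1 s') * v1 * SF.ok.xG c.2 t' * v' := by rw [hv1]; group
    _ = SF.ok.xG c.1 s * SF.ok.xG c.1 s' * SF.ok.xG c.2 t * (w * v1) * SF.ok.xG c.2 t' * v' := by
      rw [e]; simp only [mul_assoc]
    _ = SF.ok.xG c.1 (s + s') * (SF.ok.xG c.2 t * SF.ok.xG c.2 t') *
        ((SF.ok.xG c.2 t')⁻¹ * (w * v1) * SF.ok.xG c.2 t' * v') := by rw [← SF.ok.xG_mul]; group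
    _ = _ := by rw [SF.ok.xG_mul]

theorem Mem.inv (h : okL (c :: L) = true) {g : GL chevF4.Idx K} {s t : K} (hg : Mem c L g s t) :
    Mem c L g⁻¹ (-s) (-t) := by
  obtain ⟨v, hv, rfl⟩ := hg
  have := ((Mem.of_tail (c := c) (inv_mem hv)).mul h (mem_snd (-t))).mul h (mem_fst (-s))
  rw [mul_inv_rev, mul_inv_rev, xG_inv, xG_inv]
  simpa [mul_assoc] using this

theorem Mem.conj_tail (h : okL (c :: L) = true) {g v : GL chevF4.Idx K} {s t : K} (hg : Mem c L g s t)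
    (hv : v ∈ UL K L) : g⁻¹ * v * g ∈ UL K L := by
  obtain ⟨w, hw, rfl⟩ := hg
  have h2 := conj_head h (Or.inr rfl) t (conj_head h (Or.inl rfl) s hv)
  have := mul_mem (mul_mem (inv_mem hw) h2) hw
  simpa [mul_assoc] using this

theorem exists_mem (h : okL (c :: L) = true) {g : GL chevF4.Idx K} (hg : g ∈ UL K (c :: L)) :
    ∃ s t, Mem c L g s t := by
  let Z : Subgroup (GL chevF4.Idx K) :=
    { carrier := {g | ∃ s t, Mem c L g s t}
      one_mem' := ⟨0, 0, Mem.of_tail (one_mem _)⟩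
      mul_mem' := fun ⟨_, _, ha⟩ ⟨_, _, hb⟩ => ⟨_, _, ha.mul h hb⟩
      inv_mem' := fun ⟨_, _, ha⟩ => ⟨_, _, ha.inv h⟩ }
  have : UL K (c :: L) ≤ Z := (Subgroup.closure_le _).2 (by
    rintro g ⟨r, hr, t, rfl⟩
    simp only [rts, List.mem_cons] at hr
    rcases hr with rfl | rfl | hr
    exacts [⟨_, _, mem_fst t⟩, ⟨_, _, mem_snd t⟩, ⟨0, 0, Mem.of_tail (xG_mem_UL hr t)⟩])
  exact this hg

theorem Mem.mem_UL {g : GL chevF4.Idx K} {s t : K} (hg : Mem c L g s t) : g ∈ UL K (c :: L) := by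
  obtain ⟨v, hv, rfl⟩ := hg
  exact mul_mem (mul_mem (xG_mem_UL (by simp [rts]) _) (xG_mem_UL (by simp [rts]) _)) (UL_tail c L hv)

theorem Mem.tail {g : GL chevF4.Idx K} (hg : Mem c L g 0 0) : g ∈ UL K L := by
  obtain ⟨v, hv, rfl⟩ := hg
  simpa [SF.xG_zero] using hv

/-- The ordered product. -/
noncomputable def prodP : (L : List (ℕ × ℕ)) → (Fin L.length → K × K) → GL chevF4.Idx K
  | [], _ => 1
  | c :: L, f => SF.ok.xG c.1 (f ⟨0, Nat.succ_pos _⟩).1 * SF.ok.xG c.2 (f ⟨0, Nat.succ_pos _⟩).2 *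
      prodP L fun i => f i.succ

theorem prodP_mem : ∀ (L : List (ℕ × ℕ)) (f : Fin L.length → K × K), prodP L f ∈ UL K L
  | [], _ => one_mem _
  | c :: L, f => mul_mem (mul_mem (xG_mem_UL (by simp [rts]) _) (xG_mem_UL (by simp [rts]) _))
      (UL_tail c L (prodP_mem L _))

theorem exists_prodP : ∀ {L : List (ℕ × ℕ)}, okL L = true → ∀ g ∈ UL K L, ∃ f, g = prodP L f
  | [], _, g, hg => ⟨fun _ => 0, by simpa [UL_nil, prodP] using hg⟩
  | c :: L, h, g, hg => by
    obtain ⟨s, t, v, hv, rfl⟩ := exists_mem h hg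
    have h' : okL L = true := by simp only [okL, Bool.and_eq_true] at h; exact h.2
    obtain ⟨f, rfl⟩ := exists_prodP h' v hv
    refine ⟨Fin.cons (s, t) f, ?_⟩
    simp [prodP]

/-- A list on which ordered products are unique. -/
def Good (K : Type*) [Field K] (L : List (ℕ × ℕ)) : Prop :=
  okL L = true ∧ Function.Injective (prodP (K := K) L)

theorem Good.ok (h : Good K L) : okL L = true := h.1

theorem Good.tail (h : Good K (c :: L)) : Good K L := by
  have h' := h.1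
  simp only [okL, Bool.and_eq_true] at h'
  refine ⟨h'.2, fun f f' e => ?_⟩
  have := h.2 (a₁ := Fin.cons (0, 0) f) (a₂ := Fin.cons (0, 0) f') (by simp [prodP, e])
  funext i
  simpa using congrFun this i.succ

theorem Mem.unique (h : Good K (c :: L)) {g : GL chevF4.Idx K} {s t s' t' : K} (h1 : Mem c L g s t)
    (h2 : Mem c L g s' t') : s = s' ∧ t = t' := by
  obtain ⟨v, hv, rfl⟩ := h1
  obtain ⟨v', hv', e⟩ := h2
  obtain ⟨f, rfl⟩ := exists_prodP h.tail.ok v hv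
  obtain ⟨f', rfl⟩ := exists_prodP h.tail.ok v' hv'
  have := h.2 (a₁ := Fin.cons (s, t) f) (a₂ := Fin.cons (s', t') f') (by simpa [prodP] using e)
  simpa using congrFun this (0 : Fin (L.length + 1))

theorem prodP_sublist : ∀ {L L' : List (ℕ × ℕ)}, L.Sublist L' →
    ∃ ext : (Fin L.length → K × K) → Fin L'.length → K × K, Function.Injective ext ∧
      ∀ f, prodP L' (ext f) = prodP L f := by
  intro L L' h
  induction h with
  | slnil => exact ⟨id, fun _ _ e => e, fun _ => rfl⟩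
  | @cons l₁ l₂ a _ ih =>
    obtain ⟨ext, hi, he⟩ := ih
    refine ⟨fun f => Fin.cons (0, 0) (ext f), fun f f' e => hi ?_, fun f => ?_⟩
    · funext i; simpa using congrFun e i.succ
    · simp [prodP, SF.xG_zero, he]
  | @cons_cons l₁ l₂ a _ ih =>
    obtain ⟨ext, hi, he⟩ := ih
    refine ⟨fun f => Fin.cons (f ⟨0, Nat.succ_pos _⟩) (ext fun i => f i.succ), fun f f' e => ?_, fun f => ?_⟩
    · funext i
      refine Fin.cases ?_ (fun j => ?_) i
      · simpa using congrFun e 0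
      · exact congrFun (hi (funext fun k => by simpa using congrFun e k.succ)) j
    · simp [prodP, he]

theorem UL_OP : UL K OP = chevF4.posUnipotent K := by
  have hm : ∀ r < chevF4.nroots, (24 ≤ r ↔ r ∈ rts OP) := by decide +kernel
  refine le_antisymm ((Subgroup.closure_le _).2 ?_) ((Subgroup.closure_le _).2 ?_)
  · rintro g ⟨r, hr, t, rfl⟩
    have hlt : r < chevF4.nroots := rts_lt (by decide +kernel) r hr
    exact SF.xG_mem_U ((hm r hlt).2 hr) hlt t
  · rintro g ⟨r, t, hr, hx⟩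
    obtain ⟨a, b⟩ := SF.isPos_iff.1 hr
    rw [SF.ok.eq_xG hx]
    exact xG_mem_UL ((hm r b).1 a) t

theorem card_UL_of_sublist [Fintype K] (h : L.Sublist OP) (hok : okL L = true) : Good K L := by
  obtain ⟨ext, hi, he⟩ := prodP_sublist (K := K) h
  refine ⟨hok, fun f f' e => hi ?_⟩
  have hb : Function.Bijective (fun f => (⟨prodP OP f, prodP_mem OP f⟩ : ↥(UL K OP))) := by
    rw [Nat.bijective_iff_surjective_and_card]
    refine ⟨fun g => ?_, ?_⟩
    · obtain ⟨f, hf⟩ := exists_prodP (by decide +kernel) g.1 g.2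
      exact ⟨f, Subtype.ext hf.symm⟩
    · rw [UL_OP, SF.card_posUnipotent, Nat.card_eq_fintype_card, Fintype.card_fun, Fintype.card_prod,
        Fintype.card_fin, ← pow_two, ← pow_mul]
      rfl
  exact hb.1 (Subtype.ext ((he f).trans (e.trans (he f').symm)))

/-- Sublists of the order are good. -/
theorem good_OP [Fintype K] : Good K OP := card_UL_of_sublist (List.Sublist.refl _) (by decide +kernel)

namespace RF

variable [Fintype K] (X : RF K)
include X

omit X [Fintype K] in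
theorem UL_le_group (L : List (ℕ × ℕ)) : UL K L ≤ chevF4.group K := by
  refine (Subgroup.closure_le _).2 ?_
  rintro g ⟨r, -, t, rfl⟩
  exact SF.ok.xG_mem_group _ _

theorem sg_UL {g : GL chevF4.Idx K} (h : okL L = true) (hg : g ∈ UL K L) : X.sg g ∈ UL K L := by
  have hρ : ∀ {L : List (ℕ × ℕ)}, okL L = true → ∀ r ∈ rts L, ρ r ∈ rts L := by
    intro L h
    induction L with
    | nil => exact fun r hr => absurd hr List.not_mem_nil
    | cons c L ih =>
      simp only [okL, Bool.and_eq_true] at h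
      obtain ⟨-, -, a, b, -⟩ := okPr_spec h.1.1.1
      intro r hr
      simp only [rts, List.mem_cons] at hr ⊢
      rcases hr with rfl | rfl | hr
      exacts [Or.inr (Or.inl a), Or.inl b, Or.inr (Or.inr (ih h.2 r hr))]
  let Z : Subgroup (GL chevF4.Idx K) :=
    { carrier := {g | g ∈ chevF4.group K ∧ X.sg g ∈ UL K L}
      one_mem' := ⟨one_mem _, by rw [X.sg_one]; exact one_mem _⟩
      mul_mem' := fun {a b} ha hb => ⟨mul_mem ha.1 hb.1, by rw [X.sg_mul ha.1 hb.1]; exact mul_mem ha.2 hb.2⟩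
      inv_mem' := fun {a} ha => ⟨inv_mem ha.1, by rw [X.sg_inv ha.1]; exact inv_mem ha.2⟩ }
  have : UL K L ≤ Z := (Subgroup.closure_le _).2 (by
    rintro g ⟨r, hr, t, rfl⟩
    refine ⟨SF.ok.xG_mem_group _ _, ?_⟩
    rw [X.sg_xG (rts_lt h r hr)]
    exact xG_mem_UL (hρ h r hr) _)
  exact (this hg).2

theorem sg_Mem (h : okL (c :: L) = true) {g : GL chevF4.Idx K} {s t : K} (hg : Mem c L g s t) :
    Mem c L (X.sg g) (t ^ X.e) (s ^ (2 * X.e)) := by
  obtain ⟨v, hv, rfl⟩ := hg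
  have h' := h
  simp only [okL, Bool.and_eq_true] at h'
  obtain ⟨a, b, c1, c2, l1, l2⟩ := okPr_spec h'.1.1.1
  have hm : ∀ r (x : K), SF.ok.xG r x ∈ chevF4.group K := fun r x => SF.ok.xG_mem_group _ _
  rw [X.sg_mul (mul_mem (hm _ _) (hm _ _)) (UL_le_group L hv), X.sg_mul (hm _ _) (hm _ _), X.sg_xG a, X.sg_xG b,
    c1, c2, l1, l2, one_mul]
  simpa using ((mem_snd (L := L) (s ^ (2 * X.e))).mul h (mem_fst (c := c) (L := L) (t ^ X.e))).mul h
    (Mem.of_tail (c := c) (X.sg_UL h'.2 hv))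

/-- Every `a` with `a σ(a) = 1` is `m⁻¹ σ(m)`. -/
theorem coh : ∀ {L : List (ℕ × ℕ)}, Good K L → ∀ a ∈ UL K L, a * X.sg a = 1 →
    ∃ m ∈ UL K L, a = m⁻¹ * X.sg m
  | [], _, a, ha, _ => ⟨1, one_mem _, by simpa [UL_nil, X.sg_one] using ha⟩
  | c :: L, h, a, ha, e => by
    obtain ⟨s, t, hm⟩ := exists_mem h.ok ha
    have h1 := hm.mul h.ok (X.sg_Mem h.ok hm)
    rw [e] at h1
    obtain ⟨hs, -⟩ := h1.unique h (Mem.of_tail (one_mem _))
    have hst : s = t ^ X.e := (eq_neg_of_add_eq_zero_left hs).trans (X.neg_eq _)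
    obtain ⟨-, hc2, -⟩ := okPr_spec (by have := h.ok; simp only [okL, Bool.and_eq_true] at this; exact this.1.1.1)
    let m0 := SF.ok.xG c.2 t
    have hm0 : m0 ∈ UL K (c :: L) := xG_mem_UL (by simp [rts]) _
    have g0 : m0 ∈ chevF4.group K := UL_le_group _ hm0
    have ga : a ∈ chevF4.group K := UL_le_group _ ha
    have h2 := ((mem_snd (c := c) (L := L) t).mul h.ok hm).mul h.ok ((X.sg_Mem h.ok (mem_snd (c := c) (L := L) t)).inv h.ok)
    have h3 : m0 * a * (X.sg m0)⁻¹ ∈ UL K L := by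
      refine Mem.tail (c := c) ?_
      have e1 : (0 : K) + s + -(t ^ X.e) = 0 := by rw [hst]; ring
      have e2 : t + t + -((0 : K) ^ (2 * X.e)) = 0 := by
        rw [zero_pow (Nat.mul_ne_zero two_ne_zero X.e_pos.ne'), X.add_self]; simp
      rwa [e1, e2] at h2
    obtain ⟨m, hm', e'⟩ := coh h.tail _ h3 (by
      rw [X.sg_mul (mul_mem g0 ga) (inv_mem (X.sg_mem g0)), X.sg_mul g0 ga, X.sg_inv (X.sg_mem g0), X.sg_sg g0]
      calc m0 * a * (X.sg m0)⁻¹ * (X.sg m0 * X.sg a * m0⁻¹) = m0 * (a * X.sg a) * m0⁻¹ := by group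
        _ = 1 := by rw [e]; group)
    refine ⟨m * m0, mul_mem (UL_tail c L hm') hm0, ?_⟩
    rw [X.sg_mul (UL_le_group _ hm') g0, mul_inv_rev,
      show m0⁻¹ * m⁻¹ * (X.sg m * X.sg m0) = m0⁻¹ * (m⁻¹ * X.sg m) * X.sg m0 by group, ← e']
    group

/-- A fixed element with given leading coefficient. -/
theorem lift (h : Good K (c :: L)) (t : K) :
    ∃ g ∈ UL K (c :: L) ⊓ X.Gs, Mem c L g (t ^ X.e) t := by
  have hy : Mem c L (SF.ok.xG c.1 (t ^ X.e) * SF.ok.xG c.2 t) (t ^ X.e) t :=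
    ⟨1, one_mem _, (mul_one _).symm⟩
  set y := SF.ok.xG c.1 (t ^ X.e) * SF.ok.xG c.2 t
  have gy : y ∈ chevF4.group K := UL_le_group _ hy.mem_UL
  have hd : y⁻¹ * X.sg y ∈ UL K L := by
    refine Mem.tail (c := c) ?_
    have := (hy.inv h.ok).mul h.ok (X.sg_Mem h.ok hy)
    rwa [X.pow_e_e2, neg_add_cancel, neg_add_cancel] at this
  obtain ⟨m, hm, em⟩ := X.coh h.tail _ hd (by
    rw [X.sg_mul (inv_mem gy) (X.sg_mem gy), X.sg_inv gy, X.sg_sg gy]; group)
  have hg : Mem c L (y * m⁻¹) (t ^ X.e) t := by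
    simpa using hy.mul h.ok (Mem.of_tail (c := c) (inv_mem hm))
  refine ⟨y * m⁻¹, ⟨hg.mem_UL, mul_mem gy (inv_mem (UL_le_group _ hm)), ?_⟩, hg⟩
  rw [X.sg_mul gy (inv_mem (UL_le_group _ hm)), X.sg_inv (UL_le_group _ hm),
    show X.sg y = y * (m⁻¹ * X.sg m) by rw [← em, mul_inv_cancel_left]]
  group

/-- The first coefficient of a fixed element determines the second. -/
theorem fixed_lead (h : Good K (c :: L)) {g : GL chevF4.Idx K} (hg : g ∈ UL K (c :: L) ⊓ X.Gs) :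
    ∃ t, Mem c L g (t ^ X.e) t := by
  obtain ⟨s, t, hm⟩ := exists_mem h.ok hg.1
  have h1 := X.sg_Mem h.ok hm
  rw [hg.2.2] at h1
  obtain ⟨hs, -⟩ := hm.unique h h1
  exact ⟨t, hs ▸ hm⟩

theorem card_fix : ∀ {L : List (ℕ × ℕ)}, Good K L →
    Nat.card ↥(UL K L ⊓ X.Gs) = Fintype.card K ^ L.length
  | [], _ => by rw [UL_nil, bot_inf_eq]; simp
  | c :: L, h => by
    choose g hg hgm using fun t => X.lift h t
    let f : K × ↥(UL K L ⊓ X.Gs) → ↥(UL K (c :: L) ⊓ X.Gs) := fun p =>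
      ⟨g p.1 * p.2.1, mul_mem (hg p.1) ⟨UL_tail c L p.2.2.1, p.2.2.2⟩⟩
    have hf : Function.Bijective f := by
      refine ⟨fun p q e => ?_, fun x => ?_⟩
      · have e' : g p.1 * p.2.1 = g q.1 * q.2.1 := congrArg Subtype.val e
        have h1 := (hgm p.1).mul h.ok (Mem.of_tail (c := c) p.2.2.1)
        have h2 := (hgm q.1).mul h.ok (Mem.of_tail (c := c) q.2.2.1)
        rw [e'] at h1
        have ht : p.1 = q.1 := by simpa using (h1.unique h h2).2
        rw [ht] at e'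
        exact Prod.ext ht (Subtype.ext (mul_left_cancel e'))
      · obtain ⟨t, ht⟩ := X.fixed_lead h x.2
        have h1 := ((hgm t).inv h.ok).mul h.ok ht
        rw [neg_add_cancel, neg_add_cancel] at h1
        exact ⟨(t, ⟨_, h1.tail, Subgroup.mul_mem X.Gs (X.Gs.inv_mem (hg t).2) x.2.2⟩), Subtype.ext (mul_inv_cancel_left _ _)⟩
    rw [← Nat.card_eq_of_bijective f hf, Nat.card_prod, card_fix h.tail, Nat.card_eq_fintype_card, List.length_cons,
      pow_succ, mul_comm]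

/-- Enough leading coefficients generate all fixed elements. -/
theorem fix_le {H : Subgroup (GL chevF4.Idx K)} (hH : H ≤ X.Gs) : ∀ {L : List (ℕ × ℕ)}, Good K L →
    (∀ c L', (c :: L') <:+ L → ∀ t : K, ∃ g ∈ H, Mem c L' g (t ^ X.e) t) → UL K L ⊓ X.Gs ≤ H
  | [], _, _ => by rw [UL_nil, bot_inf_eq]; exact bot_le
  | c :: L, h, hr => fun x hx => by
    obtain ⟨t, ht⟩ := X.fixed_lead h hx
    obtain ⟨g, hg, hgm⟩ := hr c L (List.suffix_refl _) t
    have h1 := (hgm.inv h.ok).mul h.ok ht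
    rw [neg_add_cancel, neg_add_cancel] at h1
    have h2 : g⁻¹ * x ∈ H := fix_le hH h.tail (fun d L' hs => hr d L' (hs.trans (List.suffix_cons c L)))
      ⟨h1.tail, Subgroup.mul_mem X.Gs (X.Gs.inv_mem (hH hg)) hx.2⟩
    simpa using mul_mem hg h2

end RF

end Cfsg.Lib.Chev.ReeF
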