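import Cfsg.Agent.Chev.Isog.Data
import Cfsg.Agent.Chev.Basic
import Cfsg.Agent.Chev.Bruhat
import Cfsg.Agent.Chev.BNP
import Cfsg.Agent.Chev.More
import Cfsg.Agent.Chev.St.CenterData
import Cfsg.Prelude.Def_LieTwisted
import Mathlib.Algebra.CharP.Two

/-! The automorphism defining the groups of type `²F₄` and its fixed elements in the torus. -/

set_option autoImplicit false
set_option linter.dupNamespace false

open Cfsg.Lie

namespace Cfsg.Lib.Chev.ReeF

open Isog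

/-- The verified datum of type F₄. -/
theorem SF : Struct chevF4 F4.cert := ⟨F4.ok, F4.okChain_, F4.okBase_all, okOrder_F4⟩

/-- The image of a root. -/
abbrev ρ (r : ℕ) : ℕ := isoF4.rh r

theorem charP_two {K : Type*} [Field K] [Fintype K] {m : ℕ} (hK : Fintype.card K = 2 ^ (2 * m + 1)) : CharP K 2 := by
  obtain ⟨p, hp⟩ := CharP.exists K
  obtain ⟨n, hp', hn⟩ := FiniteField.card K p
  have : p = 2 := by
    have h : p ∣ 2 ^ (2 * m + 1) := by rw [← hK, hn]; exact dvd_pow_self p n.pos.ne'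
    exact (Nat.prime_dvd_prime_iff_eq hp' Nat.prime_two).1 (hp'.dvd_of_dvd_pow h)
  exact this ▸ hp

/-- The automorphism of the Chevalley group. -/
structure RF (K : Type*) [Field K] [Fintype K] where
  /-- half the exponent of the field -/
  m : ℕ
  hK : Fintype.card K = 2 ^ (2 * m + 1)
  /-- the automorphism -/
  σ : ↥(chevF4.group K) ≃* ↥(chevF4.group K)
  hσ : ∀ r < chevF4.nroots, ∀ (t : K) (g : ↥(chevF4.group K)), (g : GL chevF4.Idx K) = SF.ok.xG r t →
    (σ g : GL chevF4.Idx K) = SF.ok.xG (ρ r) (t ^ (isoF4.lm r * 2 ^ m))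

variable {K : Type*} [Field K] [Fintype K]

theorem exists_rf {m : ℕ} (hK : Fintype.card K = 2 ^ (2 * m + 1)) : ∃ X : RF K, X.m = m := by
  have := charP_two hK
  have : Fact (Nat.Prime 2) := ⟨Nat.prime_two⟩
  have : CharP K isoF4.p := ‹CharP K 2›
  obtain ⟨α, hα⟩ := exists_isogeny (K := K) SF okNeg_F4 ⟨_, St.okSt_F4⟩ Nat.prime_two okIso_F4 (by simp)
    (fun x => (Finite.injective_iff_surjective.1 (frobenius_inj K 2) x))
  let f : K ≃+* K := RingEquiv.ofBijective (iterateFrobenius K 2 m)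
    ⟨(iterateFrobenius K 2 m).injective, Finite.injective_iff_surjective.1 (iterateFrobenius K 2 m).injective⟩
  obtain ⟨β, hβ⟩ := SF.ok.exists_fieldAut f
  refine ⟨⟨m, hK, α.trans β, fun r hr t g hg => ?_⟩, rfl⟩
  have h1 := hα r hr t g hg
  obtain ⟨h2, -, -, -⟩ := okIso_root okIso_F4 hr
  refine Units.ext ((hβ (α g) _ _ h2 (congrArg Units.val h1)).trans ?_)
  show chevF4.x K _ (iterateFrobenius K 2 m _) = _
  rw [iterateFrobenius_def, ← pow_mul]
  rfl

theorem tables : ∀ r < chevF4.nroots, ρ r < chevF4.nroots ∧ (isoF4.lm r = 1 ∨ isoF4.lm r = 2) ∧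
    ρ (chevF4.neg r) = chevF4.neg (ρ r) ∧ isoF4.lm (chevF4.neg r) = isoF4.lm r ∧ ρ (ρ r) = r ∧
    isoF4.lm r * isoF4.lm (ρ r) = 2 ∧ chevF4.neg r = 47 - r ∧ (24 ≤ ρ r ↔ 24 ≤ r) := by decide +kernel

namespace RF

variable (X : RF K)

/-- The exponent of the twist. -/
def e (X : RF K) : ℕ := 2 ^ X.m

theorem e_pos : 0 < X.e := Nat.pow_pos (by norm_num)

theorem char2 (X : RF K) : CharP K 2 := charP_two X.hK

theorem card_eq : Fintype.card K = 2 * X.e * X.e := by
  rw [X.hK, e, pow_succ, two_mul X.m, pow_add]; ring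

theorem pow_q (t : K) : t ^ (2 * X.e * X.e) = t := by rw [← X.card_eq, FiniteField.pow_card]

theorem units_pow_q (t : Kˣ) : t ^ (2 * X.e * X.e) = t := Units.ext (by simpa using X.pow_q (t : K))

theorem pow_e_e2 (t : K) : (t ^ X.e) ^ (2 * X.e) = t := by
  rw [← pow_mul, show X.e * (2 * X.e) = 2 * X.e * X.e by ring, X.pow_q]

theorem pow_e2_e (t : K) : (t ^ (2 * X.e)) ^ X.e = t := by
  rw [← pow_mul, X.pow_q]

theorem neg_eq (X : RF K) (t : K) : -t = t := by
  have := X.char2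
  exact CharTwo.neg_eq t

theorem add_self (X : RF K) (t : K) : t + t = 0 := by
  have := X.char2
  exact CharTwo.add_self_eq_zero t

/-- The automorphism as a function on matrices. -/
noncomputable def sg (X : RF K) (g : GL chevF4.Idx K) : GL chevF4.Idx K :=
  open scoped Classical in if h : g ∈ chevF4.group K then (X.σ ⟨g, h⟩ : GL chevF4.Idx K) else g

theorem sg_mem {g : GL chevF4.Idx K} (hg : g ∈ chevF4.group K) : X.sg g ∈ chevF4.group K := by
  rw [sg, dif_pos hg]; exact SetLike.coe_mem _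

theorem sg_mul {g h : GL chevF4.Idx K} (hg : g ∈ chevF4.group K) (hh : h ∈ chevF4.group K) :
    X.sg (g * h) = X.sg g * X.sg h := by
  rw [sg, sg, sg, dif_pos hg, dif_pos hh, dif_pos (mul_mem hg hh), ← Subgroup.coe_mul, ← map_mul]
  rfl

theorem sg_one : X.sg 1 = 1 := by
  rw [sg, dif_pos (one_mem _)]
  exact congrArg Subtype.val (map_one X.σ)

theorem sg_inv {g : GL chevF4.Idx K} (hg : g ∈ chevF4.group K) : X.sg g⁻¹ = (X.sg g)⁻¹ := by
  rw [sg, sg, dif_pos hg, dif_pos (inv_mem hg), ← Subgroup.coe_inv, ← map_inv]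
  rfl

theorem sg_xG {r : ℕ} (hr : r < chevF4.nroots) (t : K) :
    X.sg (SF.ok.xG r t) = SF.ok.xG (ρ r) (t ^ (isoF4.lm r * X.e)) := by
  rw [sg, dif_pos (SF.ok.xG_mem_group r t)]
  exact X.hσ r hr t _ rfl

theorem sg_wG : ∀ (w : List (ℕ × K)), (∀ p ∈ w, p.1 < chevF4.nroots) →
    X.sg (SF.ok.wG w) = SF.ok.wG (w.map fun p => (ρ p.1, p.2 ^ (isoF4.lm p.1 * X.e)))
  | [], _ => by simpa [Ok.wG] using X.sg_one
  | p :: w, h => by
    have ih := sg_wG w fun q hq => h q (List.mem_cons_of_mem _ hq)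
    have hw : SF.ok.wG w ∈ chevF4.group K := list_prod_mem fun g hg => by
      obtain ⟨q, -, rfl⟩ := List.mem_map.1 hg
      exact SF.ok.xG_mem_group _ _
    simp only [Ok.wG, List.map_cons, List.prod_cons] at ih hw ⊢
    rw [X.sg_mul (SF.ok.xG_mem_group _ _) hw, ih, X.sg_xG (h p List.mem_cons_self)]

theorem sg_sg {g : GL chevF4.Idx K} (hg : g ∈ chevF4.group K) : X.sg (X.sg g) = g := by
  let Z : Subgroup (GL chevF4.Idx K) :=
    { carrier := {g | g ∈ chevF4.group K ∧ X.sg (X.sg g) = g}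
      one_mem' := ⟨one_mem _, by rw [X.sg_one, X.sg_one]⟩
      mul_mem' := fun {a b} ha hb => ⟨mul_mem ha.1 hb.1, by
        rw [X.sg_mul ha.1 hb.1, X.sg_mul (X.sg_mem ha.1) (X.sg_mem hb.1), ha.2, hb.2]⟩
      inv_mem' := fun {a} ha => ⟨inv_mem ha.1, by rw [X.sg_inv ha.1, X.sg_inv (X.sg_mem ha.1), ha.2]⟩ }
  have : chevF4.group K ≤ Z := by
    refine (Subgroup.closure_le _).2 ?_
    rintro x ⟨r, t, hx⟩
    have hx' : x = SF.ok.xG r.val t := SF.ok.eq_xG (by rw [hx]; simp [ChevalleyDatum.x, r.isLt])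
    refine ⟨hx' ▸ SF.ok.xG_mem_group _ _, ?_⟩
    obtain ⟨h1, -, -, -, h5, h6, -, -⟩ := tables r.val r.isLt
    rw [hx', X.sg_xG r.isLt, X.sg_xG h1, h5, ← pow_mul,
      show isoF4.lm r.val * X.e * (isoF4.lm (ρ r.val) * X.e) =
        isoF4.lm r.val * isoF4.lm (ρ r.val) * X.e * X.e by ring, h6, X.pow_q]
  exact (this hg).2

theorem sg_nG {r : ℕ} (hr : r < chevF4.nroots) (t : K) :
    X.sg (SF.ok.nG r t) = SF.ok.nG (ρ r) (t ^ (isoF4.lm r * X.e)) := by
  obtain ⟨-, -, hn, hln, -, -, hneg, -⟩ := tables r hr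
  have hn' : chevF4.neg r < chevF4.nroots := by rw [hneg]; show 47 - r < 48; omega
  have e : ∀ (a : ℕ) (v : K), SF.ok.nG a v = SF.ok.wG [(a, v), (chevF4.neg a, -v⁻¹), (a, v)] := fun a v => by
    simp [Ok.wG, Ok.nG, mul_assoc]
  rw [e, X.sg_wG _ (by simp [hr, hn']), e]
  simp only [List.map_cons, List.map_nil]
  rw [hn, hln, X.neg_eq t⁻¹, X.neg_eq (t ^ _)⁻¹, inv_pow]

theorem sg_hG {r : ℕ} (hr : r < chevF4.nroots) (t : K) :
    X.sg (SF.ok.hG r t) = SF.ok.hG (ρ r) (t ^ (isoF4.lm r * X.e)) := by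
  rw [Ok.hG, X.sg_mul (SF.ok.nG_mem_group _ _) (SF.ok.nG_mem_group _ _), X.sg_nG hr, X.sg_nG hr, Ok.hG,
    X.neg_eq 1, one_pow]

/-- The fixed elements. -/
noncomputable def Gs (X : RF K) : Subgroup (GL chevF4.Idx K) where
  carrier := {g | g ∈ chevF4.group K ∧ X.sg g = g}
  one_mem' := ⟨one_mem _, X.sg_one⟩
  mul_mem' := fun {a b} ha hb => ⟨mul_mem ha.1 hb.1, by rw [X.sg_mul ha.1 hb.1, ha.2, hb.2]⟩
  inv_mem' := fun {a} ha => ⟨inv_mem ha.1, by rw [X.sg_inv ha.1, ha.2]⟩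

omit [Fintype K] in
theorem U_le_group : chevF4.posUnipotent K ≤ chevF4.group K := fun _ hg => SF.borel_le_group (SF.B_le_of hg)

/-- The torus with index set `Fin 4`. -/
noncomputable def tt (K : Type*) [Field K] : (Fin 4 → Kˣ) →* GL chevF4.Idx K := Ok.tG chevF4 K

omit [Fintype K] in
theorem tt_injective : Function.Injective (tt K) := by
  rw [← MonoidHom.ker_eq_bot_iff]
  exact St.torus_ker_trivial SF.ok St.okTorus_F4

omit [Fintype K] in
theorem diag_eq : chevF4.diagonalSubgroup K = (tt K).range := SF.ok.diagonalSubgroup_eq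

omit [Fintype K] in
theorem hG_eq_tt (i : Fin 4) (t : Kˣ) : SF.ok.hG (chevF4.simple i) (t : K) = tt K (Pi.mulSingle i t) :=
  SF.ok.hG_simple_eq_tG i t

theorem simple_tab : ∀ i : Fin 4, chevF4.simple i < chevF4.nroots ∧
    ρ (chevF4.simple i) = chevF4.simple (![3, 2, 1, 0] i : Fin 4) ∧
    isoF4.lm (chevF4.simple i) = ![2, 2, 1, 1] i ∧ chevF4.simple i = ![33, 27, 25, 24] i := by decide +kernel

theorem sg_tG (c : Fin 4 → Kˣ) :
    X.sg (tt K c) = tt K ![c 3 ^ X.e, c 2 ^ X.e, c 1 ^ (2 * X.e), c 0 ^ (2 * X.e)] := by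
  have hs : ∀ (i : Fin 4) (t : Kˣ), X.sg (tt K (Pi.mulSingle (M := fun _ : Fin 4 => Kˣ) i t)) =
      tt K (Pi.mulSingle (M := fun _ : Fin 4 => Kˣ) (![3, 2, 1, 0] i) (t ^ (![2, 2, 1, 1] i * X.e))) := fun i t => by
    have h1 := hG_eq_tt i t
    have h2 := hG_eq_tt (![3, 2, 1, 0] i : Fin 4) (t ^ (![2, 2, 1, 1] i * X.e))
    obtain ⟨a, b, c, -⟩ := simple_tab i
    rw [← h1, ← h2, X.sg_hG a, b, c, Units.val_pow_eq_pow_val]
  have hc : c = Pi.mulSingle 0 (c 0) * Pi.mulSingle 1 (c 1) * Pi.mulSingle 2 (c 2) * Pi.mulSingle 3 (c 3) := by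
    funext i; fin_cases i <;> simp
  have hm : ∀ v, tt K v ∈ chevF4.group K := fun v => SF.diag_le_group (by
    rw [diag_eq]; exact ⟨v, rfl⟩)
  conv_lhs => rw [hc, map_mul, X.sg_mul (hm _) (hm _), map_mul, X.sg_mul (hm _) (hm _), map_mul,
    X.sg_mul (hm _) (hm _), hs, hs, hs, hs, ← map_mul, ← map_mul, ← map_mul]
  congr 1
  funext i
  fin_cases i <;> simp

/-- The parametrisation of the fixed torus. -/
noncomputable def hh (X : RF K) : Kˣ × Kˣ →* GL chevF4.Idx K :=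
  (tt K).comp
    { toFun := fun p => ![p.1 ^ X.e, p.2 ^ X.e, p.2, p.1]
      map_one' := funext fun i => by fin_cases i <;> simp
      map_mul' := fun a b => funext fun i => by fin_cases i <;> simp [mul_pow] }

theorem hh_apply (p : Kˣ × Kˣ) : X.hh p = tt K ![p.1 ^ X.e, p.2 ^ X.e, p.2, p.1] := by
  simp only [hh, MonoidHom.comp_apply, MonoidHom.coe_mk, OneHom.coe_mk]

theorem hh_injective : Function.Injective X.hh := fun a b h => by
  have h' := tt_injective h
  exact Prod.ext (by simpa using congrFun h' 3) (by simpa using congrFun h' 2)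

theorem H_fixed : chevF4.diagonalSubgroup K ⊓ X.Gs = X.hh.range := by
  ext g
  simp only [Subgroup.mem_inf, MonoidHom.mem_range]
  constructor
  · rintro ⟨hd, -, hfix⟩
    rw [diag_eq] at hd
    obtain ⟨c, rfl⟩ := hd
    rw [X.sg_tG] at hfix
    have h0 := congrFun (tt_injective hfix) 0
    have h1 := congrFun (tt_injective hfix) 1
    simp only [Matrix.cons_val_zero, Matrix.cons_val_one] at h0 h1
    refine ⟨(c 3, c 2), ?_⟩
    rw [X.hh_apply]
    congr 1
    funext i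
    fin_cases i <;> simp [h0, h1]
  · rintro ⟨p, rfl⟩
    have hd : X.hh p ∈ chevF4.diagonalSubgroup K := by
      rw [diag_eq, X.hh_apply]; exact ⟨_, rfl⟩
    refine ⟨hd, SF.diag_le_group hd, ?_⟩
    rw [X.hh_apply, X.sg_tG]
    refine congrArg _ (funext fun i => ?_)
    have key : ∀ t : Kˣ, (t ^ X.e) ^ (2 * X.e) = t := fun t => Units.ext (by simpa using X.pow_e_e2 (t : K))
    fin_cases i <;> simp [key]

end RF

end Cfsg.Lib.Chev.ReeF
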