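import Cfsg.Agent.Chev.Ree.F4.Group
import Cfsg.Agent.Chev.Tw.Height
import Mathlib.GroupTheory.SpecificGroups.Dihedral

/-! The Weyl group of the fixed group, the normal form and the order. -/

set_option autoImplicit false
set_option linter.dupNamespace false

open Cfsg.Lie

namespace Cfsg.Lib.Chev.ReeF

/-- A permutation of the roots commuting with the map on roots. -/
def Cent (w : Equiv.Perm (Fin chevF4.nroots)) : Prop :=
  ∀ r q : Fin chevF4.nroots, q.val = ρ r.val → (w q).val = ρ (w r).val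

theorem cent_mul {v w : Equiv.Perm (Fin chevF4.nroots)} (hv : Cent v) (hw : Cent w) : Cent (v * w) :=
  fun r q h => hv _ _ (hw r q h)

theorem cent_neg {w : Equiv.Perm (Fin chevF4.nroots)} (hw : Cent w) {r q : Fin chevF4.nroots} (h : q.val = ρ r.val) :
    (w q).val < 24 ↔ (w r).val < 24 := by
  rw [hw r q h]
  obtain ⟨-, -, -, -, -, -, -, h8⟩ := tables _ (w r).isLt
  omega

/-- The roots made negative when a word is absorbed. -/
noncomputable def betas : List (Fin chevF4.rank) → List (Fin chevF4.nroots)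
  | [] => []
  | i :: J => SF.sp i :: (betas J).map (SF.wp i)

theorem strip : ∀ (J L : List (Fin chevF4.rank)), (∀ r ∈ betas J, (SF.wpL L r).val < 24) →
    ∃ L', L'.length + J.length = L.length ∧ SF.wpL L' = SF.wpL L * SF.wpL J
  | [], L, _ => ⟨L, by simp, by simp [Struct.wpL]⟩
  | i :: J, L, h => by
    obtain ⟨L1, h', hh', hlen, e⟩ := SF.exchange (F := ZMod 2) i L (h _ List.mem_cons_self)
    have hw : SF.wpL L1 = SF.wpL L * SF.wp i := by
      have h1 := SF.act_mul (SF.act_diag hh') (SF.act_nL (F := ZMod 2) L1)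
      have h2 := SF.act_mul (SF.act_nL (F := ZMod 2) L) (SF.act_nG i)
      rw [e] at h2
      simpa using SF.act_unique h1 h2
    obtain ⟨L', hlen', e'⟩ := strip J L1 fun r hr => by
      rw [hw]
      exact h _ (List.mem_cons_of_mem _ (List.mem_map.2 ⟨r, hr, rfl⟩))
    refine ⟨L', by simp only [List.length_cons]; omega, ?_⟩
    rw [e', hw, mul_assoc]
    simp [Struct.wpL]

theorem orb_wk : SF.wpL (orbF false) = wk 8 ∧ SF.wpL (orbF true) = wk 9 := by
  have h : WL.getD 8 [] = [false] ∧ WL.getD 9 [] = [true] := by decide +kernel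
  rw [wk, wk, h.1, h.2]
  simp [flat]

theorem betas_tab : ([(fi 0).val, (fi 3).val, (fi 1).val, (fi 2).val] = [0, 3, 1, 2]) ∧
    F4.cert.sr 0 = 33 ∧ F4.cert.sr 3 = 24 ∧ F4.cert.sr 1 = 27 ∧ F4.cert.sr 2 = 25 ∧ F4.cert.w 0 24 = 24 ∧
    F4.cert.w 1 25 = 30 ∧ F4.cert.w 1 30 = 25 ∧ F4.cert.w 2 27 = 28 ∧ F4.cert.w 1 28 = 28 ∧ F4.cert.w 2 30 = 30 ∧
    ρ 33 = 24 ∧ ρ 24 = 33 ∧ ρ 27 = 25 ∧ ρ 25 = 27 ∧ ρ 28 = 30 := by decide +kernel

/-- Descent: permutations commuting with the map are among the sixteen. -/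
theorem cent_cases : ∀ (n : ℕ) (L : List (Fin chevF4.rank)), L.length = n → Cent (SF.wpL L) →
    ∃ k < 16, SF.wpL L = wk k := by
  intro n
  induction n using Nat.strong_induction_on with
  | _ n ih =>
    intro L hn hc
    rcases List.eq_nil_or_concat L with rfl | ⟨M, i, hLM⟩
    · exact ⟨0, by norm_num, by rw [wk_zero]; simp [Struct.wpL]⟩
    rw [List.concat_eq_append] at hLM
    by_cases hneg : (SF.wpL L (SF.sp i)).val < 24
    swap
    · have hM : (SF.wpL M (SF.sp i)).val < 24 := by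
        have hs : SF.wpL L (SF.sp i) = SF.wpL M (SF.wp i (SF.sp i)) := by
          rw [hLM]; simp [Struct.wpL]
        by_contra hcon
        refine hneg ?_
        rw [hs]
        have hn1 : chevF4.neg (SF.sp i).val < chevF4.nroots := by
          have := SF.neg_lt_half (SF.sp i).isLt (SF.sr_pos i.isLt); omega
        have e1 : SF.wp i (SF.sp i) = ⟨chevF4.neg (SF.sp i).val, hn1⟩ := Fin.ext (by
          show F4.cert.w i.val (F4.cert.sr i.val) = chevF4.neg (F4.cert.sr i.val)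
          rw [(SF.ok.refl_simple i.isLt).1, SF.ok.neg_eq (SF.ok.sr_lt i.isLt)])
        rw [e1, SF.wp_neg M (SF.sp i) hn1]
        exact SF.neg_lt_half (Fin.isLt _) (Nat.le_of_not_lt hcon)
      obtain ⟨M', hlen, e⟩ := strip [i] M (by simpa [betas] using hM)
      have e' : SF.wpL M' = SF.wpL L := by rw [e, hLM]; simp [Struct.wpL]
      have hl : M'.length < n := by rw [← hn, hLM, List.length_append]; simp at hlen ⊢; omega
      exact e' ▸ ih _ hl M' rfl (e' ▸ hc)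
    obtain ⟨hfi, s0, s3, s1, s2, a1, b1, b2, b3, b4, b5, p1, p2, p3, p4, p5⟩ := betas_tab
    simp only [List.cons.injEq, and_true] at hfi
    obtain ⟨f0, f3, f1, f2⟩ := hfi
    have lt : ∀ r < 48, r < chevF4.nroots := fun r h => h
    have hroot : ((SF.wpL L ⟨33, lt 33 (by norm_num)⟩).val < 24 ∧ (SF.wpL L ⟨24, lt 24 (by norm_num)⟩).val < 24) ∨
        ((SF.wpL L ⟨27, lt 27 (by norm_num)⟩).val < 24 ∧ (SF.wpL L ⟨25, lt 25 (by norm_num)⟩).val < 24) := by
      have c1 := cent_neg hc (r := ⟨33, lt 33 (by norm_num)⟩) (q := ⟨24, lt 24 (by norm_num)⟩) p1.symm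
      have c2 := cent_neg hc (r := ⟨27, lt 27 (by norm_num)⟩) (q := ⟨25, lt 25 (by norm_num)⟩) p3.symm
      have hi : ∀ j : Fin chevF4.rank, j.val = 0 ∨ j.val = 1 ∨ j.val = 2 ∨ j.val = 3 := fun j => by
        have : j.val < 4 := j.isLt
        omega
      rcases hi i with h | h | h | h
      · have : SF.sp i = ⟨33, lt 33 (by norm_num)⟩ := Fin.ext (show F4.cert.sr i.val = 33 by rw [h, s0])
        rw [this] at hneg; exact Or.inl ⟨hneg, c1.2 hneg⟩
      · have : SF.sp i = ⟨27, lt 27 (by norm_num)⟩ := Fin.ext (show F4.cert.sr i.val = 27 by rw [h, s1])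
        rw [this] at hneg; exact Or.inr ⟨hneg, c2.2 hneg⟩
      · have : SF.sp i = ⟨25, lt 25 (by norm_num)⟩ := Fin.ext (show F4.cert.sr i.val = 25 by rw [h, s2])
        rw [this] at hneg; exact Or.inr ⟨c2.1 hneg, hneg⟩
      · have : SF.sp i = ⟨24, lt 24 (by norm_num)⟩ := Fin.ext (show F4.cert.sr i.val = 24 by rw [h, s3])
        rw [this] at hneg; exact Or.inl ⟨c1.1 hneg, hneg⟩
    have fin : ∀ b : Bool, (∀ r ∈ betas (orbF b), (SF.wpL L r).val < 24) → ∃ k < 16, SF.wpL L = wk k := fun b hb => by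
      obtain ⟨L', hlen, e⟩ := strip (orbF b) L hb
      obtain ⟨k0, hk0, ek0, hsq⟩ : ∃ k0, k0 < 16 ∧ SF.wpL (orbF b) = wk k0 ∧ mulI k0 k0 = 0 := by
        cases b
        · exact ⟨8, by norm_num, orb_wk.1, by decide⟩
        · exact ⟨9, by norm_num, orb_wk.2, by decide⟩
      have hl : L'.length < n := by
        have : 0 < (orbF b).length := by cases b <;> simp [orbF]
        omega
      obtain ⟨k, hk, hk'⟩ := ih _ hl L' rfl (by rw [e, ek0]; exact cent_mul hc (wk_rho hk0))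
      refine ⟨mulI k k0, mulI_lt k hk k0 hk0, ?_⟩
      rw [← wk_mul hk hk0, ← hk', e, ek0, mul_assoc, wk_mul hk0 hk0, hsq, wk_zero, mul_one]
    rcases hroot with ⟨h33, h24⟩ | ⟨h27, h25⟩
    · refine fin false ?_
      have : ∀ x ∈ betas (orbF false), x.val = 33 ∨ x.val = 24 := by
        simp [betas, orbF, Struct.wp_val, Struct.sp, f0, f3, s0, s3, a1]
      intro r hr
      rcases this r hr with e | e
      · rwa [show r = ⟨33, lt 33 (by norm_num)⟩ from Fin.ext e]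
      · rwa [show r = ⟨24, lt 24 (by norm_num)⟩ from Fin.ext e]
    · have h30 : (SF.wpL L ⟨30, lt 30 (by norm_num)⟩).val < 24 := by
        by_contra h30
        have h28 : ¬ (SF.wpL L ⟨28, lt 28 (by norm_num)⟩).val < 24 := fun h =>
          h30 ((cent_neg hc (r := ⟨28, lt 28 (by norm_num)⟩) (q := ⟨30, lt 30 (by norm_num)⟩) p5.symm).2 h)
        have ha := SF.act_nL (F := ZMod 2) L
        set n := SF.nL (ZMod 2) L
        have neg_mem : ∀ (r : Fin chevF4.nroots) (t : ZMod 2), (SF.wpL L r).val < 24 →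
            n * SF.ok.xG r.val t * n⁻¹ ∈ chevF4.negUnipotent (ZMod 2) := fun r t h => by
          obtain ⟨-, c, -, e⟩ := ha r
          rw [(e t).1]
          exact Subgroup.subset_closure ⟨_, _, SF.isNeg_iff.2 h, SF.ok.val_xG _ _⟩
        have pos_mem : ∀ (r : Fin chevF4.nroots) (t : ZMod 2), ¬ (SF.wpL L r).val < 24 →
            n * SF.ok.xG r.val t * n⁻¹ ∈ chevF4.borelSubgroup (ZMod 2) := fun r t h => by
          obtain ⟨-, c, -, e⟩ := ha r
          rw [(e t).1]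
          exact SF.B_le_of (SF.xG_mem_U (show 24 ≤ (SF.wpL L r).val by omega) (Fin.isLt _) _)
        set A := SF.ok.xG 27 (1 : ZMod 2) with hA
        set B := SF.ok.xG 25 (1 : ZMod 2) with hB
        set W := SF.ok.xG 28 (1 : ZMod 2) * SF.ok.xG 30 1 with hW
        have hcomm : B * A = A * B * W := by
          have hc := SF.ok.commRel SF.chain SF.base (r := 27) (s := 25) (F := ZMod 2) (lt 27 (by norm_num))
            (lt 25 (by norm_num)) (by norm_num) (by decide +kernel) 1 1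
          rw [hA, hB, hc, ChevalleyDatum.commWord]
          have : ∀ q ∈ chevF4.commTerms 27 25, ((q.2.1 : ℤ) : ZMod 2) = 1 ∧ q.2.2.2 = 1 := by decide +kernel
          have h2 : (chevF4.commTerms 27 25).map Prod.fst = [28, 30] := by decide +kernel
          have h3 : (chevF4.commTerms 27 25).map (fun q => (q.1, ((q.2.1 : ℤ) : ZMod 2) * (-1) ^ q.2.2.1 * 1 ^ q.2.2.2)) =
              [(28, 1), (30, 1)] := by
            have hn : (-1 : ZMod 2) = 1 := by decide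
            rw [List.map_congr_left (g := fun q => (q.1, (1 : ZMod 2))) fun q hq => by simp [hn, (this q hq).1],
              show (fun q : ℕ × ℤ × ℕ × ℕ => (q.1, (1 : ZMod 2))) = (fun r => (r, (1 : ZMod 2))) ∘ Prod.fst from rfl,
              ← List.map_map, h2]
            rfl
          rw [h3]
          simp [Ok.wG, hW]
        have h1 : n * W * n⁻¹ ∈ chevF4.borelSubgroup (ZMod 2) ⊓ chevF4.negUnipotent (ZMod 2) := by
          refine Subgroup.mem_inf.2 ⟨?_, ?_⟩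
          · rw [hW, show n * (SF.ok.xG 28 (1 : ZMod 2) * SF.ok.xG 30 1) * n⁻¹ =
              (n * SF.ok.xG 28 1 * n⁻¹) * (n * SF.ok.xG 30 1 * n⁻¹) by group]
            exact mul_mem (pos_mem ⟨28, lt 28 (by norm_num)⟩ 1 h28) (pos_mem ⟨30, lt 30 (by norm_num)⟩ 1 h30)
          · have a := neg_mem ⟨27, lt 27 (by norm_num)⟩ 1 h27
            have b := neg_mem ⟨25, lt 25 (by norm_num)⟩ 1 h25
            rw [show W = B⁻¹ * A⁻¹ * (B * A) by rw [hcomm]; group,
              show n * (B⁻¹ * A⁻¹ * (B * A)) * n⁻¹ =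
                (n * B * n⁻¹)⁻¹ * (n * A * n⁻¹)⁻¹ * ((n * B * n⁻¹) * (n * A * n⁻¹)) by group]
            exact mul_mem (mul_mem (inv_mem b) (inv_mem a)) (mul_mem b a)
        rw [SF.B_inf_V okNeg_F4, Subgroup.mem_bot, mul_inv_eq_one, mul_eq_left] at h1
        have hg : Good (ZMod 2) [(28, 30)] := card_UL_of_sublist (by decide) (by decide +kernel)
        have := (Mem.unique hg (⟨1, one_mem _, (mul_one _).symm⟩ : Mem (28, 30) [] W 1 1)
          (show Mem (28, 30) [] W 0 0 from h1 ▸ Mem.of_tail (one_mem _))).1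
        exact one_ne_zero this
      have h28 := (cent_neg hc (r := ⟨28, lt 28 (by norm_num)⟩) (q := ⟨30, lt 30 (by norm_num)⟩) p5.symm).1 h30
      refine fin true ?_
      have : ∀ x ∈ betas (orbF true), x.val = 27 ∨ x.val = 25 ∨ x.val = 28 ∨ x.val = 30 := by
        simp [betas, orbF, Struct.wp_val, Struct.sp, f1, f2, s1, s2, b1, b2, b3, b4, b5]
      intro r hr
      rcases this r hr with e | e | e | e
      · rwa [show r = ⟨27, lt 27 (by norm_num)⟩ from Fin.ext e]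
      · rwa [show r = ⟨25, lt 25 (by norm_num)⟩ from Fin.ext e]
      · rwa [show r = ⟨28, lt 28 (by norm_num)⟩ from Fin.ext e]
      · rwa [show r = ⟨30, lt 30 (by norm_num)⟩ from Fin.ext e]

/-- The pairs made negative. -/
def OPk (k : ℕ) : List (ℕ × ℕ) := OP.filter fun c => decide (pr k c.1 < 24)

theorem OPk_ok : ∀ k < 16, okL (OPk k) = true ∧
    (OPk k).length = [0, 3, 6, 9, 12, 9, 6, 3, 1, 2, 5, 8, 11, 10, 7, 4].getD k 0 := by decide +kernel

theorem OPk_mem : ∀ k < 16, ∀ r < 48, (r ∈ rts (OPk k) ↔ 24 ≤ r ∧ pr k r < 24) := by decide +kernel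

/-- The element of the dihedral group with a given index. -/
def dih (k : ℕ) : DihedralGroup 8 := if k < 8 then DihedralGroup.r (k : ZMod 8) else DihedralGroup.sr ((k - 8 : ℕ) : ZMod 8)

theorem dih_mul : ∀ k < 16, ∀ l < 16, dih (mulI k l) = dih k * dih l := by decide +kernel

theorem dih_eq_one : ∀ k < 16, dih k = 1 → k = 0 := by decide +kernel

theorem dih_surj : ∀ d : DihedralGroup 8, ∃ k < 16, dih k = d := by decide +kernel

namespace RF

variable {K : Type*} [Field K] [Fintype K] (X : RF K)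
include X

theorem good_OPk {k : ℕ} (hk : k < 16) : Good K (OPk k) :=
  card_UL_of_sublist List.filter_sublist (OPk_ok k hk).1

omit X [Fintype K] in
theorem UPsi_eq {k : ℕ} (hk : k < 16) : SF.UPsi K (Struct.Neg chevF4 (wk k)) = UL K (OPk k) := by
  refine le_antisymm ((Subgroup.closure_le _).2 ?_) ((Subgroup.closure_le _).2 ?_)
  · rintro g ⟨r, t, h1, h2, rfl⟩
    refine xG_mem_UL ((OPk_mem k hk r.val r.isLt).2 ⟨h1, ?_⟩) t
    rw [← wk_val hk]; exact h2
  · rintro g ⟨r, hr, t, rfl⟩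
    have hlt : r < chevF4.nroots := rts_lt (OPk_ok k hk).1 r hr
    obtain ⟨h1, h2⟩ := (OPk_mem k hk r hlt).1 hr
    exact Subgroup.subset_closure ⟨⟨r, hlt⟩, t, h1, show (wk k ⟨r, hlt⟩).val < 24 by rw [wk_val hk]; exact h2, rfl⟩

/-- The representative with a given index. -/
noncomputable def nk (_X : RF K) (k : ℕ) : GL chevF4.Idx K := SF.nL K (flat (WL.getD k []))

theorem nk_mem (k : ℕ) : X.nk k ∈ X.G1 := X.nK_mem _

theorem nk_mono (k : ℕ) : X.nk k ∈ chevF4.monomialSubgroup K := SF.nL_mem_mono _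

theorem nk_act (k : ℕ) : Act SF.ok (X.nk k) (wk k) := SF.act_nL _

omit X [Fintype K] in
theorem xG_index {a b : Fin chevF4.nroots} {s s' : K} (hs : s ≠ 0)
    (h : SF.ok.xG a.val s = SF.ok.xG b.val s') : a = b := by
  by_contra hne
  have h0 := congrArg (SF.coef a) h
  rw [SF.coef_xG _ a.isLt, SF.coef_xG _ b.isLt, if_pos rfl, if_neg (fun e => hne (Fin.ext e).symm)] at h0
  exact hs h0

theorem sg_mem_diag {d : GL chevF4.Idx K} (hd : d ∈ chevF4.diagonalSubgroup K) :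
    X.sg d ∈ chevF4.diagonalSubgroup K := by
  rw [diag_eq] at hd ⊢
  obtain ⟨c, rfl⟩ := hd
  rw [X.sg_tG]
  exact ⟨_, rfl⟩

theorem sg_mem_mono {n : GL chevF4.Idx K} (hn : n ∈ chevF4.monomialSubgroup K) :
    X.sg n ∈ chevF4.monomialSubgroup K := by
  let Z : Subgroup (GL chevF4.Idx K) :=
    { carrier := {g | g ∈ chevF4.group K ∧ X.sg g ∈ chevF4.monomialSubgroup K}
      one_mem' := ⟨one_mem _, by rw [X.sg_one]; exact one_mem _⟩
      mul_mem' := fun {a b} ha hb => ⟨mul_mem ha.1 hb.1, by rw [X.sg_mul ha.1 hb.1]; exact mul_mem ha.2 hb.2⟩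
      inv_mem' := fun {a} ha => ⟨inv_mem ha.1, by rw [X.sg_inv ha.1]; exact inv_mem ha.2⟩ }
  have : chevF4.monomialSubgroup K ≤ Z := by
    rw [SF.ok.monomialSubgroup_eq]
    refine sup_le (fun d hd => ⟨SF.diag_le_group hd,
      (le_sup_left : chevF4.diagonalSubgroup K ≤ chevF4.monomialSubgroup K) (X.sg_mem_diag hd)⟩) ?_
    refine (Subgroup.closure_le _).2 ?_
    rintro g ⟨i, hi, rfl⟩
    obtain ⟨a, b, -, -⟩ := simple_tab (⟨i, hi⟩ : Fin 4)
    refine ⟨SF.ok.nG_mem_group _ _, ?_⟩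
    rw [X.sg_nG a, one_pow, b, SF.ok.monomialSubgroup_eq]
    exact Subgroup.mem_sup_right (Subgroup.subset_closure ⟨_, Fin.isLt _, rfl⟩)
  exact (this hn).2

theorem w_fixed {n d : GL chevF4.Idx K} (hn : n ∈ chevF4.monomialSubgroup K)
    (hd : d ∈ chevF4.diagonalSubgroup K) (e : X.sg n = n * d) {L : List (Fin chevF4.rank)}
    (ha : Act SF.ok n (SF.wpL L)) : ∃ k < 16, SF.wpL L = wk k := by
  refine cent_cases _ L rfl fun r r' hr' => ?_
  have ha' : Act SF.ok (X.sg n) (SF.wpL L) := by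
    rw [e]; simpa using SF.act_mul ha (SF.act_diag hd)
  obtain ⟨-, c, hc, hcx⟩ := ha r
  obtain ⟨-, c', hc', hcx'⟩ := ha' r'
  have h1 := congrArg X.sg (hcx 1).1
  have hng : n ∈ chevF4.group K := SF.mono_le_group hn
  rw [X.sg_mul (mul_mem hng (SF.ok.xG_mem_group _ _)) (inv_mem hng), X.sg_mul hng (SF.ok.xG_mem_group _ _),
    X.sg_inv hng, X.sg_xG r.isLt, one_pow, X.sg_xG (SF.wpL L r).isLt, ← hr', (hcx' 1).1, mul_one] at h1
  have := xG_index (b := ⟨ρ (SF.wpL L r).val, (tables _ (SF.wpL L r).isLt).1⟩) hc' h1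
  exact congrArg Fin.val this

theorem sg_mem_U {g : GL chevF4.Idx K} (hg : g ∈ chevF4.posUnipotent K) : X.sg g ∈ chevF4.posUnipotent K := by
  rw [← UL_OP] at hg ⊢
  exact X.sg_UL (good_OP (K := K)).ok hg

theorem sg_mem_B {b : GL chevF4.Idx K} (hb : b ∈ chevF4.borelSubgroup K) : X.sg b ∈ chevF4.borelSubgroup K := by
  obtain ⟨u, hu, d, hd, rfl⟩ := SF.borel_decomp hb
  rw [X.sg_mul (U_le_group hu) (SF.diag_le_group hd)]
  exact mul_mem (SF.B_le_of (X.sg_mem_U hu)) (Subgroup.mem_sup_right (X.sg_mem_diag hd))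

theorem borel_fixed {b : GL chevF4.Idx K} (hb : b ∈ chevF4.borelSubgroup K) (hfix : X.sg b = b) :
    ∃ u ∈ chevF4.posUnipotent K ⊓ X.G1, ∃ d ∈ chevF4.diagonalSubgroup K ⊓ X.G1, b = u * d := by
  obtain ⟨u, hu, d, hd, rfl⟩ := SF.borel_decomp hb
  rw [X.sg_mul (U_le_group hu) (SF.diag_le_group hd)] at hfix
  have h1 : u⁻¹ * X.sg u ∈ chevF4.posUnipotent K ⊓ chevF4.diagonalSubgroup K := by
    refine Subgroup.mem_inf.2 ⟨mul_mem (inv_mem hu) (X.sg_mem_U hu), ?_⟩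
    rw [show u⁻¹ * X.sg u = u⁻¹ * (X.sg u * X.sg d) * (X.sg d)⁻¹ by group, hfix, inv_mul_cancel_left]
    exact mul_mem hd (inv_mem (X.sg_mem_diag hd))
  rw [SF.U_inf_H, Subgroup.mem_bot] at h1
  have hu' : X.sg u = u := (inv_mul_eq_one.1 h1).symm
  rw [hu'] at hfix
  refine ⟨u, ?_, d, ?_, rfl⟩
  · rw [X.U1_eq]; exact ⟨hu, U_le_group hu, hu'⟩
  · rw [X.H1_eq, ← X.H_fixed]; exact ⟨hd, SF.diag_le_group hd, mul_left_cancel hfix⟩

theorem borel_fixed_mem {b : GL chevF4.Idx K} (hb : b ∈ chevF4.borelSubgroup K) (hfix : X.sg b = b) : b ∈ X.G1 := by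
  obtain ⟨u, hu, d, hd, rfl⟩ := X.borel_fixed hb hfix
  exact mul_mem hu.2 hd.2

theorem Gs_cases {g : GL chevF4.Idx K} (hg : g ∈ X.Gs) :
    ∃ k < 16, ∃ b ∈ chevF4.borelSubgroup K ⊓ X.G1, ∃ u ∈ UL K (OPk k) ⊓ X.G1, g = b * X.nk k * u := by
  obtain ⟨b, hb, n, hn, L, ha, u, hu, rfl⟩ := SF.normal_form okNeg_F4 hg.1
  have hbG := SF.borel_le_group hb
  have hnG := SF.mono_le_group hn
  have huU : u ∈ chevF4.posUnipotent K := SF.UPsi_le _ hu
  have hfix := hg.2
  rw [X.sg_mul (mul_mem hbG hnG) (U_le_group huU), X.sg_mul hbG hnG] at hfix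
  have hd := SF.normal_form_cong okNeg_F4 hb (X.sg_mem_B hb) hn (X.sg_mem_mono hn) huU (X.sg_mem_U huU) hfix.symm
  obtain ⟨k, hk, hw⟩ := X.w_fixed hn hd (mul_inv_cancel_left n (X.sg n)).symm ha
  obtain ⟨M, hM, hiff⟩ := SF.exists_act (mul_mem hn (inv_mem (X.nk_mono k)))
  have hnd : n * (X.nk k)⁻¹ ∈ chevF4.diagonalSubgroup K := hiff.1 (by
    have h1 := SF.act_mul hM (g' := X.nk k) (X.nk_act k)
    rw [inv_mul_cancel_right] at h1
    have := SF.act_unique ha h1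
    rw [hw] at this
    exact mul_eq_right.1 this.symm)
  have hb' : b * (n * (X.nk k)⁻¹) ∈ chevF4.borelSubgroup K := mul_mem hb (Subgroup.mem_sup_right hnd)
  have hge : b * n * u = b * (n * (X.nk k)⁻¹) * X.nk k * u := by group
  rw [hw, UPsi_eq hk] at hu
  have hfix' : X.sg (b * (n * (X.nk k)⁻¹)) * X.nk k * X.sg u = b * (n * (X.nk k)⁻¹) * X.nk k * u := by
    have e := hg.2
    rwa [hge, X.sg_mul (mul_mem (SF.borel_le_group hb') (SF.mono_le_group (X.nk_mono k))) (U_le_group huU),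
      X.sg_mul (SF.borel_le_group hb') (SF.mono_le_group (X.nk_mono k)), (X.G1_le (X.nk_mem k)).2] at e
  have hu2 : X.sg u ∈ UL K (OPk k) := X.sg_UL (OPk_ok k hk).1 hu
  obtain ⟨h1, h2⟩ := SF.normal_form_unique okNeg_F4 (X.sg_mem_B hb') hb' (X.nk_act k)
    (by rw [UPsi_eq hk]; exact hu2) (by rw [UPsi_eq hk]; exact hu) hfix'
  refine ⟨k, hk, _, ⟨hb', X.borel_fixed_mem hb' h1⟩, u, ⟨hu, ?_⟩, hge⟩
  exact (Subgroup.mem_inf.1 (X.U1_eq.ge (⟨huU, U_le_group huU, h2⟩ : u ∈ chevF4.posUnipotent K ⊓ X.Gs))).2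

theorem G1_eq : X.G1 = X.Gs := by
  refine le_antisymm X.G1_le fun g hg => ?_
  obtain ⟨k, -, b, hb, u, hu, rfl⟩ := X.Gs_cases hg
  exact mul_mem (mul_mem hb.2 (X.nk_mem k)) hu.2

theorem card_B1 : Nat.card ↥(chevF4.borelSubgroup K ⊓ X.G1) = Fintype.card K ^ 12 * (Fintype.card K - 1) ^ 2 := by
  rw [← X.card_U1, ← X.card_H1, ← Nat.card_prod]
  let f : ↥(chevF4.posUnipotent K ⊓ X.G1) × ↥(chevF4.diagonalSubgroup K ⊓ X.G1) →
      ↥(chevF4.borelSubgroup K ⊓ X.G1) := fun p =>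
    ⟨p.1.1 * p.2.1, mul_mem (SF.B_le_of p.1.2.1) (Subgroup.mem_sup_right p.2.2.1), mul_mem p.1.2.2 p.2.2.2⟩
  refine (Nat.card_eq_of_bijective f ⟨fun p q e => ?_, fun g => ?_⟩).symm
  · have e' : p.1.1 * p.2.1 = q.1.1 * q.2.1 := congrArg Subtype.val e
    have h1 : q.1.1⁻¹ * p.1.1 ∈ chevF4.posUnipotent K ⊓ chevF4.diagonalSubgroup K := by
      refine Subgroup.mem_inf.2 ⟨mul_mem (inv_mem q.1.2.1) p.1.2.1, ?_⟩
      rw [show q.1.1⁻¹ * p.1.1 = q.2.1 * p.2.1⁻¹ by rw [eq_mul_inv_iff_mul_eq, mul_assoc, e', inv_mul_cancel_left]]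
      exact mul_mem q.2.2.1 (inv_mem p.2.2.1)
    rw [SF.U_inf_H, Subgroup.mem_bot, inv_mul_eq_one] at h1
    rw [← h1] at e'
    exact Prod.ext (Subtype.ext h1.symm) (Subtype.ext (mul_left_cancel e'))
  · obtain ⟨u, hu, d, hd, e⟩ := X.borel_fixed g.2.1 (X.G1_le g.2.2).2
    exact ⟨(⟨u, hu⟩, ⟨d, hd⟩), Subtype.ext e.symm⟩

theorem card_G1 : Nat.card ↥X.G1 = Fintype.card K ^ 12 * (Fintype.card K - 1) ^ 2 *
    ∑ k : Fin 16, Fintype.card K ^ (OPk k.val).length := by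
  let f : (Σ k : Fin 16, ↥(chevF4.borelSubgroup K ⊓ X.G1) × ↥(UL K (OPk k.val) ⊓ X.G1)) → ↥X.G1 := fun p =>
    ⟨p.2.1.1 * X.nk p.1.val * p.2.2.1, mul_mem (mul_mem p.2.1.2.2 (X.nk_mem _)) p.2.2.2.2⟩
  have hU : ∀ (k : Fin 16) (u : ↥(UL K (OPk k.val) ⊓ X.G1)), u.1 ∈ SF.UPsi K (Struct.Neg chevF4 (wk k.val)) :=
    fun k u => by rw [UPsi_eq k.isLt]; exact u.2.1
  have hf : Function.Bijective f := by
    refine ⟨fun ⟨k, b, u⟩ ⟨k', b', u'⟩ e => ?_, fun g => ?_⟩
    · have e' : b.1 * X.nk k.val * u.1 = b'.1 * X.nk k'.val * u'.1 := congrArg Subtype.val e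
      have hd := SF.normal_form_cong okNeg_F4 b.2.1 b'.2.1 (X.nk_mono _) (X.nk_mono _)
        (SF.UPsi_le _ (hU k u)) (SF.UPsi_le _ (hU k' u')) e'
      have h1 := SF.act_mul (X.nk_act k.val) (SF.act_diag hd)
      rw [mul_inv_cancel_left, mul_one] at h1
      obtain rfl : k = k' := Fin.ext (wk_inj k.isLt k'.isLt (SF.act_unique h1 (X.nk_act k'.val)))
      obtain ⟨h2, h3⟩ := SF.normal_form_unique okNeg_F4 b.2.1 b'.2.1 (X.nk_act k.val) (hU k u) (hU k u') e'
      rw [Subtype.ext h2, Subtype.ext h3]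
    · obtain ⟨k, hk, b, hb, u, hu, e⟩ := X.Gs_cases (X.G1_le g.2)
      exact ⟨⟨⟨k, hk⟩, ⟨b, hb⟩, ⟨u, hu⟩⟩, Subtype.ext e.symm⟩
  rw [← Nat.card_eq_of_bijective f hf, Nat.card_sigma, Finset.mul_sum]
  refine Finset.sum_congr rfl fun k _ => ?_
  rw [Nat.card_prod, X.card_B1]
  congr 1
  rw [X.G1_eq]
  exact X.card_fix (X.good_OPk k.isLt)

theorem order : Nat.card ↥X.G1 = Fintype.card K ^ 12 * (Fintype.card K - 1) * (Fintype.card K ^ 3 + 1) *
    (Fintype.card K ^ 4 - 1) * (Fintype.card K ^ 6 + 1) := by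
  rw [X.card_G1]
  obtain ⟨a, ha⟩ : ∃ a, Fintype.card K = a + 1 := ⟨Fintype.card K - 1, by have := Fintype.card_pos (α := K); omega⟩
  have h4 : Fintype.card K ^ 4 - 1 = a * ((Fintype.card K + 1) * (Fintype.card K ^ 2 + 1)) := by
    rw [ha]; exact Nat.sub_eq_of_eq_add (by ring)
  rw [h4, show Fintype.card K - 1 = a by omega]
  have hl : ∀ k : Fin 16, (OPk k.val).length = [0, 3, 6, 9, 12, 9, 6, 3, 1, 2, 5, 8, 11, 10, 7, 4].getD k.val 0 :=
    fun k => (OPk_ok k.val k.isLt).2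
  simp only [hl, Fin.sum_univ_succ, Fin.sum_univ_zero, Fin.val_zero, Fin.val_succ, Fin.coe_ofNat_eq_mod]
  simp only [Nat.zero_mod, List.getD_cons_zero, List.getD_cons_succ]
  ring

theorem weyl : ∃ φ : ↥(chevF4.monomialSubgroup K ⊓ X.G1) →* DihedralGroup 8, Function.Surjective φ ∧
    φ.ker = (chevF4.diagonalSubgroup K ⊓ X.G1).subgroupOf (chevF4.monomialSubgroup K ⊓ X.G1) := by
  have hex : ∀ n : ↥(chevF4.monomialSubgroup K ⊓ X.G1), ∃ k < 16, Act SF.ok n.1 (wk k) := fun n => by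
    obtain ⟨L, ha, -⟩ := SF.exists_act n.2.1
    obtain ⟨k, hk, e⟩ := X.w_fixed n.2.1 (one_mem _) (by rw [mul_one]; exact (X.G1_le n.2.2).2) ha
    exact ⟨k, hk, e ▸ ha⟩
  choose I hI hA using hex
  let φ : ↥(chevF4.monomialSubgroup K ⊓ X.G1) →* DihedralGroup 8 := MonoidHom.mk' (fun n => dih (I n)) fun a b => by
    rw [← dih_mul _ (hI a) _ (hI b)]
    refine congrArg dih (wk_inj (hI _) (mulI_lt _ (hI a) _ (hI b)) (SF.act_unique (hA (a * b)) ?_))
    rw [← wk_mul (hI a) (hI b)]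
    exact SF.act_mul (hA a) (hA b)
  refine ⟨φ, fun d => ?_, ?_⟩
  · obtain ⟨k, hk, rfl⟩ := dih_surj d
    refine ⟨⟨X.nk k, X.nk_mono k, X.nk_mem k⟩, congrArg dih (wk_inj (hI _) hk ?_)⟩
    exact SF.act_unique (hA _) (X.nk_act k)
  · ext n
    rw [MonoidHom.mem_ker, Subgroup.mem_subgroupOf, Subgroup.mem_inf]
    refine ⟨fun h => ⟨?_, n.2.2⟩, fun h => ?_⟩
    · obtain ⟨L, ha, hiff⟩ := SF.exists_act n.2.1
      refine hiff.1 ?_
      rw [SF.act_unique ha (hA n), dih_eq_one _ (hI n) h, wk_zero]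
    · have : I n = 0 := wk_inj (hI n) (by norm_num) (by rw [wk_zero]; exact SF.act_unique (hA n) (SF.act_diag h.1))
      show dih (I n) = 1
      rw [this]; rfl

end RF

end Cfsg.Lib.Chev.ReeF
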